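import Cfsg.Agent.Lib.GLn.TorsionClasses

/-! A semisimple matrix is killed by `X ^ r - 1` exactly when all irreducible factors of its
characteristic polynomial divide it. -/

set_option autoImplicit false

namespace Cfsg.Agent.Lib.GLn.TorsionPow

open Polynomial UniqueFactorizationMonoid

universe u

variable {F : Type u} [Field F]

/-- `GL` over an equivalent index set, with the same characteristic polynomials. -/
theorem exists_transport {ι κ : Type} [Fintype ι] [DecidableEq ι] [Fintype κ] [DecidableEq κ] (e : ι ≃ κ) :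
    ∃ ψ : GL ι F ≃* GL κ F, ∀ x, (ψ x : Matrix κ κ F).charpoly = (x : Matrix ι ι F).charpoly := by
  refine ⟨Units.mapEquiv (Matrix.reindexAlgEquiv F F e).toMulEquiv, fun x => ?_⟩
  exact Matrix.charpoly_reindex e (x : Matrix ι ι F)

variable [Fintype F] (p : ℕ) [Fact p.Prime] [CharP F p]

include p in
theorem pow_eq_one_iff {ι : Type} [Fintype ι] [DecidableEq ι] (g : GL ι F) (hg : (orderOf g).Coprime p) (r : ℕ) :
    g ^ r = 1 ↔ ∀ h : F[X], Irreducible h → h.Monic → h ∣ (g : Matrix ι ι F).charpoly → h ∣ X ^ r - 1 := by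
  classical
  obtain ⟨ψ, hval⟩ := exists_transport (F := F) (Fintype.equivFin ι)
  have hψ : (orderOf (ψ g)).Coprime p := by rwa [MulEquiv.orderOf_eq]
  rw [← ψ.injective.eq_iff, map_pow, map_one, TorsionClasses.pow_eq_one_iff_aeval]
  refine ⟨fun hQ h hh hhm hd => TorsionClasses.irreducible_dvd p (ψ g) hψ hQ hhm hh (by rwa [hval]), fun H => ?_⟩
  set P := (ψ g : Matrix (Fin (Fintype.card ι)) (Fin (Fintype.card ι)) F).charpoly with hP
  have hPm : P.Monic := Matrix.charpoly_monic _
  have hdvd : P ∣ (X ^ r - 1 : F[X]) ^ (normalizedFactors P).card := by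
    refine (prod_normalizedFactors hPm.ne_zero).symm.dvd.trans ?_
    conv_lhs => rw [← Multiset.map_id (normalizedFactors P)]
    refine (Multiset.prod_dvd_prod_of_dvd id (fun _ => (X ^ r - 1 : F[X])) fun h hh => ?_).trans (by
      rw [Multiset.map_const', Multiset.prod_replicate])
    have hi := irreducible_of_normalized_factor h hh
    have hm : h.Monic := by
      rw [← normalize_normalized_factor h hh]; exact monic_normalize hi.ne_zero
    exact H h hi hm (by rw [← hval]; exact dvd_of_mem_normalizedFactors hh)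
  have h0 : P.coeff 0 ≠ 0 := by
    intro h0
    have hu : IsUnit ((ψ g : Matrix (Fin (Fintype.card ι)) (Fin (Fintype.card ι)) F)).det := (Matrix.isUnit_iff_isUnit_det _).1 (ψ g).isUnit
    exact hu.ne_zero (by rw [Matrix.det_eq_sign_charpoly_coeff, ← hP, h0, mul_zero])
  obtain ⟨g', hg', hgc, hgQ⟩ := TorsionClasses.exists_gl p P (X ^ r - 1) _ hPm
    (by rw [hP, Matrix.charpoly_natDegree_eq_dim, Fintype.card_fin]) h0 hdvd
  rw [← TorsionClasses.pow_eq_one_iff_aeval] at hgQ ⊢
  obtain ⟨x, hx⟩ := isConj_iff.1 (SemisimpleCharpoly.isConj_gl p g' (ψ g) hg' hψ (hgc.trans hP))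
  rw [← hx, conj_pow, hgQ, mul_one, mul_inv_cancel]

end Cfsg.Agent.Lib.GLn.TorsionPow
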