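import Cfsg.Agent.S2569

/-!
# Semisimple endomorphisms are classified by their characteristic polynomials
-/

set_option autoImplicit false

namespace Cfsg.Agent.Lib.GLn.SemisimpleCharpoly

open Polynomial

universe u v

variable {F : Type u} [Field F]

/-- Splitting off a cyclic summand. -/
theorem split_cyclic {V : Type v} [AddCommGroup V] [Module F V] [FiniteDimensional F V] (T : Module.End F V)
    (hss : T.IsSemisimple) (f : F[X]) (hfm : f.Monic) (hf : Irreducible f) (v : V) (hv0 : v ≠ 0)
    (hv : aeval T f v = 0) :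
    ∃ (U : Submodule F V) (hU : U ∈ T.invtSubmodule) (Φ : (AdjoinRoot f × U) ≃ₗ[F] V),
      (∀ x, T (Φ x) = Φ ((Algebra.lmul F (AdjoinRoot f) (AdjoinRoot.root f)).prodMap (T.restrict hU) x)) ∧
      Module.End.IsSemisimple (T.restrict hU) ∧ T.charpoly = f * (T.restrict hU).charpoly ∧
      f.natDegree + Module.finrank F U = Module.finrank F V := by
  classical
  haveI : Fact (Irreducible f) := ⟨hf⟩
  haveI : Module.Finite F (AdjoinRoot f) := (AdjoinRoot.powerBasis hf.ne_zero).finite
  let ev : F[X] →ₗ[F] V := (LinearMap.applyₗ v).comp (aeval T).toLinearMap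
  have hev : ∀ p, f ∣ p → ev p = 0 := by
    rintro _ ⟨c, rfl⟩
    show aeval T (f * c) v = 0
    rw [mul_comm, map_mul, Module.End.mul_apply, hv, map_zero]
  let ι0 : AdjoinRoot f →ₗ[F] V :=
    { toFun := Quotient.lift (fun p => ev p) (fun p p' hp => by
        rw [← sub_eq_zero, ← map_sub]
        exact hev _ (Ideal.mem_span_singleton.1 ((Submodule.quotientRel_def _).1 hp)))
      map_add' := fun a b => by
        induction a using AdjoinRoot.induction_on with | _ p =>
        induction b using AdjoinRoot.induction_on with | _ q =>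
        exact map_add ev p q
      map_smul' := fun c a => by
        induction a using AdjoinRoot.induction_on with | _ p =>
        show ev (c • p) = c • ev p
        exact map_smul ev c p }
  have hι : ∀ p, ι0 (AdjoinRoot.mk f p) = aeval T p v := fun p => rfl
  have hroot : ∀ a, ι0 (AdjoinRoot.root f * a) = T (ι0 a) := by
    intro a
    induction a using AdjoinRoot.induction_on with | _ p =>
    rw [← AdjoinRoot.mk_X, ← map_mul, hι, hι, map_mul, aeval_X, Module.End.mul_apply]
  have hinj : Function.Injective ι0 := by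
    rw [← LinearMap.ker_eq_bot, eq_bot_iff]
    intro a ha
    induction a using AdjoinRoot.induction_on with | _ p =>
    rw [LinearMap.mem_ker, hι] at ha
    rw [Submodule.mem_bot, AdjoinRoot.mk_eq_zero]
    by_contra hnd
    obtain ⟨u, w, huw⟩ := (hf.coprime_iff_not_dvd.2 hnd)
    have := congrArg (fun q => aeval T q v) huw
    simp [map_add, map_mul, Module.End.mul_apply, ha, hv] at this
    exact hv0 this.symm
  let W := LinearMap.range ι0
  have hWinv : W ∈ T.invtSubmodule := by
    rintro _ ⟨a, rfl⟩
    exact ⟨AdjoinRoot.root f * a, hroot a⟩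
  obtain ⟨U, hUinv, hU⟩ := Module.End.isSemisimple_iff.1 hss W hWinv
  let Φ : (AdjoinRoot f × U) ≃ₗ[F] V :=
    ((LinearEquiv.ofInjective ι0 hinj).prodCongr (LinearEquiv.refl F U)).trans
      (Submodule.prodEquivOfIsCompl W U hU)
  have hΦ : ∀ x, T (Φ x) =
      Φ ((Algebra.lmul F (AdjoinRoot f) (AdjoinRoot.root f)).prodMap (T.restrict hUinv) x) := by
    rintro ⟨a, u⟩
    show T (Submodule.prodEquivOfIsCompl W U hU (LinearEquiv.ofInjective ι0 hinj a, u))
        = Submodule.prodEquivOfIsCompl W U hU (LinearEquiv.ofInjective ι0 hinj (AdjoinRoot.root f * a), _)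
    simp [Submodule.coe_prodEquivOfIsCompl', hroot]
    rfl
  have hcp : (Algebra.lmul F (AdjoinRoot f) (AdjoinRoot.root f)).charpoly = f := by
    rw [← LinearMap.charpoly_toMatrix _ (AdjoinRoot.powerBasis hf.ne_zero).basis]
    have h := charpoly_leftMulMatrix (AdjoinRoot.powerBasis hf.ne_zero)
    rw [AdjoinRoot.powerBasis_gen, Algebra.leftMulMatrix_apply] at h
    rw [h, AdjoinRoot.minpoly_root hf.ne_zero, hfm.leadingCoeff, inv_one, C_1, mul_one]
  refine ⟨U, hUinv, Φ, hΦ, hss.restrict hUinv, ?_, ?_⟩
  · have e : Φ.conj ((Algebra.lmul F (AdjoinRoot f) (AdjoinRoot.root f)).prodMap (T.restrict hUinv)) = T :=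
      LinearMap.ext fun x => by rw [LinearEquiv.conj_apply_apply, ← hΦ, Φ.apply_symm_apply]
    refine (congrArg LinearMap.charpoly e).symm.trans ?_
    rw [LinearEquiv.charpoly_conj, LinearMap.charpoly_prodMap, hcp]
  · rw [← Φ.finrank_eq, Module.finrank_prod, (AdjoinRoot.powerBasis hf.ne_zero).finrank,
      AdjoinRoot.powerBasis_dim]

/-- A vector killed by an irreducible factor of the minimal polynomial. -/
theorem exists_vec_of_minpoly {V : Type v} [AddCommGroup V] [Module F V] [FiniteDimensional F V]
    [Nontrivial V] (T : Module.End F V) :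
    ∃ (f : F[X]) (v : V), f.Monic ∧ Irreducible f ∧ v ≠ 0 ∧ aeval T f v = 0 := by
  obtain ⟨f, hfm, hf, r, hr⟩ := exists_monic_irreducible_factor (minpoly F T) (minpoly.not_isUnit F T)
  have hr0 : r ≠ 0 := fun h => minpoly.ne_zero (Algebra.IsIntegral.isIntegral T) (by rw [hr, h, mul_zero])
  have hne : aeval T r ≠ 0 := fun h => by
    have := natDegree_le_of_dvd (minpoly.dvd F T h) hr0
    rw [hr, natDegree_mul hf.ne_zero hr0] at this
    have := hf.natDegree_pos
    omega
  obtain ⟨w, hw⟩ : ∃ w, aeval T r w ≠ 0 := by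
    by_contra h
    push Not at h
    exact hne (LinearMap.ext h)
  refine ⟨f, _, hfm, hf, hw, ?_⟩
  rw [← Module.End.mul_apply, ← map_mul, ← hr, minpoly.aeval, LinearMap.zero_apply]

/-- Every irreducible factor of the characteristic polynomial kills a nonzero vector. -/
theorem exists_vec {f : F[X]} (hfm : f.Monic) (hf : Irreducible f) :
    ∀ (n : ℕ) {V : Type v} [AddCommGroup V] [Module F V] [FiniteDimensional F V] (T : Module.End F V),
      Module.finrank F V = n → T.IsSemisimple → f ∣ T.charpoly → ∃ v : V, v ≠ 0 ∧ aeval T f v = 0 := by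
  intro n
  induction n using Nat.strong_induction_on with
  | _ n ih =>
    intro V _ _ _ T hn hss hdvd
    rcases Nat.eq_zero_or_pos n with h0 | h0
    · exfalso
      have h1 := natDegree_le_of_dvd hdvd T.charpoly_monic.ne_zero
      rw [LinearMap.charpoly_natDegree, hn, h0] at h1
      have := hf.natDegree_pos
      omega
    haveI : Nontrivial V := Module.nontrivial_of_finrank_pos (R := F) (by omega)
    obtain ⟨g, v, hgm, hg, hv0, hv⟩ := exists_vec_of_minpoly T
    obtain ⟨U, hU, Φ, -, hUss, hcp, hdim⟩ := split_cyclic T hss g hgm hg v hv0 hv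
    rw [hcp] at hdvd
    rcases hf.prime.dvd_or_dvd hdvd with h | h
    · rw [eq_of_monic_of_associated hfm hgm (hf.associated_of_dvd hg h)]
      exact ⟨v, hv0, hv⟩
    · have := hg.natDegree_pos
      obtain ⟨u, hu0, hu⟩ := ih (Module.finrank F U) (by omega) (T.restrict hU) rfl hUss h
      refine ⟨u, fun e => hu0 (Subtype.ext e), ?_⟩
      have key : ∀ (p : F[X]) (w : U), ((aeval (T.restrict hU) p w : U) : V) = aeval T p (w : V) := by
        intro p
        induction p using Polynomial.induction_on' with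
        | add a b ha hb => intro w; simp [ha, hb]
        | monomial k c =>
          intro w
          rw [aeval_monomial, aeval_monomial, Module.End.mul_apply, Module.End.mul_apply,
            Module.algebraMap_end_apply, Module.algebraMap_end_apply, Submodule.coe_smul]
          congr 1
          clear hu hu0
          induction k generalizing w with
          | zero => rfl
          | succ k ihk => rw [pow_succ, pow_succ, Module.End.mul_apply, Module.End.mul_apply, ihk]; rfl
      rw [← key, hu]
      rfl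

/-- Semisimple endomorphisms with the same characteristic polynomial are similar. -/
theorem exists_intertwine :
    ∀ (n : ℕ) {V W : Type v} [AddCommGroup V] [Module F V] [FiniteDimensional F V] [AddCommGroup W] [Module F W]
      [FiniteDimensional F W] (T : Module.End F V) (S : Module.End F W),
      Module.finrank F V = n → T.IsSemisimple → S.IsSemisimple → T.charpoly = S.charpoly →
      ∃ e : V ≃ₗ[F] W, ∀ x, e (T x) = S (e x) := by
  intro n
  induction n using Nat.strong_induction_on with
  | _ n ih =>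
    intro V W _ _ _ _ _ _ T S hn hT hS hc
    have hdim : Module.finrank F V = Module.finrank F W := by
      rw [← T.charpoly_natDegree, hc, S.charpoly_natDegree]
    rcases Nat.eq_zero_or_pos n with h0 | h0
    · haveI : Subsingleton V := Module.finrank_zero_iff.1 (hn.trans h0)
      haveI : Subsingleton W := Module.finrank_zero_iff.1 (hdim ▸ hn.trans h0)
      exact ⟨LinearEquiv.ofFinrankEq V W hdim, fun x => Subsingleton.elim _ _⟩
    haveI : Nontrivial V := Module.nontrivial_of_finrank_pos (R := F) (by omega)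
    obtain ⟨f, v, hfm, hf, hv0, hv⟩ := exists_vec_of_minpoly T
    obtain ⟨U, hU, Φ, hΦ, hUss, hcp, hd⟩ := split_cyclic T hT f hfm hf v hv0 hv
    obtain ⟨w, hw0, hw⟩ := exists_vec hfm hf _ S rfl hS (hc ▸ hcp ▸ dvd_mul_right f _)
    obtain ⟨U', hU', Φ', hΦ', hUss', hcp', hd'⟩ := split_cyclic S hS f hfm hf w hw0 hw
    rw [hcp, hcp'] at hc
    have := hf.natDegree_pos
    obtain ⟨e, he⟩ := ih (Module.finrank F U) (by omega) (T.restrict hU) (S.restrict hU') rfl hUss hUss'
      (mul_left_cancel₀ hf.ne_zero hc)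
    refine ⟨Φ.symm.trans (((LinearEquiv.refl F (AdjoinRoot f)).prodCongr e).trans Φ'), fun x => ?_⟩
    obtain ⟨⟨a, u⟩, rfl⟩ := Φ.surjective x
    rw [hΦ]
    simp only [LinearEquiv.trans_apply, LinearEquiv.symm_apply_apply]
    rw [hΦ']
    simp [LinearEquiv.prodCongr_apply, he]

variable [Fintype F] (p : ℕ) [Fact p.Prime] [CharP F p]

theorem cast_ne_zero_of_coprime {m : ℕ} (h : m.Coprime p) : (m : F) ≠ 0 := by
  rw [Ne, CharP.cast_eq_zero_iff F p]
  exact fun hd => (Fact.out : p.Prime).not_dvd_one (h.gcd_eq_one ▸ Nat.dvd_gcd hd dvd_rfl)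

include p in
theorem isSemisimple_of_pow {V : Type v} [AddCommGroup V] [Module F V] [FiniteDimensional F V] (T : Module.End F V)
    {m : ℕ} (hm : m.Coprime p) (h : T ^ m = 1) : T.IsSemisimple := by
  refine Module.End.isSemisimple_of_squarefree_aeval_eq_zero (p := X ^ m - 1) ?_ (by simp [h])
  exact (Polynomial.separable_X_pow_sub_C (1 : F) (cast_ne_zero_of_coprime p hm) one_ne_zero |> fun h =>
    (by simpa using h : (X ^ m - 1 : F[X]).Separable)).squarefree

include p in
/-- Similar over `GL`. -/
theorem isConj_gl {ι : Type} [Fintype ι] [DecidableEq ι] (g h : GL ι F) (hg : (orderOf g).Coprime p) (hh : (orderOf h).Coprime p)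
    (hc : (g : Matrix ι ι F).charpoly = (h : Matrix ι ι F).charpoly) : IsConj g h := by
  classical
  set T := Matrix.toLinAlgEquiv' (g : Matrix ι ι F) with hT
  set S := Matrix.toLinAlgEquiv' (h : Matrix ι ι F) with hS
  have hcT : ∀ A : Matrix ι ι F, (Matrix.toLinAlgEquiv' A).charpoly = A.charpoly := fun A => by
    rw [← LinearMap.charpoly_toMatrix _ (Pi.basisFun F ι)]
    exact congrArg Matrix.charpoly (LinearMap.toMatrix'_toLin' A)
  obtain ⟨e, he⟩ := exists_intertwine _ T S rfl
    (isSemisimple_of_pow p T hg (by rw [hT, ← map_pow, ← Units.val_pow_eq_pow_val, pow_orderOf_eq_one, Units.val_one, map_one]))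
    (isSemisimple_of_pow p S hh (by rw [hS, ← map_pow, ← Units.val_pow_eq_pow_val, pow_orderOf_eq_one, Units.val_one, map_one]))
    (by rw [hcT, hcT, hc])
  set c : Matrix ι ι F := LinearMap.toMatrix' (e : (ι → F) →ₗ[F] (ι → F)) with hcdef
  set c' : Matrix ι ι F := LinearMap.toMatrix' (e.symm : (ι → F) →ₗ[F] (ι → F))
  have h1 : c * c' = 1 := by
    rw [← LinearMap.toMatrix'_comp]; simp
  have h2 : c' * c = 1 := by
    rw [← LinearMap.toMatrix'_comp]; simp
  refine isConj_iff.2 ⟨⟨c, c', h1, h2⟩, ?_⟩
  rw [mul_inv_eq_iff_eq_mul]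
  apply Units.ext
  change c * (g : Matrix ι ι F) = (h : Matrix ι ι F) * c
  conv_lhs => rw [← LinearMap.toMatrix'_toLin' (g : Matrix ι ι F)]
  conv_rhs => rw [← LinearMap.toMatrix'_toLin' (h : Matrix ι ι F)]
  rw [← LinearMap.toMatrix'_comp, ← LinearMap.toMatrix'_comp]
  exact congrArg LinearMap.toMatrix' (LinearMap.ext fun x => he x)

include p in
/-- Similar over `SL`. -/
theorem isConj_sl {n : ℕ} (g h : Matrix.SpecialLinearGroup (Fin n) F) (hg : (orderOf g).Coprime p)
    (hh : (orderOf h).Coprime p)
    (hc : (g : Matrix (Fin n) (Fin n) F).charpoly = (h : Matrix (Fin n) (Fin n) F).charpoly) : IsConj g h := by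
  have hord : ∀ a : Matrix.SpecialLinearGroup (Fin n) F, orderOf (Matrix.SpecialLinearGroup.toGL a) = orderOf a :=
    fun a => orderOf_injective Matrix.SpecialLinearGroup.toGL Matrix.SpecialLinearGroup.toGL_injective a
  obtain ⟨c, hc'⟩ := isConj_iff.1 (isConj_gl p (Matrix.SpecialLinearGroup.toGL g) (Matrix.SpecialLinearGroup.toGL h)
    (by rwa [hord]) (by rwa [hord]) hc)
  obtain ⟨k, hk, hk'⟩ := Cfsg.Agent.S2569.result (p := p) (Matrix.SpecialLinearGroup.toGL g) c (by rwa [hord])
  let k' : Matrix.SpecialLinearGroup (Fin n) F := ⟨(k : Matrix (Fin n) (Fin n) F), hk⟩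
  have hk0 : Matrix.SpecialLinearGroup.toGL k' = k := Units.ext rfl
  refine isConj_iff.2 ⟨k', ?_⟩
  apply Matrix.SpecialLinearGroup.toGL_injective
  rw [map_mul, map_mul, map_inv, hk0, hk', hc']

end Cfsg.Agent.Lib.GLn.SemisimpleCharpoly
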