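import Cfsg.Agent.Lib.GLn.SemisimpleCharpoly

/-!
# Counting semisimple classes
-/

set_option autoImplicit false

namespace Cfsg.Agent.Lib.GLn.SemisimpleClasses

open Polynomial Matrix

universe u

variable {F : Type u} [Field F] [Fintype F] (p : ℕ) [Fact p.Prime] [CharP F p]

include p in
/-- An element of order prime to `p` with prescribed irreducible characteristic polynomial. -/
theorem exists_block (f : F[X]) (hfm : f.Monic) (hf : Irreducible f) (h0 : f.coeff 0 ≠ 0) :
    ∃ (M : Matrix (Fin f.natDegree) (Fin f.natDegree) F) (m : ℕ), m.Coprime p ∧ M ^ m = 1 ∧ M.charpoly = f := by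
  classical
  haveI : Fact (Irreducible f) := ⟨hf⟩
  let pb := AdjoinRoot.powerBasis hf.ne_zero
  haveI : Module.Finite F (AdjoinRoot f) := pb.finite
  haveI : Finite (AdjoinRoot f) := Module.finite_of_finite F
  haveI : Fintype (AdjoinRoot f) := Fintype.ofFinite _
  haveI : CharP (AdjoinRoot f) p := charP_of_injective_algebraMap (algebraMap F (AdjoinRoot f)).injective p
  have hr : AdjoinRoot.root f ≠ 0 := fun e => by
    have h1 := AdjoinRoot.aeval_eq (f := f) f
    rw [AdjoinRoot.mk_self, e, Polynomial.aeval_def, Polynomial.eval₂_at_zero] at h1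
    exact h0 ((algebraMap F (AdjoinRoot f)).injective (h1.trans (map_zero _).symm))
  have hcop : (Fintype.card (AdjoinRoot f) - 1).Coprime p := by
    obtain ⟨n, hp, hn⟩ := FiniteField.card (AdjoinRoot f) p
    refine ((hp.coprime_iff_not_dvd).2 fun h => ?_).symm
    have h1 : p ∣ Fintype.card (AdjoinRoot f) := hn ▸ dvd_pow_self p n.2.ne'
    have h2 := Nat.dvd_sub h1 h
    have := Fintype.one_lt_card (α := AdjoinRoot f)
    rw [show Fintype.card (AdjoinRoot f) - (Fintype.card (AdjoinRoot f) - 1) = 1 by omega] at h2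
    exact hp.ne_one (Nat.dvd_one.1 h2)
  refine ⟨(Matrix.reindexAlgEquiv F F (finCongr (AdjoinRoot.powerBasis_dim hf.ne_zero)))
      (Algebra.leftMulMatrix pb.basis pb.gen), _, hcop, ?_, ?_⟩
  · rw [← map_pow, ← map_pow, AdjoinRoot.powerBasis_gen, FiniteField.pow_card_sub_one_eq_one _ hr, map_one, map_one]
  · rw [Matrix.coe_reindexAlgEquiv, Matrix.charpoly_reindex, charpoly_leftMulMatrix, AdjoinRoot.powerBasis_gen,
      AdjoinRoot.minpoly_root hf.ne_zero, hfm.leadingCoeff, inv_one, C_1, mul_one]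

include p in
/-- An element of order prime to `p` with prescribed characteristic polynomial. -/
theorem exists_matrix : ∀ (n : ℕ) (P : F[X]), P.Monic → P.natDegree = n → P.coeff 0 ≠ 0 →
    ∃ (M : Matrix (Fin n) (Fin n) F) (m : ℕ), m.Coprime p ∧ M ^ m = 1 ∧ M.charpoly = P := by
  intro n
  induction n using Nat.strong_induction_on with
  | _ n ih =>
    intro P hP hn h0
    rcases Nat.eq_zero_or_pos n with e | e
    · subst e
      refine ⟨1, 1, Nat.coprime_one_left p, one_pow 1, ?_⟩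
      rw [eq_one_of_monic_natDegree_zero hP hn]
      exact Matrix.charpoly_isEmpty
    obtain ⟨f, hfm, hf, r, hr⟩ := exists_monic_irreducible_factor P (fun h => by
      have := natDegree_eq_zero_of_isUnit h
      omega)
    have hrm : r.Monic := hfm.of_mul_monic_left (hr ▸ hP)
    have hd : n = f.natDegree + r.natDegree := by rw [← hn, hr, hfm.natDegree_mul hrm]
    have hc : f.coeff 0 ≠ 0 ∧ r.coeff 0 ≠ 0 := by
      rw [hr, mul_coeff_zero] at h0
      exact mul_ne_zero_iff.1 h0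
    have := hf.natDegree_pos
    obtain ⟨A, a, ha, hA, hAc⟩ := exists_block p f hfm hf hc.1
    obtain ⟨B, b, hb, hB, hBc⟩ := ih r.natDegree (by omega) r hrm rfl hc.2
    let e' : Fin f.natDegree ⊕ Fin r.natDegree ≃ Fin n := finSumFinEquiv.trans (finCongr hd.symm)
    refine ⟨Matrix.reindexAlgEquiv F F e' (Matrix.fromBlocks A 0 0 B), a * b, Nat.Coprime.mul_left ha hb, ?_, ?_⟩
    · rw [← map_pow, Matrix.fromBlocks_diagonal_pow, pow_mul, hA, one_pow, mul_comm a b, pow_mul, hB, one_pow,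
        Matrix.fromBlocks_one, map_one]
    · rw [Matrix.coe_reindexAlgEquiv, Matrix.charpoly_reindex, Matrix.charpoly_fromBlocks_zero₁₂, hAc, hBc, ← hr]

/-- Monic polynomials of degree `n` are coefficient tuples. -/
noncomputable def monicEquiv (F : Type u) [Field F] (n : ℕ) :
    (Fin n → F) ≃ {P : F[X] // P.Monic ∧ P.natDegree = n} where
  toFun c := ⟨X ^ n + ∑ i : Fin n, C (c i) * X ^ (i : ℕ), by
    have hdeg : (∑ i : Fin n, C (c i) * X ^ (i : ℕ)).degree < (n : WithBot ℕ) := by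
      refine (degree_sum_le _ _).trans_lt ((Finset.sup_lt_iff (WithBot.bot_lt_coe n)).2 fun i _ => ?_)
      exact (degree_C_mul_X_pow_le _ _).trans_lt (Nat.cast_lt.2 i.isLt)
    have hdeg' : (∑ i : Fin n, C (c i) * X ^ (i : ℕ)).degree < (X ^ n : F[X]).degree := by rwa [degree_X_pow]
    exact ⟨(monic_X_pow n).add_of_left hdeg',
      natDegree_eq_of_degree_eq_some ((degree_add_eq_left_of_degree_lt hdeg').trans (degree_X_pow n))⟩⟩
  invFun P i := P.1.coeff i
  left_inv c := by
    funext i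
    change (X ^ n + ∑ j : Fin n, C (c j) * X ^ (j : ℕ)).coeff (i : ℕ) = c i
    rw [coeff_add, coeff_X_pow, if_neg (by have := i.isLt; omega), zero_add, finset_sum_coeff,
      Finset.sum_eq_single i]
    · rw [coeff_C_mul_X_pow, if_pos rfl]
    · intro j _ hj
      rw [coeff_C_mul_X_pow, if_neg (fun h => hj (Fin.ext h.symm))]
    · simp
  right_inv P := by
    obtain ⟨P, hP, hn⟩ := P
    refine Subtype.ext ?_
    subst hn
    change X ^ P.natDegree + ∑ i : Fin P.natDegree, C (P.coeff i) * X ^ (i : ℕ) = P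
    conv_rhs => rw [hP.as_sum]
    rw [Fin.sum_univ_eq_sum_range (fun i => C (P.coeff i) * X ^ i)]

include p in
/-- Semisimple classes of `GL`. -/
theorem card_gl {n : ℕ} (hn : 1 ≤ n) :
    Nat.card {c : ConjClasses (GL (Fin n) F) // ∃ g : GL (Fin n) F, ConjClasses.mk g = c ∧ (orderOf g).Coprime p} =
      (Fintype.card F - 1) * Fintype.card F ^ (n - 1) := by
  classical
  haveI : NeZero n := ⟨by omega⟩
  obtain ⟨k, rfl⟩ : ∃ k, n = k + 1 := ⟨n - 1, by omega⟩
  let T := {c : Fin (k + 1) → F // c 0 ≠ 0}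
  have hT : Nat.card T = (Fintype.card F - 1) * Fintype.card F ^ k := by
    rw [Nat.card_congr (show T ≃ {a : F // a ≠ 0} × (Fin k → F) from
      ((Fin.consEquiv fun _ : Fin (k + 1) => F).symm.subtypeEquiv (q := fun x => x.1 ≠ 0) (fun c => Iff.rfl)).trans
        ⟨fun x => (⟨x.1.1, x.2⟩, x.1.2), fun y => ⟨(y.1.1, y.2), y.1.2⟩, fun _ => rfl, fun _ => rfl⟩)]
    rw [Nat.card_prod, Nat.card_eq_fintype_card, Nat.card_fun, Nat.card_eq_fintype_card, Nat.card_eq_fintype_card,
      Fintype.card_fin, Fintype.card_subtype_compl, Fintype.card_subtype_eq]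
  rw [show k + 1 - 1 = k from rfl, ← hT]
  have hc0 : ∀ g : GL (Fin (k + 1)) F, (g : Matrix (Fin (k + 1)) (Fin (k + 1)) F).charpoly.coeff 0 ≠ 0 := fun g h => by
    have h1 := Matrix.det_eq_sign_charpoly_coeff (g : Matrix (Fin (k + 1)) (Fin (k + 1)) F)
    rw [h, mul_zero, ← Matrix.GeneralLinearGroup.val_det_apply] at h1
    exact Units.ne_zero _ h1
  symm
  have hex : ∀ c : T, ∃ g : GL (Fin (k + 1)) F, (orderOf g).Coprime p ∧
      (g : Matrix (Fin (k + 1)) (Fin (k + 1)) F).charpoly = (monicEquiv F (k + 1) c.1).1 := fun c => by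
    obtain ⟨hm, hd⟩ := (monicEquiv F (k + 1) c.1).2
    have h0 : (monicEquiv F (k + 1) c.1).1.coeff 0 ≠ 0 := by
      have := congrFun ((monicEquiv F (k + 1)).symm_apply_apply c.1) 0
      exact fun h => c.2 (this ▸ h)
    obtain ⟨M, m, hm', hMm, hMc⟩ := exists_matrix p (k + 1) _ hm hd h0
    have hm0 : m ≠ 0 := fun e => (Fact.out : p.Prime).ne_one (by simpa [e] using hm')
    let g : GL (Fin (k + 1)) F := Units.ofPowEqOne M m hMm hm0
    exact ⟨g, Nat.Coprime.of_dvd_left (orderOf_dvd_of_pow_eq_one (Units.pow_ofPowEqOne hMm hm0)) hm', hMc⟩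
  choose g hg hgc using hex
  refine Nat.card_congr (Equiv.ofBijective (fun c => ⟨ConjClasses.mk (g c), g c, rfl, hg c⟩) ⟨fun c c' e => ?_, ?_⟩)
  · obtain ⟨x, hx⟩ := isConj_iff.1 (ConjClasses.mk_eq_mk_iff_isConj.1 (congrArg Subtype.val e))
    have h1 : (g c : Matrix (Fin (k + 1)) (Fin (k + 1)) F).charpoly =
        (g c' : Matrix (Fin (k + 1)) (Fin (k + 1)) F).charpoly := by
      rw [← hx, Units.val_mul, Units.val_mul, Matrix.coe_units_inv]
      exact (Matrix.charpoly_units_conj x (g c : Matrix (Fin (k + 1)) (Fin (k + 1)) F)).symm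
    rw [hgc, hgc] at h1
    exact Subtype.ext ((monicEquiv F (k + 1)).injective (Subtype.ext h1))
  · rintro ⟨_, h, rfl, hh⟩
    have hmon : (h : Matrix (Fin (k + 1)) (Fin (k + 1)) F).charpoly.Monic := Matrix.charpoly_monic _
    have hdeg : (h : Matrix (Fin (k + 1)) (Fin (k + 1)) F).charpoly.natDegree = k + 1 := by
      rw [Matrix.charpoly_natDegree_eq_dim, Fintype.card_fin]
    refine ⟨⟨(monicEquiv F (k + 1)).symm ⟨_, hmon, hdeg⟩, hc0 h⟩, Subtype.ext ?_⟩
    refine ConjClasses.mk_eq_mk_iff_isConj.2 (SemisimpleCharpoly.isConj_gl p _ _ (hg _) hh ?_)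
    rw [hgc, Equiv.apply_symm_apply]

include p in
/-- Semisimple classes of `SL`. -/
theorem card_sl {n : ℕ} (hn : 1 ≤ n) :
    Nat.card {c : ConjClasses (Matrix.SpecialLinearGroup (Fin n) F) //
      ∃ g : Matrix.SpecialLinearGroup (Fin n) F, ConjClasses.mk g = c ∧ (orderOf g).Coprime p} =
      Fintype.card F ^ (n - 1) := by
  classical
  obtain ⟨k, rfl⟩ : ∃ k, n = k + 1 := ⟨n - 1, by omega⟩
  let e0 : F := (-1) ^ (k + 1)
  have he : e0 * e0 = 1 := by rw [← mul_pow]; simp
  let T := {c : Fin (k + 1) → F // c 0 = e0}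
  have hT : Nat.card T = Fintype.card F ^ k := by
    rw [Nat.card_congr (show T ≃ (Fin k → F) from
      ⟨fun c => Fin.tail c.1, fun t => ⟨Fin.cons e0 t, rfl⟩,
        fun c => Subtype.ext (by
          change Fin.cons e0 (Fin.tail c.1) = c.1
          funext i
          refine Fin.cases ?_ (fun j => ?_) i
          · simp [c.2]
          · simp [Fin.tail]), fun t => Fin.tail_cons _ _⟩)]
    rw [Nat.card_fun, Nat.card_eq_fintype_card, Nat.card_eq_fintype_card, Fintype.card_fin]
  rw [show k + 1 - 1 = k from rfl, ← hT]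
  have hc0 : ∀ g : Matrix.SpecialLinearGroup (Fin (k + 1)) F,
      (g : Matrix (Fin (k + 1)) (Fin (k + 1)) F).charpoly.coeff 0 = e0 := fun g => by
    have h1 := Matrix.det_eq_sign_charpoly_coeff (g : Matrix (Fin (k + 1)) (Fin (k + 1)) F)
    rw [g.2, Fintype.card_fin] at h1
    calc (g : Matrix (Fin (k + 1)) (Fin (k + 1)) F).charpoly.coeff 0
        = e0 * (e0 * (g : Matrix (Fin (k + 1)) (Fin (k + 1)) F).charpoly.coeff 0) := by rw [← mul_assoc, he, one_mul]
      _ = e0 := by rw [show e0 * (g : Matrix (Fin (k + 1)) (Fin (k + 1)) F).charpoly.coeff 0 = 1 from h1.symm, mul_one]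
  symm
  have hex : ∀ c : T, ∃ g : Matrix.SpecialLinearGroup (Fin (k + 1)) F, (orderOf g).Coprime p ∧
      (g : Matrix (Fin (k + 1)) (Fin (k + 1)) F).charpoly = (monicEquiv F (k + 1) c.1).1 := fun c => by
    obtain ⟨hm, hd⟩ := (monicEquiv F (k + 1) c.1).2
    have h0 : (monicEquiv F (k + 1) c.1).1.coeff 0 = e0 :=
      (congrFun ((monicEquiv F (k + 1)).symm_apply_apply c.1) 0).trans c.2
    obtain ⟨M, m, hm', hMm, hMc⟩ := exists_matrix p (k + 1) _ hm hd (by
      rw [h0]; exact fun e => one_ne_zero (he.symm.trans (by rw [e, zero_mul])))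
    have hdet : M.det = 1 := by
      rw [Matrix.det_eq_sign_charpoly_coeff, hMc, h0, Fintype.card_fin]
      exact he
    let g : Matrix.SpecialLinearGroup (Fin (k + 1)) F := ⟨M, hdet⟩
    have hgm : g ^ m = 1 := Subtype.ext (by
      rw [Matrix.SpecialLinearGroup.coe_pow]; exact hMm)
    exact ⟨g, Nat.Coprime.of_dvd_left (orderOf_dvd_of_pow_eq_one hgm) hm', hMc⟩
  choose g hg hgc using hex
  refine Nat.card_congr (Equiv.ofBijective (fun c => ⟨ConjClasses.mk (g c), g c, rfl, hg c⟩) ⟨fun c c' e => ?_, ?_⟩)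
  · obtain ⟨x, hx⟩ := isConj_iff.1 (ConjClasses.mk_eq_mk_iff_isConj.1 (congrArg Subtype.val e))
    have h1 : (g c : Matrix (Fin (k + 1)) (Fin (k + 1)) F).charpoly =
        (g c' : Matrix (Fin (k + 1)) (Fin (k + 1)) F).charpoly := by
      have e2 : (((x * g c * x⁻¹) : Matrix.SpecialLinearGroup (Fin (k + 1)) F) : Matrix (Fin (k + 1)) (Fin (k + 1)) F) =
          ((Matrix.SpecialLinearGroup.toGL (x * g c * x⁻¹) : GL (Fin (k + 1)) F) : Matrix (Fin (k + 1)) (Fin (k + 1)) F) := rfl
      rw [← hx, e2, map_mul, map_mul, map_inv, Units.val_mul, Units.val_mul, Matrix.coe_units_inv]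
      exact (Matrix.charpoly_units_conj (Matrix.SpecialLinearGroup.toGL x)
        (g c : Matrix (Fin (k + 1)) (Fin (k + 1)) F)).symm
    rw [hgc, hgc] at h1
    exact Subtype.ext ((monicEquiv F (k + 1)).injective (Subtype.ext h1))
  · rintro ⟨_, h, rfl, hh⟩
    have hmon : (h : Matrix (Fin (k + 1)) (Fin (k + 1)) F).charpoly.Monic := Matrix.charpoly_monic _
    have hdeg : (h : Matrix (Fin (k + 1)) (Fin (k + 1)) F).charpoly.natDegree = k + 1 := by
      rw [Matrix.charpoly_natDegree_eq_dim, Fintype.card_fin]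
    refine ⟨⟨(monicEquiv F (k + 1)).symm ⟨_, hmon, hdeg⟩, hc0 h⟩, Subtype.ext ?_⟩
    refine ConjClasses.mk_eq_mk_iff_isConj.2 (SemisimpleCharpoly.isConj_sl p _ _ (hg _) hh ?_)
    rw [hgc, Equiv.apply_symm_apply]

end Cfsg.Agent.Lib.GLn.SemisimpleClasses
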