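import Mathlib

/-!
# Sylow 2-subgroups of `PGL_2(q)`, `q` a Mersenne prime, meet pairwise
-/

set_option autoImplicit false

namespace Cfsg.Agent.Lib.GLn.PGLTwoSylow

open Matrix

variable {F : Type*} [Field F]

theorem traceless_anticomm {A W : Matrix (Fin 2) (Fin 2) F} (hA : A.trace = 0) (hW : W.trace = 0) :
    A * W + W * A = (A * W).trace • (1 : Matrix (Fin 2) (Fin 2) F) := by
  rw [trace_fin_two] at hA hW
  have h1 : A 1 1 = -A 0 0 := by linear_combination hA
  have h2 : W 1 1 = -W 0 0 := by linear_combination hW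
  ext i j
  fin_cases i <;> fin_cases j <;>
    simp [Matrix.mul_apply, Fin.sum_univ_two, trace_fin_two, h1, h2] <;> ring

theorem sq_traceless {A : Matrix (Fin 2) (Fin 2) F} (hA : A.trace = 0) :
    A * A = (-A.det) • (1 : Matrix (Fin 2) (Fin 2) F) := by
  rw [trace_fin_two] at hA
  have h1 : A 1 1 = -A 0 0 := by linear_combination hA
  ext i j
  fin_cases i <;> fin_cases j <;> simp [Matrix.mul_apply, Fin.sum_univ_two, det_fin_two, h1] <;> ring

/-- A cyclic vector. -/
theorem exists_cyclic {A : Matrix (Fin 2) (Fin 2) F}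
    (hA : ∀ c : F, A ≠ c • (1 : Matrix (Fin 2) (Fin 2) F)) :
    ∃ e : Fin 2 → F, LinearIndependent F ![e, A *ᵥ e] := by
  classical
  by_contra hc
  push Not at hc
  have h : ∀ e : Fin 2 → F, e 0 * (A *ᵥ e) 1 = e 1 * (A *ᵥ e) 0 := by
    intro e
    by_contra hne
    refine hc e (LinearIndependent.pair_iff.2 fun s t hst => ?_)
    have h0 := congrFun hst 0
    have h1 := congrFun hst 1
    simp only [Pi.add_apply, Pi.smul_apply, smul_eq_mul, Pi.zero_apply] at h0 h1
    have ht : t * (e 0 * (A *ᵥ e) 1 - e 1 * (A *ᵥ e) 0) = 0 := by linear_combination e 0 * h1 - e 1 * h0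
    have hs : s * (e 0 * (A *ᵥ e) 1 - e 1 * (A *ᵥ e) 0) = 0 := by
      linear_combination (A *ᵥ e) 1 * h0 - (A *ᵥ e) 0 * h1
    exact ⟨(mul_eq_zero.1 hs).resolve_right (sub_ne_zero.2 hne), (mul_eq_zero.1 ht).resolve_right (sub_ne_zero.2 hne)⟩
  have a := h ![1, 0]
  have b := h ![0, 1]
  have c := h ![1, 1]
  simp [Matrix.mulVec, dotProduct, Fin.sum_univ_two] at a b c
  refine hA (A 0 0) ?_
  ext i j
  fin_cases i <;> fin_cases j
  · simp
  · simpa using b.symm
  · simpa using a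
  · simp
    linear_combination c - a - b

theorem eq_of_commute {A B B' : Matrix (Fin 2) (Fin 2) F} {e : Fin 2 → F}
    (he : LinearIndependent F ![e, A *ᵥ e]) (hB : B * A = A * B) (hB' : B' * A = A * B')
    (h : B *ᵥ e = B' *ᵥ e) : B = B' := by
  have h' : B *ᵥ (A *ᵥ e) = B' *ᵥ (A *ᵥ e) := by
    rw [mulVec_mulVec, mulVec_mulVec, hB, hB', ← mulVec_mulVec, ← mulVec_mulVec, h]
  have hP : IsUnit (Matrix.of ![e, A *ᵥ e])ᵀ := by
    rw [Matrix.isUnit_transpose]
    exact Matrix.linearIndependent_rows_iff_isUnit.1 he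
  refine hP.mul_left_inj.1 ?_
  ext i j
  fin_cases j
  · exact congrFun h i
  · exact congrFun h' i

variable [Fintype F] [DecidableEq F]

theorem card_ne_zero_vec : Nat.card {v : Fin 2 → F // v ≠ 0} + 1 = Fintype.card F ^ 2 := by
  classical
  rw [Nat.card_eq_fintype_card, Fintype.card_subtype_compl, Fintype.card_fun, Fintype.card_fin,
    Fintype.card_subtype_eq]
  have : 1 ≤ Fintype.card F ^ 2 := Nat.one_le_pow _ _ Fintype.card_pos
  omega

theorem unit_mulVec_ne (B : GL (Fin 2) F) {e : Fin 2 → F} (he : e ≠ 0) :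
    (B : Matrix (Fin 2) (Fin 2) F) *ᵥ e ≠ 0 := fun h => he (by
  have := congrArg (fun v => ((B⁻¹ : GL (Fin 2) F) : Matrix (Fin 2) (Fin 2) F) *ᵥ v) h
  rw [mulVec_mulVec, ← Units.val_mul, inv_mul_cancel, Units.val_one, one_mulVec, mulVec_zero] at this
  exact this)

theorem card_comm_le (A : Matrix (Fin 2) (Fin 2) F) (hA : ∀ c : F, A ≠ c • (1 : Matrix (Fin 2) (Fin 2) F)) :
    Nat.card {B : GL (Fin 2) F // (B : Matrix (Fin 2) (Fin 2) F) * A = A * B} + 1 ≤ Fintype.card F ^ 2 := by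
  obtain ⟨e, he⟩ := exists_cyclic hA
  have he0 : e ≠ 0 := he.ne_zero 0
  rw [← card_ne_zero_vec (F := F)]
  refine Nat.add_le_add_right (Nat.card_le_card_of_injective
    (fun B => ⟨(B.1 : Matrix (Fin 2) (Fin 2) F) *ᵥ e, unit_mulVec_ne B.1 he0⟩) ?_) 1
  intro B B' h
  exact Subtype.ext (Units.ext (eq_of_commute he B.2 B'.2 (congrArg Subtype.val h)))

theorem card_comm_split_le {A : Matrix (Fin 2) (Fin 2) F} (h2 : (2 : F) ≠ 0) (hA0 : A.trace = 0) {s : F}
    (hs : s ≠ 0) (hdet : -A.det = s * s) (hA : ∀ c : F, A ≠ c • (1 : Matrix (Fin 2) (Fin 2) F)) :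
    Nat.card {B : GL (Fin 2) F // (B : Matrix (Fin 2) (Fin 2) F) * A = A * B} + 2 * (Fintype.card F - 1) + 1 ≤
      Fintype.card F ^ 2 := by
  classical
  obtain ⟨e, he⟩ := exists_cyclic hA
  have he0 : e ≠ 0 := he.ne_zero 0
  have hsq : A * A = (s * s) • (1 : Matrix (Fin 2) (Fin 2) F) := by rw [sq_traceless hA0, hdet]
  let Cm (t c : F) : Matrix (Fin 2) (Fin 2) F := t • (A + c • 1)
  have hcomm : ∀ t c, Cm t c * A = A * Cm t c := fun t c => by
    simp only [Cm, Matrix.smul_mul, Matrix.mul_smul, add_mul, mul_add, Matrix.one_mul, Matrix.mul_one]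
  have hne : ∀ (t : Fˣ) (c : F), Cm t c *ᵥ e ≠ 0 := by
    intro t c h
    have h' : (t : F) * c = 0 ∧ (t : F) = 0 := LinearIndependent.pair_iff.1 he _ _ (by
      simpa [Cm, smul_mulVec, add_mulVec, smul_add, smul_smul, add_comm] using h)
    exact t.ne_zero h'.2
  have hsing : ∀ (c : F), c * c = s * s → ∀ t : F, ¬ IsUnit (Cm t c) := by
    intro c hc t hu
    have h0 : Cm t c * (A - c • 1) = 0 := by
      have h1 : (A + c • 1) * (A - c • 1) = A * A - (c * c) • (1 : Matrix (Fin 2) (Fin 2) F) := by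
        simp only [add_mul, mul_sub, Matrix.smul_mul, Matrix.mul_smul, Matrix.one_mul, Matrix.mul_one, smul_smul]
        abel
      simp only [Cm, Matrix.smul_mul, h1, hsq, hc, sub_self, smul_zero]
    have := hu.mul_right_eq_zero.1 h0
    exact hA c (sub_eq_zero.1 this)
  rw [← card_ne_zero_vec (F := F), show 2 * (Fintype.card F - 1) = Nat.card (Fˣ ⊕ Fˣ) by
    rw [Nat.card_sum, Nat.card_eq_fintype_card, Fintype.card_units]; omega]
  rw [← Nat.card_sum]
  refine Nat.add_le_add_right (Nat.card_le_card_of_injective (Sum.elim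
    (fun B => ⟨(B.1 : Matrix (Fin 2) (Fin 2) F) *ᵥ e, unit_mulVec_ne B.1 he0⟩)
    (Sum.elim (fun t : Fˣ => ⟨Cm t s *ᵥ e, hne t s⟩) (fun t : Fˣ => ⟨Cm t (-s) *ᵥ e, hne t (-s)⟩))) ?_) 1
  have hss : (-s) * (-s) = s * s := by ring
  have inj : ∀ (t t' : Fˣ) (c c' : F), Cm t c *ᵥ e = Cm t' c' *ᵥ e → t = t' ∧ c = c' := by
    intro t t' c c' h
    have h' := eq_of_commute he (hcomm _ _) (hcomm _ _) h
    have h2' : Cm t c *ᵥ e - Cm t' c' *ᵥ e = 0 := sub_eq_zero.2 h
    have h3 := LinearIndependent.pair_iff.1 he ((t : F) * c - t' * c') ((t : F) - t') (by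
      rw [← h2']
      simp only [Cm, smul_mulVec, add_mulVec, smul_add, smul_smul, sub_smul, one_mulVec]
      abel)
    have htt : t = t' := Units.ext (sub_eq_zero.1 h3.2)
    subst htt
    exact ⟨rfl, mul_left_cancel₀ t.ne_zero (sub_eq_zero.1 h3.1)⟩
  rintro (B | t | t) (B' | t' | t') h <;> simp only [Sum.elim_inl, Sum.elim_inr, Subtype.mk.injEq] at h
  · exact congrArg Sum.inl (Subtype.ext (Units.ext (eq_of_commute he B.2 B'.2 h)))
  · exact absurd (eq_of_commute he B.2 (hcomm _ _) h ▸ B.1.isUnit) (hsing s rfl _)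
  · exact absurd (eq_of_commute he B.2 (hcomm _ _) h ▸ B.1.isUnit) (hsing (-s) hss _)
  · exact absurd (eq_of_commute he B'.2 (hcomm _ _) h.symm ▸ B'.1.isUnit) (hsing s rfl _)
  · rw [(inj _ _ _ _ h).1]
  · exact absurd (inj _ _ _ _ h).2 (fun h => hs ((mul_eq_zero.1 (show (2 : F) * s = 0 by linear_combination h)).resolve_left h2))
  · exact absurd (eq_of_commute he B'.2 (hcomm _ _) h.symm ▸ B'.1.isUnit) (hsing (-s) hss _)
  · exact absurd (inj _ _ _ _ h).2 (fun h => hs ((mul_eq_zero.1 (show (2 : F) * s = 0 by linear_combination -h)).resolve_left h2))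
  · rw [(inj _ _ _ _ h).1]

local notation "PG" => GL (Fin 2) F ⧸ Subgroup.center (GL (Fin 2) F)

omit [Fintype F] [DecidableEq F] in
theorem mem_center {g : GL (Fin 2) F} :
    g ∈ Subgroup.center (GL (Fin 2) F) ↔
      ∃ c : F, (g : Matrix (Fin 2) (Fin 2) F) = c • (1 : Matrix (Fin 2) (Fin 2) F) := by
  rw [Matrix.GeneralLinearGroup.mem_center_iff_val_mem_range_scalar]
  simp only [Set.mem_range, Matrix.scalar_apply, Matrix.smul_one_eq_diagonal, eq_comm]

omit [Fintype F] [DecidableEq F] in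
theorem lift_involution {z : GL (Fin 2) F} (h1 : (z : PG) ≠ 1) (h2 : (z : PG) * (z : PG) = 1) :
    (z : Matrix (Fin 2) (Fin 2) F).trace = 0 ∧
      ∀ c : F, (z : Matrix (Fin 2) (Fin 2) F) ≠ c • (1 : Matrix (Fin 2) (Fin 2) F) := by
  rw [Ne, QuotientGroup.eq_one_iff, mem_center] at h1
  rw [← QuotientGroup.mk_mul, QuotientGroup.eq_one_iff, mem_center] at h2
  push Not at h1
  refine ⟨?_, h1⟩
  obtain ⟨c, hc⟩ := h2
  set A := (z : Matrix (Fin 2) (Fin 2) F)
  have hc' : A * A = c • (1 : Matrix (Fin 2) (Fin 2) F) := hc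
  by_contra ht
  refine h1 ((c + A.det) / A.trace) ?_
  have key : A.trace • A = (c + A.det) • (1 : Matrix (Fin 2) (Fin 2) F) := by
    rw [add_smul, ← hc']
    ext i j
    fin_cases i <;> fin_cases j <;> simp [Matrix.mul_apply, Fin.sum_univ_two, det_fin_two, trace_fin_two] <;> ring
  calc A = (A.trace)⁻¹ • (A.trace • A) := by rw [smul_smul, inv_mul_cancel₀ ht, one_smul]
    _ = _ := by rw [key, smul_smul, inv_mul_eq_div]

omit [Fintype F] [DecidableEq F] in
theorem commute_lift {z b : GL (Fin 2) F} :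
    (b : PG) * (z : PG) = (z : PG) * (b : PG) ↔
      ∃ c : F, (b : Matrix (Fin 2) (Fin 2) F) * (z : Matrix (Fin 2) (Fin 2) F) =
        c • ((z : Matrix (Fin 2) (Fin 2) F) * (b : Matrix (Fin 2) (Fin 2) F)) := by
  rw [← QuotientGroup.mk_mul, ← QuotientGroup.mk_mul]
  constructor
  · intro h
    obtain ⟨c, hc⟩ := mem_center.1 (QuotientGroup.eq.1 h.symm)
    refine ⟨c, ?_⟩
    calc (b : Matrix (Fin 2) (Fin 2) F) * (z : Matrix (Fin 2) (Fin 2) F)
        = ((z * b : GL (Fin 2) F) : Matrix (Fin 2) (Fin 2) F) *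
          (((z * b)⁻¹ * (b * z) : GL (Fin 2) F) : Matrix (Fin 2) (Fin 2) F) := by
            rw [← Units.val_mul, ← Units.val_mul, mul_inv_cancel_left]
      _ = _ := by rw [hc, Matrix.mul_smul, Matrix.mul_one, Units.val_mul]
  · rintro ⟨c, hc⟩
    symm
    rw [QuotientGroup.eq, mem_center]
    refine ⟨c, ?_⟩
    rw [Units.val_mul, Units.val_mul b z, hc, Matrix.mul_smul, ← Units.val_mul z b, ← Units.val_mul, inv_mul_cancel,
      Units.val_one]

/-- The lift of a centraliser splits into the commuting and the anticommuting elements. -/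
theorem card_centralizer_le {z : GL (Fin 2) F} (h1 : (z : PG) ≠ 1) (h2 : (z : PG) * (z : PG) = 1) :
    Nat.card (Subgroup.centralizer {(z : PG)}) * (Fintype.card F - 1) ≤
      2 * Nat.card {B : GL (Fin 2) F //
        (B : Matrix (Fin 2) (Fin 2) F) * (z : Matrix (Fin 2) (Fin 2) F) = (z : Matrix (Fin 2) (Fin 2) F) * B} := by
  classical
  set A := (z : Matrix (Fin 2) (Fin 2) F)
  obtain ⟨htr, hns⟩ := lift_involution h1 h2
  set C := Subgroup.centralizer {(z : PG)}
  set π := QuotientGroup.mk' (Subgroup.center (GL (Fin 2) F))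
  have hcard : Nat.card (C.comap π) = Nat.card C * (Fintype.card F - 1) := by
    have hK : Nat.card (Subgroup.center (GL (Fin 2) F)) = Fintype.card F - 1 := by
      rw [Matrix.GeneralLinearGroup.center_eq_range_scalar, ← Fintype.card_units, ← Nat.card_eq_fintype_card]
      refine (Nat.card_congr (Equiv.ofInjective _ fun a b h => Units.ext ?_)).symm
      have := congrArg (fun g : GL (Fin 2) F => (g : Matrix (Fin 2) (Fin 2) F) 0 0) h
      simpa using this
    rw [mul_comm, ← hK, ← Nat.card_prod]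
    exact Nat.card_congr (QuotientGroup.preimageMkEquivSubgroupProdSet _ (C : Set PG))
  rw [← hcard]
  have hmem : ∀ b : GL (Fin 2) F, b ∈ C.comap π →
      (b : Matrix (Fin 2) (Fin 2) F) * A = A * b ∨ (b : Matrix (Fin 2) (Fin 2) F) * A = -(A * b) := by
    intro b hb
    obtain ⟨c, hc⟩ := commute_lift.1 ((Subgroup.mem_centralizer_singleton_iff.1 hb))
    have hd : (A * (b : Matrix (Fin 2) (Fin 2) F)).det ≠ 0 := by
      rw [det_mul]
      exact mul_ne_zero ((Matrix.isUnit_iff_isUnit_det _).1 z.isUnit).ne_zero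
        ((Matrix.isUnit_iff_isUnit_det _).1 b.isUnit).ne_zero
    have h := congrArg Matrix.det hc
    rw [det_smul, Fintype.card_fin, det_mul_comm] at h
    have hc2 : (c - 1) * (c + 1) = 0 := by
      have := mul_right_cancel₀ hd (show (1 : F) * (A * (b : Matrix (Fin 2) (Fin 2) F)).det = c ^ 2 * _ by rw [one_mul]; exact h)
      linear_combination -this
    rcases mul_eq_zero.1 hc2 with hc2 | hc2
    · left; rw [hc, sub_eq_zero.1 hc2, one_smul]
    · right; rw [hc, eq_neg_of_add_eq_zero_left hc2, neg_one_smul]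
  set K := {B : GL (Fin 2) F // (B : Matrix (Fin 2) (Fin 2) F) * A = A * B}
  by_cases hanti : ∃ b₀ : GL (Fin 2) F, (b₀ : Matrix (Fin 2) (Fin 2) F) * A = -(A * b₀)
  · obtain ⟨b₀, hb₀⟩ := hanti
    have hmul : ∀ b : GL (Fin 2) F, (b : Matrix (Fin 2) (Fin 2) F) * A = -(A * b) →
        ((b₀ * b : GL (Fin 2) F) : Matrix (Fin 2) (Fin 2) F) * A = A * ((b₀ * b : GL (Fin 2) F) : Matrix (Fin 2) (Fin 2) F) := by
      intro b hb
      rw [Units.val_mul, mul_assoc, hb, mul_neg, ← mul_assoc, hb₀, neg_mul, neg_neg, mul_assoc]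
    rw [show 2 * Nat.card K = Nat.card (K ⊕ K) by rw [Nat.card_sum]; omega]
    refine Nat.card_le_card_of_injective (fun b : (C.comap π : Subgroup _) =>
      if h : ((b : GL (Fin 2) F) : Matrix (Fin 2) (Fin 2) F) * A = A * ((b : GL (Fin 2) F) : Matrix (Fin 2) (Fin 2) F) then Sum.inl ⟨b.1, h⟩
      else Sum.inr ⟨b₀ * b.1, hmul b.1 ((hmem b.1 b.2).resolve_left h)⟩) ?_
    intro b b' h
    simp only at h
    split_ifs at h with h1 h2 h2
    · exact Subtype.ext (congrArg (fun x : K => x.1) (Sum.inl.inj h))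
    · exact Subtype.ext (mul_left_cancel (congrArg (fun x : K => x.1) (Sum.inr.inj h)))
  · push Not at hanti
    refine le_trans (Nat.card_le_card_of_injective (fun b : (C.comap π : Subgroup _) =>
      (⟨b.1, (hmem b.1 b.2).resolve_right (hanti b.1)⟩ : K)) fun b b' h => Subtype.ext (congrArg (fun x : K => x.1) h)) ?_
    exact Nat.le_mul_of_pos_left _ (by norm_num)

theorem two_part_eq {q k : ℕ} (hk : q + 1 = 2 ^ k) (hq : 7 ≤ q) :
    (q * (q ^ 2 - 1)).factorization 2 = k + 1 := by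
  have h8 : 8 ≤ 2 ^ k := by omega
  have hk3 : 3 ≤ k := by
    by_contra h
    have : 2 ^ k ≤ 2 ^ 2 := Nat.pow_le_pow_right (by norm_num) (by omega)
    omega
  obtain ⟨j, rfl⟩ : ∃ j, k = j + 1 := ⟨k - 1, by omega⟩
  have hj : 4 ≤ 2 ^ j := le_trans (by norm_num : 4 ≤ 2 ^ 2) (Nat.pow_le_pow_right (by norm_num) (by omega))
  have hodd : ¬ 2 ∣ q * (2 ^ j - 1) := by
    intro h
    rcases (Nat.prime_two.dvd_mul).1 h with h | h
    · have : 2 ∣ 2 ^ (j + 1) := dvd_pow_self 2 (by omega)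
      omega
    · have : 2 ∣ 2 ^ j := dvd_pow_self 2 (by omega)
      omega
  have e : q * (q ^ 2 - 1) = 2 ^ (j + 1 + 1) * (q * (2 ^ j - 1)) := by
    have h1 : q ^ 2 - 1 = (q + 1) * (q - 1) := by
      rw [show (1 : ℕ) = 1 ^ 2 from rfl, Nat.sq_sub_sq]; simp
    have h2 : q - 1 = 2 * (2 ^ j - 1) := by rw [pow_succ] at hk; omega
    rw [h1, h2, hk]
    ring
  rw [e, Nat.factorization_mul (by positivity) (by intro h; rw [h] at hodd; exact hodd (dvd_zero 2)),
    Finsupp.add_apply, Nat.factorization_pow, Finsupp.smul_apply, Nat.Prime.factorization_self Nat.prime_two,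
    Nat.factorization_eq_zero_of_not_dvd hodd]
  simp

/-- The main statement. -/
theorem sylow_meet {k : ℕ} (hk : Fintype.card F + 1 = 2 ^ k) (hq : 7 ≤ Fintype.card F) (h2 : (2 : F) ≠ 0)
    (hcardG : Nat.card PG = Fintype.card F * (Fintype.card F ^ 2 - 1))
    (H : Sylow 2 PG) (x : PG) :
    ∃ w : PG, w ≠ 1 ∧ w ∈ (H : Subgroup PG) ∧ x⁻¹ * w * x ∈ (H : Subgroup PG) := by
  classical
  set q := Fintype.card F
  have hHcard : Nat.card H = 2 * (q + 1) := by
    rw [H.card_eq_multiplicity, hcardG, two_part_eq hk hq, pow_succ', ← hk]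
  haveI : Nontrivial (H : Subgroup PG) := Finite.one_lt_card_iff_nontrivial.1 (by rw [hHcard]; omega)
  haveI : Nontrivial (Subgroup.center (H : Subgroup PG)) := H.isPGroup'.center_nontrivial
  obtain ⟨z0, hz0⟩ := exists_prime_orderOf_dvd_card' (G := Subgroup.center (H : Subgroup PG)) 2 (by
    obtain ⟨n, hn'⟩ := IsPGroup.iff_card.1 (H.isPGroup'.to_subgroup (Subgroup.center (H : Subgroup PG)))
    rw [hn']
    refine dvd_pow_self 2 fun h => ?_
    rw [h, pow_zero] at hn'
    exact absurd (Finite.one_lt_card (α := Subgroup.center (H : Subgroup PG))) (by rw [hn']; exact lt_irrefl 1))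
  obtain ⟨zl, hzl⟩ := QuotientGroup.mk_surjective ((z0 : (H : Subgroup PG)) : PG)
  have hz1 : (zl : PG) ≠ 1 := by
    rw [hzl]
    intro h
    have : z0 = 1 := Subtype.ext (Subtype.ext h)
    rw [this, orderOf_one] at hz0
    norm_num at hz0
  have hz2 : (zl : PG) * (zl : PG) = 1 := by
    have := congrArg (fun a : Subgroup.center (H : Subgroup PG) => ((a : (H : Subgroup PG)) : PG)) (pow_orderOf_eq_one z0)
    rw [hz0, pow_two] at this
    rw [hzl]
    exact this
  have hHC : (H : Subgroup PG) ≤ Subgroup.centralizer {(zl : PG)} := by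
    intro h hh
    rw [Subgroup.mem_centralizer_singleton_iff, hzl]
    exact congrArg Subtype.val (Subgroup.mem_center_iff.1 z0.2 ⟨h, hh⟩)
  obtain ⟨htr, hns⟩ := lift_involution hz1 hz2
  set A := (zl : Matrix (Fin 2) (Fin 2) F)
  have hq1 : 1 ≤ q - 1 := by omega
  have hle := Subgroup.card_le_of_le hHC
  have hb := card_centralizer_le hz1 hz2
  have hnos : ∀ s : F, -A.det ≠ s * s := by
    intro s hs
    by_cases hs0 : s = 0
    · rw [hs0, mul_zero, neg_eq_zero] at hs
      exact ((Matrix.isUnit_iff_isUnit_det _).1 zl.isUnit).ne_zero hs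
    have h1 := card_comm_split_le h2 htr hs0 hs hns
    have h2' : (2 * (q + 1)) * (q - 1) ≤ 2 * Nat.card {B : GL (Fin 2) F // (B : Matrix (Fin 2) (Fin 2) F) * A = A * B} :=
      le_trans (Nat.mul_le_mul_right _ (hHcard ▸ hle)) hb
    obtain ⟨r, hr⟩ : ∃ r, q = r + 1 := ⟨q - 1, by omega⟩
    change _ ≤ q ^ 2 at h1
    rw [hr] at h1 h2'
    simp only [Nat.add_sub_cancel] at h1 h2'
    nlinarith
  have hHeq : (H : Subgroup PG) = Subgroup.centralizer {(zl : PG)} := by
    refine Subgroup.eq_of_le_of_card_ge hHC ?_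
    have h1 := card_comm_le A hns
    obtain ⟨r, hr⟩ : ∃ r, q = r + 1 := ⟨q - 1, by omega⟩
    change _ ≤ q ^ 2 at h1
    rw [hHcard]
    change _ * (q - 1) ≤ _ at hb
    rw [hr] at h1 hb ⊢
    simp only [Nat.add_sub_cancel] at hb
    nlinarith
  obtain ⟨g, rfl⟩ := QuotientGroup.mk_surjective x
  set z' := g * zl * g⁻¹
  have hz1' : (z' : PG) ≠ 1 := by
    rw [QuotientGroup.mk_mul, QuotientGroup.mk_mul, QuotientGroup.mk_inv, Ne, conj_eq_one_iff]
    exact hz1
  have hz2' : (z' : PG) * (z' : PG) = 1 := by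
    rw [QuotientGroup.mk_mul, QuotientGroup.mk_mul, QuotientGroup.mk_inv,
      show ((g : PG) * (zl : PG) * (g : PG)⁻¹) * ((g : PG) * (zl : PG) * (g : PG)⁻¹) = (g : PG) * ((zl : PG) * (zl : PG)) * (g : PG)⁻¹ by group,
      hz2, mul_one, mul_inv_cancel]
  obtain ⟨htr', -⟩ := lift_involution hz1' hz2'
  set A' := (z' : Matrix (Fin 2) (Fin 2) F)
  let f : Matrix (Fin 2) (Fin 2) F →ₗ[F] (Fin 3 → F) :=
    { toFun := fun W => ![W.trace, (A * W).trace, (A' * W).trace]
      map_add' := fun U V => by ext i; fin_cases i <;> simp [trace_add, mul_add]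
      map_smul' := fun c U => by ext i; fin_cases i <;> simp [trace_smul, mul_smul_comm] }
  obtain ⟨W, hW0, hW⟩ : ∃ W, W ≠ 0 ∧ f W = 0 := by
    by_contra hc
    push Not at hc
    have hinj : Function.Injective f := (injective_iff_map_eq_zero f).2 fun W h => by_contra fun h' => hc W h' h
    have := LinearMap.finrank_le_finrank_of_injective hinj
    rw [Module.finrank_matrix, Module.finrank_fin_fun, Module.finrank_self] at this
    simp at this
  have hW1 : W.trace = 0 := congrFun hW 0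
  have hW2 : (A * W).trace = 0 := congrFun hW 1
  have hW3 : (A' * W).trace = 0 := congrFun hW 2
  have hAW : A * W = -(W * A) := by
    have := traceless_anticomm htr hW1
    rw [hW2, zero_smul] at this
    exact eq_neg_of_add_eq_zero_left this
  have hdetW : W.det ≠ 0 := by
    intro h0
    have hWW : W * W = 0 := by rw [sq_traceless hW1, h0, neg_zero, zero_smul]
    obtain ⟨j, hj⟩ : ∃ j, W *ᵥ Pi.single j 1 ≠ 0 := by
      by_contra hc
      push Not at hc
      exact hW0 (Matrix.ext_of_mulVec_single fun j => by rw [hc j, zero_mulVec])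
    set e := W *ᵥ Pi.single j 1
    have hWe : W *ᵥ e = 0 := by rw [mulVec_mulVec, hWW, zero_mulVec]
    have hWAe : W *ᵥ (A *ᵥ e) = 0 := by
      rw [mulVec_mulVec, show W * A = -(A * W) by rw [hAW, neg_neg], neg_mulVec, ← mulVec_mulVec, hWe, mulVec_zero,
        neg_zero]
    have hdep : ¬ LinearIndependent F ![e, A *ᵥ e] := by
      intro hli
      refine hW0 ?_
      have hP : IsUnit (Matrix.of ![e, A *ᵥ e])ᵀ := by
        rw [Matrix.isUnit_transpose]
        exact Matrix.linearIndependent_rows_iff_isUnit.1 hli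
      refine hP.mul_left_eq_zero.1 ?_
      ext i l
      fin_cases l
      · exact congrFun hWe i
      · exact congrFun hWAe i
    rw [LinearIndependent.pair_iff' hj] at hdep
    push Not at hdep
    obtain ⟨s, hs⟩ := hdep
    have h3 : A *ᵥ (A *ᵥ e) = (-A.det) • e := by
      rw [mulVec_mulVec, sq_traceless htr, smul_mulVec, one_mulVec]
    rw [← hs, mulVec_smul, ← hs, smul_smul] at h3
    have := sub_eq_zero.2 h3
    rw [← sub_smul, smul_eq_zero] at this
    exact hnos s (sub_eq_zero.1 (this.resolve_right hj)).symm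
  obtain ⟨w, hw⟩ : ∃ w : GL (Fin 2) F, (w : Matrix (Fin 2) (Fin 2) F) = W :=
    ⟨((Matrix.isUnit_iff_isUnit_det W).2 hdetW.isUnit).unit, rfl⟩
  refine ⟨(w : PG), ?_, ?_, ?_⟩
  · intro h
    rw [QuotientGroup.eq_one_iff, mem_center] at h
    obtain ⟨c, hc⟩ := h
    rw [hw] at hc
    rw [hc, trace_smul, trace_one, Fintype.card_fin, smul_eq_mul, Nat.cast_ofNat] at hW1
    refine hW0 ?_
    rw [hc, (mul_eq_zero.1 hW1).resolve_right h2, zero_smul]
  · rw [hHeq, Subgroup.mem_centralizer_singleton_iff]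
    exact commute_lift.2 ⟨-1, by rw [hw, neg_one_smul, hAW, neg_neg]⟩
  · rw [hHeq, Subgroup.mem_centralizer_singleton_iff]
    have h' : (w : PG) * (z' : PG) = (z' : PG) * (w : PG) := by
      refine commute_lift.2 ⟨-1, ?_⟩
      have := traceless_anticomm htr' hW1
      rw [hW3, zero_smul] at this
      rw [hw, neg_one_smul]
      exact eq_neg_of_add_eq_zero_right this
    rw [QuotientGroup.mk_mul, QuotientGroup.mk_mul, QuotientGroup.mk_inv] at h'
    calc (g : PG)⁻¹ * (w : PG) * (g : PG) * (zl : PG)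
        = (g : PG)⁻¹ * ((w : PG) * ((g : PG) * (zl : PG) * (g : PG)⁻¹)) * (g : PG) := by group
      _ = _ := by rw [h']; group

end Cfsg.Agent.Lib.GLn.PGLTwoSylow
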