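import Cfsg.Agent.Lib.GLn.UnipGen

/-!
# The product of two classes of `PSL_d(F)`, `d ≥ 3`, is never a single class

The proof uses traces: for non-scalar `M`, `N` the function `h ↦ tr (h M h⁻¹ N)` on `SL_d` is not constant.
-/

set_option autoImplicit false

namespace Cfsg.Agent.Lib.GLn.ClassProduct

open Matrix

variable {F : Type*} [Field F] {d : ℕ}

theorem coe_conj (g h : Matrix.SpecialLinearGroup (Fin d) F) (X : Matrix (Fin d) (Fin d) F) :
    (h : Matrix (Fin d) (Fin d) F) *
        ((g : Matrix (Fin d) (Fin d) F) * X * ((g⁻¹ : Matrix.SpecialLinearGroup (Fin d) F) : Matrix (Fin d) (Fin d) F)) *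
        ((h⁻¹ : Matrix.SpecialLinearGroup (Fin d) F) : Matrix (Fin d) (Fin d) F) =
      ((h * g : Matrix.SpecialLinearGroup (Fin d) F) : Matrix (Fin d) (Fin d) F) * X *
        (((h * g)⁻¹ : Matrix.SpecialLinearGroup (Fin d) F) : Matrix (Fin d) (Fin d) F) := by
  rw [_root_.mul_inv_rev, Matrix.SpecialLinearGroup.coe_mul, Matrix.SpecialLinearGroup.coe_mul]
  simp only [mul_assoc]

/-- the matrices whose conjugates all pair in the same way with `N` -/
def ConstSet (N : Matrix (Fin d) (Fin d) F) : Submodule F (Matrix (Fin d) (Fin d) F) where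
  carrier := {X | ∀ h : Matrix.SpecialLinearGroup (Fin d) F,
    trace ((h : Matrix (Fin d) (Fin d) F) * X *
      ((h⁻¹ : Matrix.SpecialLinearGroup (Fin d) F) : Matrix (Fin d) (Fin d) F) * N) = trace (X * N)}
  add_mem' {X Y} hX hY h := by
    simp only [mul_add, add_mul, trace_add, hX h, hY h]
  zero_mem' h := by simp
  smul_mem' c X hX h := by
    simp only [Matrix.mul_smul, Matrix.smul_mul, trace_smul, hX h]

theorem conj_mem {N X : Matrix (Fin d) (Fin d) F} (hX : X ∈ ConstSet N)
    (g : Matrix.SpecialLinearGroup (Fin d) F) :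
    (g : Matrix (Fin d) (Fin d) F) * X * ((g⁻¹ : Matrix.SpecialLinearGroup (Fin d) F) : Matrix (Fin d) (Fin d) F) ∈
      ConstSet N := by
  intro h
  rw [coe_conj, hX (h * g), hX g]

/-- the difference of the conjugate of `X` by `1 + E` and `X` -/
def dl (E X : Matrix (Fin d) (Fin d) F) : Matrix (Fin d) (Fin d) F := E * X - X * E - E * X * E

theorem exists_elem {i j : Fin d} (hij : i ≠ j) :
    ∃ g : Matrix.SpecialLinearGroup (Fin d) F,
      (g : Matrix (Fin d) (Fin d) F) = 1 + Matrix.single i j 1 ∧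
      ((g⁻¹ : Matrix.SpecialLinearGroup (Fin d) F) : Matrix (Fin d) (Fin d) F) = 1 - Matrix.single i j 1 := by
  have h : (Pi.single j (1 : F) : Fin d → F) ⬝ᵥ Pi.single i (1 : F) = 0 := by
    simp [hij.symm]
  refine ⟨tv (Pi.single i 1) (Pi.single j 1) h, ?_, ?_⟩
  · rw [coe_tv, ← single_eq_single_vecMulVec_single]
  · rw [tv_neg, coe_tv, neg_vecMulVec, ← single_eq_single_vecMulVec_single, ← sub_eq_add_neg]

theorem dl_mem {N X : Matrix (Fin d) (Fin d) F} (hX : X ∈ ConstSet N) {i j : Fin d} (hij : i ≠ j) :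
    dl (Matrix.single i j 1) X ∈ ConstSet N ∧ trace (dl (Matrix.single i j 1) X * N) = 0 := by
  obtain ⟨g, hg, hg'⟩ := exists_elem (F := F) hij
  have h1 := conj_mem hX g
  have h2 := hX g
  have key : dl (Matrix.single i j 1) X =
      (g : Matrix (Fin d) (Fin d) F) * X * ((g⁻¹ : Matrix.SpecialLinearGroup (Fin d) F) : Matrix (Fin d) (Fin d) F)
        - X := by
    rw [hg, hg', dl]
    noncomm_ring
  rw [key]
  refine ⟨sub_mem h1 hX, ?_⟩
  rw [sub_mul, trace_sub, h2, sub_self]

theorem exists_ne_two (hd : 3 ≤ d) (a b : Fin d) : ∃ c : Fin d, c ≠ a ∧ c ≠ b := by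
  by_contra h
  push Not at h
  have : (Finset.univ : Finset (Fin d)) ⊆ {a, b} := by
    intro c _
    simp only [Finset.mem_insert, Finset.mem_singleton]
    by_cases hc : c = a
    · exact Or.inl hc
    · exact Or.inr (h c hc)
  have := Finset.card_le_card this
  rw [Finset.card_univ, Fintype.card_fin] at this
  have := this.trans (Finset.card_le_two)
  omega

/-- For non-scalar `M` and `N`, the trace of `h M h⁻¹ N` depends on `h`. -/
theorem exists_trace_ne (hd : 3 ≤ d) {M N : Matrix (Fin d) (Fin d) F}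
    (hM : ∀ c : F, M ≠ c • 1) (hN : ∀ c : F, N ≠ c • 1) :
    ∃ h : Matrix.SpecialLinearGroup (Fin d) F,
      trace ((h : Matrix (Fin d) (Fin d) F) * M *
        ((h⁻¹ : Matrix.SpecialLinearGroup (Fin d) F) : Matrix (Fin d) (Fin d) F) * N) ≠ trace (M * N) := by
  by_contra hcon
  push Not at hcon
  have hMS : M ∈ ConstSet N := hcon
  -- some elementary matrix is in the set
  have hone : ∃ a b : Fin d, a ≠ b ∧ Matrix.single a b (1 : F) ∈ ConstSet N := by
    by_cases hoff : ∃ l i : Fin d, l ≠ i ∧ M l i ≠ 0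
    · obtain ⟨l, i, hli, hne⟩ := hoff
      obtain ⟨j, hjl, hji⟩ := exists_ne_two hd l i
      have h1 := (dl_mem hMS (i := i) (j := l) hli.symm).1
      have h2 := (dl_mem h1 (i := i) (j := j) hji.symm).1
      have h3 := (dl_mem h2 (i := j) (j := l) hjl).1
      have e2 : dl (Matrix.single i j 1) (dl (Matrix.single i l 1) M) =
          -(M j i • Matrix.single i l (1 : F) + M l i • Matrix.single i j (1 : F)) := by
        simp only [dl, smul_single, smul_eq_mul, mul_one, mul_sub, sub_mul, mul_assoc]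
        simp only [← mul_assoc, single_mul_mul_single, one_mul, mul_one, single_mul_single_of_ne _ _ _ _ hji,
          single_mul_single_of_ne _ _ _ _ hli, mul_assoc]
        simp [single_mul_single_of_ne, hji, hli, hjl, ← mul_assoc]
        abel
      rw [e2] at h3
      have e3 : dl (Matrix.single j l (1 : F))
          (-(M j i • Matrix.single i l (1 : F) + M l i • Matrix.single i j (1 : F))) =
          M l i • Matrix.single i l (1 : F) := by
        simp [dl, mul_add, add_mul, hji, hjl, hli, hjl.symm, hji.symm, hli.symm]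
      rw [e3] at h3
      refine ⟨i, l, hli.symm, ?_⟩
      have := (ConstSet N).smul_mem (M l i)⁻¹ h3
      rwa [smul_smul, inv_mul_cancel₀ hne, one_smul] at this
    · push Not at hoff
      have hdiag : ∃ i j : Fin d, M i i ≠ M j j := by
        by_contra hc
        push Not at hc
        refine hM (M ⟨0, by omega⟩ ⟨0, by omega⟩) ?_
        ext i j
        by_cases hij : i = j
        · subst hij
          simp [hc i ⟨0, by omega⟩]
        · simp [hoff i j hij, one_apply_ne hij]
      obtain ⟨i, j, hne⟩ := hdiag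
      have hij : i ≠ j := fun e => hne (by rw [e])
      have h1 := (dl_mem hMS hij).1
      have e1 : dl (Matrix.single i j (1 : F)) M = (M j j - M i i) • Matrix.single i j (1 : F) := by
        ext a b
        simp only [dl, single_mul_mul_single, hoff j i hij.symm]
        by_cases ha : a = i <;> by_cases hb : b = j
        · subst ha hb; simp
        · subst ha
          by_cases hbj : j = b
          · exact absurd hbj.symm hb
          · simp [hb, hbj, hoff j b (fun e => hb e.symm)]
        · subst hb; simp [ha, Ne.symm ha, hoff a i ha]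
        · simp [ha, hb, Ne.symm ha, Ne.symm hb]
      rw [e1] at h1
      refine ⟨i, j, hij, ?_⟩
      have := (ConstSet N).smul_mem (M j j - M i i)⁻¹ h1
      rwa [smul_smul, inv_mul_cancel₀ (sub_ne_zero.mpr (Ne.symm hne)), one_smul] at this
  -- all of them are
  have hright : ∀ a b c : Fin d, a ≠ b → a ≠ c → Matrix.single a b (1 : F) ∈ ConstSet N →
      Matrix.single a c (1 : F) ∈ ConstSet N := by
    intro a b c hab hac h
    by_cases hbc : b = c
    · rwa [← hbc]
    have h1 := (dl_mem h hbc).1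
    have e : dl (Matrix.single b c (1 : F)) (Matrix.single a b 1) = -Matrix.single a c (1 : F) := by
      simp [dl, hab, hab.symm, hac.symm, hbc]
    rw [e] at h1
    simpa using neg_mem h1
  have hleft : ∀ a b c : Fin d, a ≠ b → c ≠ b → Matrix.single a b (1 : F) ∈ ConstSet N →
      Matrix.single c b (1 : F) ∈ ConstSet N := by
    intro a b c hab hcb h
    by_cases hca : c = a
    · rwa [hca]
    have h1 := (dl_mem h hca).1
    have e : dl (Matrix.single c a (1 : F)) (Matrix.single a b 1) = Matrix.single c b (1 : F) := by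
      simp [dl, hab, hab.symm, hcb.symm, hca]
    rwa [e] at h1
  obtain ⟨a, b, hab, habS⟩ := hone
  have hall : ∀ p q : Fin d, p ≠ q → Matrix.single p q (1 : F) ∈ ConstSet N := by
    intro p q hpq
    obtain ⟨x, hxa, hxp⟩ := exists_ne_two hd a p
    exact hright p x q hxp.symm hpq (hleft a x p hxa.symm hxp.symm (hright a b x hab hxa.symm habS))
  -- `N` is scalar
  have hoffN : ∀ p q : Fin d, p ≠ q → N p q = 0 := by
    intro p q hpq
    obtain ⟨i, hip, hiq⟩ := exists_ne_two hd p q
    -- `k = q`, `j = p`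
    have h1 := (dl_mem (hall i p hip) hiq.symm).2
    have e : dl (Matrix.single q i (1 : F)) (Matrix.single i p 1) = Matrix.single q p (1 : F) := by
      simp [dl, hpq, hpq.symm, hiq, hiq.symm, hip, hip.symm]
    rw [e, trace_single_mul, one_smul] at h1
    exact h1
  have hdiagN : ∀ p q : Fin d, N p p = N q q := by
    intro p q
    by_cases hpq : p = q
    · rw [hpq]
    have h1 := (dl_mem (hall q p (Ne.symm hpq)) hpq).2
    have e : dl (Matrix.single p q (1 : F)) (Matrix.single q p 1) =
        Matrix.single p p (1 : F) - Matrix.single q q 1 - Matrix.single p q 1 := by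
      simp [dl, hpq, Ne.symm hpq]
    rw [e, sub_mul, sub_mul, trace_sub, trace_sub, trace_single_mul, trace_single_mul, trace_single_mul,
      one_smul, one_smul, one_smul, hoffN q p (Ne.symm hpq), sub_zero, sub_eq_zero] at h1
    exact h1
  refine hN (N ⟨0, by omega⟩ ⟨0, by omega⟩) ?_
  ext i j
  by_cases hij : i = j
  · subst hij
    simp [hdiagN i ⟨0, by omega⟩]
  · simp [hoffN i j hij, one_apply_ne hij]

theorem mul_vecMulVec_mul (A : Matrix (Fin d) (Fin d) F) (w φ : Fin d → F) :
    vecMulVec w φ * A * vecMulVec w φ = (φ ⬝ᵥ A *ᵥ w) • vecMulVec w φ := by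
  rw [mul_assoc, mul_vecMulVec, vecMulVec_mul_vecMulVec, vecMulVec_smul]

theorem exists_conj_trace_zero (hd : 3 ≤ d) (A B : Matrix.SpecialLinearGroup (Fin d) F)
    (hA : ∀ c : F, (A : Matrix (Fin d) (Fin d) F) ≠ c • 1) (hB : ∀ c : F, (B : Matrix (Fin d) (Fin d) F) ≠ c • 1) :
    ∃ g h : Matrix.SpecialLinearGroup (Fin d) F,
      trace ((g * A * g⁻¹ * (h * B * h⁻¹) : Matrix.SpecialLinearGroup (Fin d) F) : Matrix (Fin d) (Fin d) F) = 0 := by
  classical
  -- a vector which is not an eigenvector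
  have hw : ∃ w : Fin d → F, ∀ c : F, (A : Matrix (Fin d) (Fin d) F) *ᵥ w ≠ c • w := by
    by_contra hc
    push Not at hc
    have hoff : ∀ k i : Fin d, k ≠ i → (A : Matrix (Fin d) (Fin d) F) k i = 0 := by
      intro k i hki
      obtain ⟨c, hc⟩ := hc (Pi.single i 1)
      have := congrFun hc k
      simpa [hki] using this
    refine hA ((A : Matrix (Fin d) (Fin d) F) ⟨0, by omega⟩ ⟨0, by omega⟩) ?_
    obtain ⟨c, hc⟩ := hc (fun _ => 1)
    have hd' : ∀ i, (A : Matrix (Fin d) (Fin d) F) i i = c := by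
      intro i
      have := congrFun hc i
      rw [mulVec, dotProduct, Finset.sum_eq_single i] at this
      · simpa using this
      · intro j _ hj
        rw [hoff i j (Ne.symm hj), zero_mul]
      · simp
    ext i j
    by_cases hij : i = j
    · subst hij
      simp [hd']
    · simp [hoff i j hij, one_apply_ne hij]
  obtain ⟨w, hw⟩ := hw
  have hw0 : w ≠ 0 := fun e => hw 0 (by simp [e])
  -- a functional killing `w` and `A w`
  let L : (Fin d → F) →ₗ[F] F × F :=
    { toFun := fun φ => (φ ⬝ᵥ w, φ ⬝ᵥ ((A : Matrix (Fin d) (Fin d) F) *ᵥ w))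
      map_add' := fun x y => by simp [add_dotProduct]
      map_smul' := fun c x => by simp [smul_dotProduct] }
  have hker : L.ker ≠ ⊥ := LinearMap.ker_ne_bot_of_finrank_lt (by simp; omega)
  obtain ⟨φ, hφ, hφ0⟩ := Submodule.exists_mem_ne_zero_of_ne_bot hker
  rw [LinearMap.mem_ker] at hφ
  have hφw : φ ⬝ᵥ w = 0 := congrArg Prod.fst hφ
  have hφA : φ ⬝ᵥ ((A : Matrix (Fin d) (Fin d) F) *ᵥ w) = 0 := congrArg Prod.snd hφ
  set E := vecMulVec w φ with hE
  set X := E * (A : Matrix (Fin d) (Fin d) F) - (A : Matrix (Fin d) (Fin d) F) * E with hX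
  have hXns : ∀ c : F, X ≠ c • 1 := by
    intro c hc
    have h1 : X *ᵥ w = 0 := by
      rw [hX, sub_mulVec, ← mulVec_mulVec, ← mulVec_mulVec, hE, vecMulVec_mulVec, vecMulVec_mulVec, hφA, hφw]
      simp
    rw [hc, smul_mulVec, one_mulVec, smul_eq_zero] at h1
    have hc0 : c = 0 := h1.resolve_right hw0
    rw [hc0, zero_smul, hX, sub_eq_zero] at hc
    obtain ⟨i, hi⟩ := Function.ne_iff.mp hφ0
    have h2 := congrArg (fun M : Matrix (Fin d) (Fin d) F => M *ᵥ (Pi.single i (φ i)⁻¹)) hc
    simp only [← mulVec_mulVec, hE, vecMulVec_mulVec] at h2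
    have h3 : φ ⬝ᵥ (Pi.single i (φ i)⁻¹ : Fin d → F) = 1 := by
      rw [dotProduct_single]
      exact mul_inv_cancel₀ hi
    rw [h3] at h2
    simp only [MulOpposite.op_one, one_smul] at h2
    exact hw _ (h2.symm.trans (op_smul_eq_smul _ _))
  -- a conjugate of `B` pairing non-trivially with `X`
  obtain ⟨h, hh⟩ : ∃ h : Matrix.SpecialLinearGroup (Fin d) F,
      trace (X * ((h * B * h⁻¹ : Matrix.SpecialLinearGroup (Fin d) F) : Matrix (Fin d) (Fin d) F)) ≠ 0 := by
    by_contra hc
    push Not at hc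
    obtain ⟨h, hh⟩ := exists_trace_ne hd hB hXns
    refine hh ?_
    have h1 := hc 1
    rw [one_mul, inv_one, mul_one, trace_mul_comm] at h1
    rw [h1, trace_mul_comm, ← Matrix.SpecialLinearGroup.coe_mul, ← Matrix.SpecialLinearGroup.coe_mul, hc h]
  set C := ((h * B * h⁻¹ : Matrix.SpecialLinearGroup (Fin d) F) : Matrix (Fin d) (Fin d) F) with hC
  set s := -trace ((A : Matrix (Fin d) (Fin d) F) * C) / trace (X * C) with hs
  have hsw : φ ⬝ᵥ (s • w) = 0 := by rw [dotProduct_smul, hφw, smul_zero]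
  refine ⟨tv (s • w) φ hsw, h, ?_⟩
  have hk : ((tv (s • w) φ hsw * A * (tv (s • w) φ hsw)⁻¹ : Matrix.SpecialLinearGroup (Fin d) F) :
      Matrix (Fin d) (Fin d) F) = (A : Matrix (Fin d) (Fin d) F) + s • X := by
    rw [tv_neg, Matrix.SpecialLinearGroup.coe_mul, Matrix.SpecialLinearGroup.coe_mul, coe_tv, coe_tv,
      neg_vecMulVec, smul_vecMulVec, ← hE, hX]
    simp only [mul_add, add_mul, one_mul, mul_one, mul_neg, Matrix.smul_mul, Matrix.mul_smul, smul_sub]
    rw [hE, mul_vecMulVec_mul, hφA]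
    simp
    abel
  rw [Matrix.SpecialLinearGroup.coe_mul, ← hC, hk, add_mul, trace_add, Matrix.smul_mul, trace_smul, smul_eq_mul,
    hs, div_mul_cancel₀ _ hh, add_neg_cancel]

theorem not_scalar_of_ne_one {A : Matrix.SpecialLinearGroup (Fin d) F}
    (hA : (QuotientGroup.mk A : Matrix.ProjectiveSpecialLinearGroup (Fin d) F) ≠ 1) (c : F) :
    (A : Matrix (Fin d) (Fin d) F) ≠ c • 1 := by
  intro h
  refine hA ((QuotientGroup.eq_one_iff A).mpr ?_)
  rw [Matrix.SpecialLinearGroup.mem_center_iff]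
  refine ⟨c, ?_, ?_⟩
  · have := A.2
    rw [h, det_smul, det_one, mul_one] at this
    exact this
  · rw [h]
    ext i j
    by_cases hij : i = j
    · subst hij; simp
    · simp [hij]

theorem not_single_class (hd : 3 ≤ d) (a b : Matrix.ProjectiveSpecialLinearGroup (Fin d) F) (ha : a ≠ 1)
    (hb : b ≠ 1) :
    ∃ g h : Matrix.ProjectiveSpecialLinearGroup (Fin d) F, ¬ IsConj (a * b) (g * a * g⁻¹ * (h * b * h⁻¹)) := by
  obtain ⟨A, rfl⟩ := QuotientGroup.mk_surjective a
  obtain ⟨B, rfl⟩ := QuotientGroup.mk_surjective b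
  have hA := not_scalar_of_ne_one ha
  have hB := not_scalar_of_ne_one hb
  by_contra hcon
  push Not at hcon
  have key : ∀ g h : Matrix.SpecialLinearGroup (Fin d) F, ∃ r : F, r ≠ 0 ∧
      trace ((g * A * g⁻¹ * (h * B * h⁻¹) : Matrix.SpecialLinearGroup (Fin d) F) : Matrix (Fin d) (Fin d) F) =
        r * trace ((A : Matrix (Fin d) (Fin d) F) * (B : Matrix (Fin d) (Fin d) F)) := by
    intro g h
    obtain ⟨c, hc⟩ := isConj_iff.mp (hcon (QuotientGroup.mk g) (QuotientGroup.mk h))
    obtain ⟨C, rfl⟩ := QuotientGroup.mk_surjective c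
    simp only [← QuotientGroup.mk_mul, ← QuotientGroup.mk_inv] at hc
    obtain ⟨r, hr, hr'⟩ := Matrix.SpecialLinearGroup.mem_center_iff.mp (QuotientGroup.eq.mp hc)
    refine ⟨r, ?_, ?_⟩
    · rintro rfl
      rw [Fintype.card_fin, zero_pow (by omega)] at hr
      exact zero_ne_one hr
    · have e : g * A * g⁻¹ * (h * B * h⁻¹) =
          (C * (A * B) * C⁻¹) * ((C * (A * B) * C⁻¹)⁻¹ * (g * A * g⁻¹ * (h * B * h⁻¹))) := by
        rw [mul_inv_cancel_left]
      rw [e, Matrix.SpecialLinearGroup.coe_mul, ← hr', Matrix.scalar_apply, ← smul_one_eq_diagonal, Matrix.mul_smul, mul_one,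
        trace_smul, smul_eq_mul, Matrix.SpecialLinearGroup.coe_mul, trace_mul_comm, ← Matrix.SpecialLinearGroup.coe_mul,
        inv_mul_cancel_left, Matrix.SpecialLinearGroup.coe_mul]
  by_cases ht : trace ((A : Matrix (Fin d) (Fin d) F) * (B : Matrix (Fin d) (Fin d) F)) = 0
  · obtain ⟨h, hh⟩ := exists_trace_ne hd hB hA
    refine hh ?_
    rw [trace_mul_comm (B : Matrix (Fin d) (Fin d) F), ht]
    obtain ⟨r, -, hr⟩ := key 1 h
    rw [ht, mul_zero, one_mul, inv_one, mul_one, Matrix.SpecialLinearGroup.coe_mul, trace_mul_comm,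
      Matrix.SpecialLinearGroup.coe_mul, Matrix.SpecialLinearGroup.coe_mul] at hr
    exact hr
  · obtain ⟨g, h, hgh⟩ := exists_conj_trace_zero hd A B hA hB
    obtain ⟨r, hr0, hr⟩ := key g h
    rw [hgh] at hr
    exact mul_ne_zero hr0 ht hr.symm

end Cfsg.Agent.Lib.GLn.ClassProduct
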