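import Cfsg.Agent.Lib.GLn.UnipCentralizer

/-!
# Adjacency of an odd prime and the characteristic in the prime graph of `PSL_n(q)`
-/

set_option autoImplicit false

namespace Cfsg.Agent.Lib.GLn.UnipCentralizer

open Matrix Module

variable {F : Type*} [Field F] [Fintype F] {n : ℕ}

local notation "PSL" => Matrix.ProjectiveSpecialLinearGroup (Fin n) F

theorem mk_eq_one_iff {X : Matrix.SpecialLinearGroup (Fin n) F} :
    (QuotientGroup.mk X : Matrix.ProjectiveSpecialLinearGroup (Fin n) F) = 1 ↔ ∃ c : F, c ^ n = 1 ∧ (X : Matrix (Fin n) (Fin n) F) = c • 1 := by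
  rw [QuotientGroup.eq_one_iff, Matrix.SpecialLinearGroup.mem_center_iff]
  simp only [Fintype.card_fin, scalar_apply, ← smul_one_eq_diagonal]
  exact exists_congr fun c => and_congr_right fun _ => eq_comm

theorem exists_root {r : ℕ} (hr : r.Prime) (h : ¬ r ∣ Fintype.card F - 1) {c : F} (hc : c ^ n = 1) (hc0 : c ≠ 0) :
    ∃ d : F, d ^ r = c ∧ d ^ n = 1 := by
  have hco : (Nat.card Fˣ).Coprime r := by
    rw [Nat.card_units, Nat.card_eq_fintype_card]
    exact ((hr.coprime_iff_not_dvd).mpr h).symm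
  obtain ⟨d, hd⟩ := (powCoprime hco).surjective (Units.mk0 c hc0)
  have hd' : d ^ r = Units.mk0 c hc0 := hd
  have h1 : (powCoprime hco) (d ^ n) = (powCoprime hco) 1 := by
    rw [powCoprime_apply, powCoprime_apply, one_pow, ← pow_mul, mul_comm, pow_mul, hd']
    exact Units.ext (by simpa using hc)
  refine ⟨d, by simpa using congrArg Units.val hd', by simpa using congrArg Units.val ((powCoprime hco).injective h1)⟩

/-- Lifts of elements of order `r`, when `r ∤ q - 1`, can be taken of order `r`. -/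
theorem exists_lift {r : ℕ} (hr : r.Prime) (h : ¬ r ∣ Fintype.card F - 1) (hn : 0 < n)
    {x : Matrix.ProjectiveSpecialLinearGroup (Fin n) F} (hx : x ^ r = 1) :
    ∃ X : Matrix.SpecialLinearGroup (Fin n) F, QuotientGroup.mk X = x ∧ X ^ r = 1 := by
  obtain ⟨Y, rfl⟩ := QuotientGroup.mk_surjective x
  rw [← QuotientGroup.mk_pow, mk_eq_one_iff] at hx
  obtain ⟨c, hcn, hc⟩ := hx
  have hc0 : c ≠ 0 := by
    rintro rfl
    rw [zero_pow hn.ne'] at hcn
    exact zero_ne_one hcn
  obtain ⟨d, hdr, hdn⟩ := exists_root hr h hcn hc0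
  have hd0 : d ≠ 0 := by
    rintro rfl
    rw [zero_pow hr.ne_zero] at hdr
    exact hc0 hdr.symm
  let D : Matrix.SpecialLinearGroup (Fin n) F := ⟨d⁻¹ • 1, by simp [hdn]⟩
  refine ⟨D * Y, ?_, ?_⟩
  · rw [QuotientGroup.mk_mul, show (QuotientGroup.mk D : Matrix.ProjectiveSpecialLinearGroup (Fin n) F) = 1 from
      mk_eq_one_iff.mpr ⟨d⁻¹, by simp [hdn], rfl⟩, one_mul]
  · apply Subtype.ext
    rw [Matrix.SpecialLinearGroup.coe_pow, Matrix.SpecialLinearGroup.coe_mul, Matrix.SpecialLinearGroup.coe_one]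
    change ((d⁻¹ • 1 : Matrix (Fin n) (Fin n) F) * (Y : Matrix (Fin n) (Fin n) F)) ^ r = 1
    rw [smul_mul_assoc, one_mul, smul_pow, ← Matrix.SpecialLinearGroup.coe_pow, hc, smul_smul, inv_pow, hdr,
      inv_mul_cancel₀ hc0, one_smul]

theorem not_dvd_char (p : ℕ) [Fact p.Prime] [CharP F p] : ¬ p ∣ Fintype.card F - 1 := by
  intro h
  obtain ⟨a, ha, hq⟩ := FiniteField.card F p
  have h2 : p ∣ Fintype.card F := hq ▸ dvd_pow_self p a.ne_zero
  have h3 := Nat.dvd_sub h2 h
  rw [Nat.sub_sub_self Fintype.card_pos] at h3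
  exact (Fact.out : p.Prime).not_dvd_one h3

/-- An element commuting with an element of order `p` lifts to a matrix commuting with some `M ≠ 0`, `M² = 0`. -/
theorem exists_square_zero (p : ℕ) [Fact p.Prime] [CharP F p] (hn : 0 < n)
    {a b : Matrix.ProjectiveSpecialLinearGroup (Fin n) F} (ha : orderOf a = p) (hab : Commute a b)
    {B : Matrix.SpecialLinearGroup (Fin n) F} (hB : QuotientGroup.mk B = b) :
    ∃ M : Module.End F (Fin n → F), M * M = 0 ∧ M ≠ 0 ∧
      Commute (Matrix.toLinAlgEquiv' (B : Matrix (Fin n) (Fin n) F)) M := by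
  have hp : p.Prime := Fact.out
  obtain ⟨A, hA, hAp⟩ := exists_lift hp (not_dvd_char p) hn (x := a) (by rw [← ha]; exact pow_orderOf_eq_one a)
  have hA1 : A ≠ 1 := by
    rintro rfl
    rw [QuotientGroup.mk_one] at hA
    rw [← hA, orderOf_one] at ha
    exact hp.one_lt.ne ha
  -- the lifts commute
  have hcomm : Commute (A : Matrix (Fin n) (Fin n) F) (B : Matrix (Fin n) (Fin n) F) := by
    have h1 : (QuotientGroup.mk (B * A * B⁻¹ * A⁻¹) : Matrix.ProjectiveSpecialLinearGroup (Fin n) F) = 1 := by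
      rw [QuotientGroup.mk_mul, QuotientGroup.mk_mul, QuotientGroup.mk_mul, QuotientGroup.mk_inv, QuotientGroup.mk_inv,
        hA, hB, ← hab.eq, mul_inv_cancel_right, mul_inv_cancel]
    obtain ⟨z, hzn, hz⟩ := mk_eq_one_iff.mp h1
    have h2 : ((B * A * B⁻¹ : Matrix.SpecialLinearGroup (Fin n) F) : Matrix (Fin n) (Fin n) F) =
        z • (A : Matrix (Fin n) (Fin n) F) := by
      rw [show B * A * B⁻¹ = B * A * B⁻¹ * A⁻¹ * A by group, Matrix.SpecialLinearGroup.coe_mul, hz, smul_mul_assoc,
        one_mul]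
    have h3 : (z • (A : Matrix (Fin n) (Fin n) F)) ^ p = 1 := by
      rw [← h2, ← Matrix.SpecialLinearGroup.coe_pow, conj_pow, hAp, mul_one, mul_inv_cancel,
        Matrix.SpecialLinearGroup.coe_one]
    rw [smul_pow, ← Matrix.SpecialLinearGroup.coe_pow, hAp, Matrix.SpecialLinearGroup.coe_one] at h3
    have h4 : z ^ p = 1 := by
      have := congrFun₂ h3 ⟨0, hn⟩ ⟨0, hn⟩
      simpa using this
    haveI : ExpChar F p := ExpChar.prime hp
    have hz1 : z = 1 := by
      apply frobenius_inj F p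
      simpa [frobenius_def] using h4
    rw [hz1, one_smul, Matrix.SpecialLinearGroup.coe_mul, Matrix.SpecialLinearGroup.coe_mul] at h2
    have h5 := congrArg (fun X => X * (B : Matrix (Fin n) (Fin n) F)) h2
    simp only [mul_assoc, ← Matrix.SpecialLinearGroup.coe_mul, inv_mul_cancel, mul_one] at h5
    rw [Matrix.SpecialLinearGroup.coe_mul, Matrix.SpecialLinearGroup.coe_mul] at h5
    exact h5.symm
  set N := (A : Matrix (Fin n) (Fin n) F) - 1 with hN
  have hN0 : N ≠ 0 := by
    intro h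
    exact hA1 (Subtype.ext (by rw [Matrix.SpecialLinearGroup.coe_one]; exact sub_eq_zero.mp h))
  haveI : Nonempty (Fin n) := ⟨⟨0, hn⟩⟩
  have hNp : N ^ p = 0 := by
    rw [hN, sub_pow_char_of_commute (p := p) (h := Commute.one_right _), one_pow, ← Matrix.SpecialLinearGroup.coe_pow,
      hAp, Matrix.SpecialLinearGroup.coe_one, sub_self]
  have hnil : IsNilpotent N := ⟨p, hNp⟩
  obtain ⟨j, hj⟩ : ∃ j, nilpotencyClass N = j + 1 := by
    exact Nat.exists_eq_succ_of_ne_zero (pos_nilpotencyClass_iff.mpr hnil).ne'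
  have hjp : 1 ≤ j := by
    by_contra h
    have : N ^ (j + 1) = 0 := hj ▸ pow_nilpotencyClass hnil
    rw [show j = 0 by omega, pow_one] at this
    exact hN0 this
  refine ⟨Matrix.toLinAlgEquiv' (N ^ j), ?_, ?_, ?_⟩
  · rw [← map_mul, ← pow_add, pow_eq_zero_of_le (show nilpotencyClass N ≤ j + j by omega) (pow_nilpotencyClass hnil),
      map_zero]
  · rw [Ne, map_eq_zero_iff _ (Matrix.toLinAlgEquiv' (R := F) (n := Fin n)).injective]
    have := pow_pred_nilpotencyClass hnil
    rwa [hj, Nat.add_sub_cancel] at this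
  · exact ((hcomm.symm.sub_right (Commute.one_right _)).pow_right j).map _

theorem order_SL_dvd {r m : ℕ} (hr : r.Prime) {i : ℕ} (hi : 0 < i) (him : i ≤ m) (hm : 2 ≤ m)
    (h : r ∣ Fintype.card F ^ i - 1) : r ∣ Nat.card (Matrix.SpecialLinearGroup (Fin m) F) := by
  have hq : 1 < Fintype.card F := Fintype.one_lt_card
  -- replace `i = 1` by `i = 2`
  wlog h2 : 2 ≤ i generalizing i
  · obtain rfl : i = 1 := by omega
    refine this (i := 2) (by norm_num) hm (h.trans ?_) le_rfl
    rw [pow_one, pow_two]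
    exact ⟨Fintype.card F + 1, by
      have := Nat.sq_sub_sq (Fintype.card F) 1
      rw [pow_two, pow_two, mul_one] at this
      rw [this, mul_comm]⟩
  obtain ⟨l, rfl⟩ : ∃ l, m = l + 1 := ⟨m - 1, by omega⟩
  have hG := Cfsg.Agent.Lib.Classical.card_SL_mul (F := F) rfl (l + 1) (by omega)
  rw [Fin.prod_univ_castSucc] at hG
  simp only [Fin.val_castSucc, Fin.val_last] at hG
  rw [show Fintype.card F ^ (l + 1) - Fintype.card F ^ l = (Fintype.card F - 1) * Fintype.card F ^ l by
    rw [Nat.sub_one_mul, ← pow_succ'], mul_comm (∏ _ : Fin l, _), mul_assoc] at hG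
  have hcard := Nat.eq_of_mul_eq_mul_left (by omega) hG
  rw [hcard]
  refine dvd_mul_of_dvd_right ((h.trans ?_).trans (Finset.dvd_prod_of_mem _
    (Finset.mem_univ (⟨l + 1 - i, by omega⟩ : Fin l)))) _
  have : Fintype.card F ^ (l + 1) - Fintype.card F ^ (l + 1 - i) =
      Fintype.card F ^ (l + 1 - i) * (Fintype.card F ^ i - 1) := by
    rw [Nat.mul_sub_one, ← pow_add]
    congr 2
    omega
  exact this ▸ dvd_mul_left _ _

theorem char_dvd_card_SL (p : ℕ) [Fact p.Prime] [CharP F p] {m : ℕ} (hm : 2 ≤ m) :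
    p ∣ Nat.card (Matrix.SpecialLinearGroup (Fin m) F) := by
  obtain ⟨l, rfl⟩ : ∃ l, m = l + 1 := ⟨m - 1, by omega⟩
  have hG := Cfsg.Agent.Lib.Classical.card_SL_mul (F := F) rfl (l + 1) (by omega)
  rw [Fin.prod_univ_castSucc] at hG
  simp only [Fin.val_castSucc, Fin.val_last] at hG
  rw [show Fintype.card F ^ (l + 1) - Fintype.card F ^ l = (Fintype.card F - 1) * Fintype.card F ^ l by
    rw [Nat.sub_one_mul, ← pow_succ'], mul_comm (∏ _ : Fin l, _), mul_assoc] at hG
  have hq : 1 < Fintype.card F := Fintype.one_lt_card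
  rw [Nat.eq_of_mul_eq_mul_left (by omega) hG]
  obtain ⟨a, ha, he⟩ := FiniteField.card F p
  refine dvd_mul_of_dvd_left (dvd_pow ?_ (by omega)) _
  exact he ▸ dvd_pow_self p a.ne_zero

/-- `p`-elements only centralise `r`-elements with `r` dividing the order of `SL_{n-2}`. -/
theorem prime_dvd_of_commute (p : ℕ) [Fact p.Prime] [CharP F p] (hn : 3 ≤ n) {r : ℕ} (hr : r.Prime) (hrp : r ≠ p)
    {a b : Matrix.ProjectiveSpecialLinearGroup (Fin n) F} (ha : orderOf a = p) (hb : orderOf b = r)
    (hab : Commute a b) : ∃ i, 0 < i ∧ i ≤ max (n - 2) 1 ∧ r ∣ Fintype.card F ^ i - 1 := by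
  haveI := Fact.mk hr
  by_contra hcon
  push Not at hcon
  have hq1 : ¬ r ∣ Fintype.card F - 1 := by
    have := hcon 1 one_pos (le_max_right _ _)
    rwa [pow_one] at this
  obtain ⟨B, hB, hBr⟩ := exists_lift hr hq1 (by omega) (x := b) (by rw [← hb]; exact pow_orderOf_eq_one b)
  obtain ⟨M, hM, hM0, hc⟩ := exists_square_zero p (by omega) ha hab hB
  have hrF : (r : F) ≠ 0 := by
    rw [Ne, CharP.cast_eq_zero_iff F p]
    exact fun h => hrp ((Nat.prime_dvd_prime_iff_eq Fact.out hr).mp h).symm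
  have hrq : ¬ r ∣ Fintype.card F := by
    intro h
    obtain ⟨e, -, he⟩ := FiniteField.card F p
    rw [he] at h
    exact hrp ((Nat.prime_dvd_prime_iff_eq hr Fact.out).mp (hr.dvd_of_dvd_pow h))
  have h1 := eq_one_of_commute hrF hrq (f := Matrix.toLinAlgEquiv' (B : Matrix (Fin n) (Fin n) F))
    (by rw [← map_pow, ← Matrix.SpecialLinearGroup.coe_pow, hBr, Matrix.SpecialLinearGroup.coe_one, map_one]) hc hM hM0
    (by rw [Module.finrank_fin_fun]; exact hn)
    (fun i hi hi' => hcon i hi (le_trans (by rwa [Module.finrank_fin_fun] at hi') (le_max_left _ _)))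
  have h2 : (B : Matrix (Fin n) (Fin n) F) = 1 :=
    (Matrix.toLinAlgEquiv' (R := F) (n := Fin n)).injective (by rw [h1, map_one])
  rw [show B = 1 from Subtype.ext h2, QuotientGroup.mk_one] at hB
  rw [← hB, orderOf_one] at hb
  exact hr.one_lt.ne hb

theorem prime_factors (p : ℕ) [Fact p.Prime] [CharP F p] (hn : 4 ≤ n)
    (a b : Matrix.ProjectiveSpecialLinearGroup (Fin n) F) (ha : orderOf a = p) (hab : Commute a b) :
    (orderOf b).primeFactors ⊆ (Nat.card (Matrix.SpecialLinearGroup (Fin (n - 2)) F)).primeFactors := by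
  intro r hr
  rw [Nat.mem_primeFactors] at hr ⊢
  obtain ⟨hr, hrb, -⟩ := hr
  refine ⟨hr, ?_, Nat.card_pos.ne'⟩
  by_cases hrp : r = p
  · subst hrp
    exact char_dvd_card_SL r (by omega)
  have hb' : orderOf (b ^ (orderOf b / r)) = r := orderOf_pow_orderOf_div (orderOf_pos b).ne' hrb
  obtain ⟨i, hi, hi', h⟩ := prime_dvd_of_commute p (by omega) hr hrp ha hb' (hab.pow_right _)
  exact order_SL_dvd hr hi (by omega) (by omega) h

theorem no_commute_two (p : ℕ) [Fact p.Prime] [CharP F p] (hn : n = 2) {r : ℕ} (hr : r.Prime) (hrp : r ≠ p)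
    {a b : Matrix.ProjectiveSpecialLinearGroup (Fin n) F} (ha : orderOf a = p) (hb : orderOf b = r)
    (hab : Commute a b) : False := by
  subst hn
  obtain ⟨B, hB⟩ := QuotientGroup.mk_surjective b
  obtain ⟨M, hM, hM0, hc⟩ := exists_square_zero p (by norm_num) ha hab hB
  have hbr : (QuotientGroup.mk (B ^ r) : Matrix.ProjectiveSpecialLinearGroup (Fin 2) F) = 1 := by
    rw [QuotientGroup.mk_pow, hB, ← hb, pow_orderOf_eq_one]
  obtain ⟨c, -, hBc⟩ := mk_eq_one_iff.mp hbr
  set f := Matrix.toLinAlgEquiv' (B : Matrix (Fin 2) (Fin 2) F) with hf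
  obtain ⟨x, e, hx, he, hxe⟩ := exists_scalars hc hM hM0 (by rw [Module.finrank_fin_fun]; norm_num)
  obtain rfl := hxe (by rw [Module.finrank_fin_fun])
  obtain ⟨v, hv⟩ : ∃ v, M v ≠ 0 := by
    by_contra h
    push Not at h
    exact hM0 (LinearMap.ext h)
  have hfr : f ^ r = c • 1 := by
    rw [hf, ← map_pow, ← Matrix.SpecialLinearGroup.coe_pow, hBc, map_smul, map_one]
  have hxr : ∀ j, (f ^ j) (M v) = e ^ j • M v := by
    intro j
    induction j with
    | zero => simp
    | succ j ih => rw [pow_succ', Module.End.mul_apply, ih, map_smul, hx _ ⟨v, rfl⟩, smul_smul, pow_succ]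
  have hec : e ^ r = c := by
    have := hxr r
    rw [hfr, LinearMap.smul_apply, Module.End.one_apply] at this
    exact (smul_left_injective F hv this).symm
  have he0 : e ≠ 0 := by
    rintro rfl
    rw [zero_pow hr.ne_zero] at hec
    subst hec
    have := B ^ r |>.2
    rw [hBc, zero_smul, Matrix.det_zero] at this
    exact zero_ne_one this
  have hrF : (r : F) ≠ 0 := by
    rw [Ne, CharP.cast_eq_zero_iff F p]
    exact fun h => hrp ((Nat.prime_dvd_prime_iff_eq Fact.out hr).mp h).symm
  have h1 := eq_scalar he0 hrF (f := f) (by rw [hfr, hec]) ⟨3, by rw [pow_succ, pow_two]; exact cubic hc hx he⟩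
  have h2 : (B : Matrix (Fin 2) (Fin 2) F) = e • 1 := by
    apply (Matrix.toLinAlgEquiv' (R := F) (n := Fin 2)).injective
    rw [map_smul, map_one, ← hf, h1]
  have hb1 : b = 1 := by
    rw [← hB, mk_eq_one_iff]
    refine ⟨e, ?_, h2⟩
    have := B.2
    rw [h2, det_smul, det_one, mul_one, Fintype.card_fin] at this
    exact this
  rw [hb1, orderOf_one] at hb
  exact hr.one_lt.ne hb

theorem no_commute_three (p : ℕ) [Fact p.Prime] [CharP F p] (hn : n = 3) (hp3 : (3 : ℕ) ≠ p)
    (h9 : ¬ 9 ∣ Fintype.card F - 1) {a b : Matrix.ProjectiveSpecialLinearGroup (Fin n) F} (ha : orderOf a = p)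
    (hb : orderOf b = 3) (hab : Commute a b) : False := by
  subst hn
  obtain ⟨B, hB⟩ := QuotientGroup.mk_surjective b
  obtain ⟨M, hM, hM0, hc⟩ := exists_square_zero p (by norm_num) ha hab hB
  have hbr : (QuotientGroup.mk (B ^ 3) : Matrix.ProjectiveSpecialLinearGroup (Fin 3) F) = 1 := by
    rw [QuotientGroup.mk_pow, hB]
    have e := pow_orderOf_eq_one b
    rw [hb] at e
    exact e
  obtain ⟨c, hc3, hBc⟩ := mk_eq_one_iff.mp hbr
  set f := Matrix.toLinAlgEquiv' (B : Matrix (Fin 3) (Fin 3) F) with hf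
  obtain ⟨x, e, hx, he, -⟩ := exists_scalars hc hM hM0 (by rw [Module.finrank_fin_fun])
  have hfr : f ^ 3 = c • 1 := by
    rw [hf, ← map_pow, ← Matrix.SpecialLinearGroup.coe_pow, hBc, map_smul, map_one]
  obtain ⟨v, hv⟩ : ∃ v, M v ≠ 0 := by
    by_contra h
    push Not at h
    exact hM0 (LinearMap.ext h)
  have hxr : ∀ j, (f ^ j) (M v) = x ^ j • M v := by
    intro j
    induction j with
    | zero => simp
    | succ j ih => rw [pow_succ', Module.End.mul_apply, ih, map_smul, hx _ ⟨v, rfl⟩, smul_smul, pow_succ]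
  have hxc : x ^ 3 = c := by
    have := hxr 3
    rw [hfr, LinearMap.smul_apply, Module.End.one_apply] at this
    exact (smul_left_injective F hv this).symm
  have hc0 : c ≠ 0 := by
    rintro rfl
    simp at hc3
  have hx0 : x ≠ 0 := fun h => hc0 (by rw [← hxc, h]; simp)
  have hrF : ((3 : ℕ) : F) ≠ 0 := by
    rw [Ne, CharP.cast_eq_zero_iff F p]
    exact fun h => hp3 ((Nat.prime_dvd_prime_iff_eq Fact.out Nat.prime_three).mp h).symm
  -- a vector of the middle layer, the basis `M v, w, v`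
  have hrk := LinearMap.finrank_range_add_finrank_ker M
  have ht := finrank_range_le hM
  rw [Module.finrank_fin_fun] at hrk ht
  obtain ⟨w, hwK, hwT⟩ : ∃ w, w ∈ LinearMap.ker M ∧ w ∉ LinearMap.range M := by
    by_contra h
    push Not at h
    have : LinearMap.ker M ≤ LinearMap.range M := h
    have := Submodule.finrank_mono this
    omega
  have hMM : ∀ u, M (M u) = 0 := fun u => LinearMap.congr_fun hM u
  have hli : LinearIndependent F ![M v, w, v] := by
    rw [Fintype.linearIndependent_iff]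
    intro g hg
    simp only [Fin.sum_univ_three, Matrix.cons_val_zero, Matrix.cons_val_one, Matrix.cons_val] at hg
    have h2 : g 2 = 0 := by
      have := congrArg M hg
      rw [map_add, map_add, map_smul, map_smul, map_smul, hMM, LinearMap.mem_ker.mp hwK, smul_zero, smul_zero,
        zero_add, zero_add, map_zero] at this
      exact (smul_eq_zero.mp this).resolve_right hv
    rw [h2, zero_smul, add_zero] at hg
    have h1 : g 1 = 0 := by
      by_contra h1
      refine hwT ?_
      have : w = (-(g 1)⁻¹ * g 0) • M v := by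
        have := congrArg (fun u => (g 1)⁻¹ • u) hg
        simp only [smul_add, smul_smul, inv_mul_cancel₀ h1, one_smul, smul_zero] at this
        rw [neg_mul, neg_smul]
        exact eq_neg_of_add_eq_zero_right this
      rw [this]
      exact Submodule.smul_mem _ _ ⟨v, rfl⟩
    rw [h1, zero_smul, add_zero] at hg
    have h0 := (smul_eq_zero.mp hg).resolve_right hv
    intro i
    fin_cases i <;> assumption
  let bs := basisOfLinearIndependentOfCardEqFinrank hli (by simp [Module.finrank_fin_fun])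
  have hbs : ∀ i, bs i = ![M v, w, v] i := fun i => by simp [bs]
  obtain ⟨u, hu⟩ := he w hwK
  have hfv : M (f v - x • v) = 0 := by
    rw [map_sub, map_smul, show M (f v) = f (M v) from (LinearMap.congr_fun hc.eq v).symm, hx _ ⟨v, rfl⟩, sub_self]
  have hT1 : ∀ y ∈ LinearMap.range M, bs.repr y 1 = 0 ∧ bs.repr y 2 = 0 := by
    have hspan : LinearMap.range M = Submodule.span F {M v} := by
      refine (Submodule.eq_of_le_of_finrank_le ((Submodule.span_singleton_le_iff_mem _ _).mpr (LinearMap.mem_range_self M v)) ?_).symm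
      rw [finrank_span_singleton hv]
      omega
    intro y hy
    rw [hspan, Submodule.mem_span_singleton] at hy
    obtain ⟨s, rfl⟩ := hy
    have e0 : M v = bs 0 := by rw [hbs]; rfl
    rw [e0, map_smul, Module.Basis.repr_self]
    simp [Finsupp.single_apply]
  have hK1 : ∀ y ∈ LinearMap.ker M, bs.repr y 2 = 0 := by
    intro y hy
    have h := congrArg M (bs.sum_repr y)
    simp only [Fin.sum_univ_three, hbs, Matrix.cons_val_zero, Matrix.cons_val_one, Matrix.cons_val, map_add,
      map_smul, hMM, LinearMap.mem_ker.mp hwK, LinearMap.mem_ker.mp hy, smul_zero, zero_add] at h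
    exact (smul_eq_zero.mp h).resolve_right hv
  have hdet : x * e * x = 1 := by
    have hup : (LinearMap.toMatrix bs bs f).BlockTriangular id := by
      intro i j hij
      rw [LinearMap.toMatrix_apply]
      fin_cases i <;> fin_cases j <;>
        first
        | exact absurd hij (by decide)
        | skip
      · simp only [hbs]
        exact (hT1 (f (M v)) (LinearMap.mem_range.mpr ⟨f v, (LinearMap.congr_fun hc.eq v).symm⟩)).1
      · simp only [hbs]
        exact (hT1 (f (M v)) (LinearMap.mem_range.mpr ⟨f v, (LinearMap.congr_fun hc.eq v).symm⟩)).2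
      · simp only [hbs]
        refine hK1 _ ?_
        rw [LinearMap.mem_ker]
        show M (f w) = 0
        rw [show M (f w) = f (M w) from (LinearMap.congr_fun hc.eq w).symm, LinearMap.mem_ker.mp hwK, map_zero]
    have hd : LinearMap.det f = 1 := by
      rw [hf]
      exact (LinearMap.det_toLin' _).trans B.2
    rw [← LinearMap.det_toMatrix bs, det_of_upperTriangular hup, Fin.prod_univ_three] at hd
    have d0 : LinearMap.toMatrix bs bs f 0 0 = x := by
      have e0 : M v = bs 0 := by rw [hbs]; rfl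
      rw [LinearMap.toMatrix_apply, ← e0, hx _ ⟨v, rfl⟩, e0, map_smul, Module.Basis.repr_self]
      simp
    have d1 : LinearMap.toMatrix bs bs f 1 1 = e := by
      have e1 : w = bs 1 := by rw [hbs]; rfl
      rw [LinearMap.toMatrix_apply, ← e1, show f w = M u + e • w by rw [hu]; abel, map_add, Finsupp.add_apply,
        (hT1 _ ⟨u, rfl⟩).1, zero_add, e1, map_smul, Module.Basis.repr_self]
      simp
    have d2 : LinearMap.toMatrix bs bs f 2 2 = x := by
      have e2 : v = bs 2 := by rw [hbs]; rfl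
      rw [LinearMap.toMatrix_apply]
      have h3 := hK1 _ (LinearMap.mem_ker.mpr hfv)
      rw [← e2]
      rw [map_sub, map_smul, Finsupp.sub_apply, Finsupp.smul_apply] at h3
      rw [sub_eq_zero.mp h3]
      conv_lhs => rw [e2, Module.Basis.repr_self]
      simp
    rwa [d0, d1, d2] at hd
  have hx9 : x ^ 9 = 1 := by rw [show (9 : ℕ) = 3 * 3 from rfl, pow_mul, hxc, hc3]
  have hx3 : x ^ 3 = 1 := by
    have hq : x ^ (Fintype.card F - 1) = 1 := FiniteField.pow_card_sub_one_eq_one x hx0
    have hdv : orderOf x ∣ Nat.gcd 9 (Fintype.card F - 1) :=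
      Nat.dvd_gcd (orderOf_dvd_of_pow_eq_one hx9) (orderOf_dvd_of_pow_eq_one hq)
    have hg : Nat.gcd 9 (Fintype.card F - 1) ∣ 3 := by
      have h1 : Nat.gcd 9 (Fintype.card F - 1) ∣ 3 ^ 2 := Nat.gcd_dvd_left _ _
      obtain ⟨j, hj, hj'⟩ := (Nat.dvd_prime_pow Nat.prime_three).mp h1
      interval_cases j
      · rw [hj']; exact one_dvd 3
      · rw [hj']; rfl
      · exact absurd (by rw [show (9 : ℕ) = 3 ^ 2 from rfl, ← hj']; exact Nat.gcd_dvd_right _ _) h9
    exact orderOf_dvd_iff_pow_eq_one.mp (hdv.trans hg)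
  have hex : e = x := by
    have h2 : x * (e * x) = x * x ^ 2 := by rw [← pow_succ', hx3, ← mul_assoc, hdet]
    have h3 := mul_left_cancel₀ hx0 h2
    rw [pow_two] at h3
    exact mul_right_cancel₀ hx0 h3
  subst hex
  have h1 := eq_scalar hx0 hrF (f := f) (by rw [hfr, hxc]) ⟨3, by rw [pow_succ, pow_two]; exact cubic hc hx he⟩
  have h2 : (B : Matrix (Fin 3) (Fin 3) F) = e • 1 := by
    apply (Matrix.toLinAlgEquiv' (R := F) (n := Fin 3)).injective
    rw [map_smul, map_one, ← hf, h1]
  have hb1 : b = 1 := by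
    rw [← hB, mk_eq_one_iff]
    exact ⟨e, hx3, h2⟩
  rw [hb1, orderOf_one] at hb
  norm_num at hb

theorem exists_big {m : ℕ} (h : 2 + m = n) (p : ℕ) [Fact p.Prime] [CharP F p] {r : ℕ} (hr : r.Prime) (hrp : r ≠ p)
    (hdvd : r ∣ Nat.card (Matrix.SpecialLinearGroup (Fin m) F)) :
    r * p ∈ Set.range (orderOf : Matrix.ProjectiveSpecialLinearGroup (Fin n) F → ℕ) := by
  subst h
  haveI := Fact.mk hr
  obtain ⟨g, hg⟩ := exists_prime_orderOf_dvd_card' r hdvd
  let e : Fin 2 ⊕ Fin m ≃ Fin (2 + m) := finSumFinEquiv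
  let i1 : Matrix.SpecialLinearGroup (Fin (2 + m)) F :=
    ⟨Matrix.reindex e e (fromBlocks !![1, 1; 0, 1] 0 0 (1 : Matrix (Fin m) (Fin m) F)), by
      simp [det_fin_two]⟩
  let i2 : Matrix.SpecialLinearGroup (Fin (2 + m)) F :=
    ⟨Matrix.reindex e e (fromBlocks 1 0 0 (g : Matrix (Fin m) (Fin m) F)), by simp⟩
  have hcomm : Commute i1 i2 := by
    apply Subtype.ext
    rw [Matrix.SpecialLinearGroup.coe_mul, Matrix.SpecialLinearGroup.coe_mul]
    simp [i1, i2, fromBlocks_multiply, submatrix_mul_equiv]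
  have hne : ∀ (X : Matrix.SpecialLinearGroup (Fin (2 + m)) F) (A : Matrix (Fin 2) (Fin 2) F) (D : Matrix (Fin m) (Fin m) F),
      (X : Matrix (Fin (2 + m)) (Fin (2 + m)) F) = Matrix.reindex e e (fromBlocks A 0 0 D) →
      (∀ c : F, A = c • 1 → D = c • 1 → False) →
      (QuotientGroup.mk X : Matrix.ProjectiveSpecialLinearGroup (Fin (2 + m)) F) ≠ 1 := by
    intro X A D hX hAD h
    obtain ⟨c, -, hc⟩ := mk_eq_one_iff.mp h
    rw [hX] at hc
    have h2 : fromBlocks A 0 0 D = c • (1 : Matrix (Fin 2 ⊕ Fin m) (Fin 2 ⊕ Fin m) F) := by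
      apply (Matrix.reindex e e).injective
      rw [hc]
      ext i j
      simp [Matrix.one_apply, e.symm.injective.eq_iff]
    rw [← fromBlocks_one, fromBlocks_smul] at h2
    obtain ⟨h3, -, -, h4⟩ := fromBlocks_inj.mp h2
    exact hAD c h3 h4
  have h1 : orderOf (QuotientGroup.mk i1 : Matrix.ProjectiveSpecialLinearGroup (Fin (2 + m)) F) = p := by
    refine orderOf_eq_prime ?_ (hne i1 _ _ rfl fun c h h' => ?_)
    · rw [← QuotientGroup.mk_pow, show i1 ^ p = 1 from ?_, QuotientGroup.mk_one]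
      apply Subtype.ext
      have hpow : ∀ k : ℕ, ((i1 ^ k : Matrix.SpecialLinearGroup (Fin (2 + m)) F) : Matrix (Fin (2 + m)) (Fin (2 + m)) F) =
          Matrix.reindex e e (fromBlocks !![1, (k : F); 0, 1] 0 0 1) := by
        intro k
        induction k with
        | zero => simp [← one_fin_two, fromBlocks_one]
        | succ k ih =>
          rw [pow_succ, Matrix.SpecialLinearGroup.coe_mul, ih]
          simp [i1, fromBlocks_multiply, submatrix_mul_equiv, add_comm]
      rw [hpow, CharP.cast_eq_zero]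
      simp [← one_fin_two, fromBlocks_one]
    · have := congrFun₂ h 0 1
      simp at this
  have h2 : orderOf (QuotientGroup.mk i2 : Matrix.ProjectiveSpecialLinearGroup (Fin (2 + m)) F) = r := by
    refine orderOf_eq_prime ?_ (hne i2 _ _ rfl fun c h h' => ?_)
    · rw [← QuotientGroup.mk_pow, show i2 ^ r = 1 from ?_, QuotientGroup.mk_one]
      apply Subtype.ext
      have hpow : ∀ k : ℕ, ((i2 ^ k : Matrix.SpecialLinearGroup (Fin (2 + m)) F) : Matrix (Fin (2 + m)) (Fin (2 + m)) F) =
          Matrix.reindex e e (fromBlocks 1 0 0 ((g ^ k : Matrix.SpecialLinearGroup (Fin m) F) : Matrix (Fin m) (Fin m) F)) := by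
        intro k
        induction k with
        | zero => simp [fromBlocks_one]
        | succ k ih =>
          rw [pow_succ, Matrix.SpecialLinearGroup.coe_mul, ih, pow_succ, Matrix.SpecialLinearGroup.coe_mul]
          simp [i2, fromBlocks_multiply, submatrix_mul_equiv]
      rw [hpow, ← hg, pow_orderOf_eq_one]
      simp [fromBlocks_one]
    · have hc1 : c = 1 := by simpa using (congrFun₂ h 0 0).symm
      rw [hc1, one_smul] at h'
      rw [show g = 1 from Subtype.ext h', orderOf_one] at hg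
      exact hr.one_lt.ne hg
  refine ⟨QuotientGroup.mk' _ i1 * QuotientGroup.mk' _ i2, ?_⟩
  rw [(hcomm.map (QuotientGroup.mk' _)).orderOf_mul_eq_mul_orderOf_of_coprime]
  · change orderOf (QuotientGroup.mk i1 : Matrix.ProjectiveSpecialLinearGroup (Fin (2 + m)) F) *
      orderOf (QuotientGroup.mk i2 : Matrix.ProjectiveSpecialLinearGroup (Fin (2 + m)) F) = r * p
    rw [h1, h2, mul_comm]
  · change (orderOf (QuotientGroup.mk i1 : Matrix.ProjectiveSpecialLinearGroup (Fin (2 + m)) F)).Coprime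
      (orderOf (QuotientGroup.mk i2 : Matrix.ProjectiveSpecialLinearGroup (Fin (2 + m)) F))
    rw [h1, h2]
    exact (Nat.coprime_primes Fact.out hr).mpr (Ne.symm hrp)

theorem exists_three (hn : n = 3) (p : ℕ) [Fact p.Prime] [CharP F p] {r : ℕ} (hr : r.Prime) (hrp : r ≠ p)
    (α : F) (h1 : (α ^ r) ^ 3 = 1) (h3 : α ^ 3 ≠ 1) :
    r * p ∈ Set.range (orderOf : Matrix.ProjectiveSpecialLinearGroup (Fin n) F → ℕ) := by
  subst hn
  haveI := Fact.mk hr
  have ha : α ≠ 0 := by
    rintro rfl
    simp [zero_pow hr.ne_zero] at h1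
  let u : Matrix.SpecialLinearGroup (Fin 3) F := ⟨!![1, 1, 0; 0, 1, 0; 0, 0, 1], by simp [det_fin_three]⟩
  let X : Matrix.SpecialLinearGroup (Fin 3) F :=
    ⟨!![α, 0, 0; 0, α, 0; 0, 0, α⁻¹ ^ 2], by simp [det_fin_three]; field_simp⟩
  have hcomm : Commute u X := by
    apply Subtype.ext
    rw [Matrix.SpecialLinearGroup.coe_mul, Matrix.SpecialLinearGroup.coe_mul]
    ext i j
    fin_cases i <;> fin_cases j <;> simp [u, X, Matrix.mul_apply, Fin.sum_univ_three]
  have hu : orderOf (QuotientGroup.mk u : Matrix.ProjectiveSpecialLinearGroup (Fin 3) F) = p := by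
    refine orderOf_eq_prime ?_ ?_
    · rw [← QuotientGroup.mk_pow, show u ^ p = 1 from ?_, QuotientGroup.mk_one]
      apply Subtype.ext
      have hpow : ∀ k : ℕ, ((u ^ k : Matrix.SpecialLinearGroup (Fin 3) F) : Matrix (Fin 3) (Fin 3) F) =
          !![1, (k : F), 0; 0, 1, 0; 0, 0, 1] := by
        intro k
        induction k with
        | zero => ext i j; fin_cases i <;> fin_cases j <;> simp
        | succ k ih =>
          rw [pow_succ, Matrix.SpecialLinearGroup.coe_mul, ih]
          ext i j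
          fin_cases i <;> fin_cases j <;> simp [u, Matrix.mul_apply, Fin.sum_univ_three, add_comm]
      rw [hpow, CharP.cast_eq_zero]
      ext i j
      fin_cases i <;> fin_cases j <;> simp
    · intro h
      obtain ⟨c, -, hc⟩ := mk_eq_one_iff.mp h
      simpa [u] using congrFun₂ hc 0 1
  have hX : orderOf (QuotientGroup.mk X : Matrix.ProjectiveSpecialLinearGroup (Fin 3) F) = r := by
    refine orderOf_eq_prime ?_ ?_
    · rw [← QuotientGroup.mk_pow, mk_eq_one_iff]
      refine ⟨α ^ r, h1, ?_⟩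
      have hpow : ((X ^ r : Matrix.SpecialLinearGroup (Fin 3) F) : Matrix (Fin 3) (Fin 3) F) =
          Matrix.diagonal ![α ^ r, α ^ r, (α⁻¹ ^ 2) ^ r] := by
        rw [Matrix.SpecialLinearGroup.coe_pow, show (X : Matrix (Fin 3) (Fin 3) F) = Matrix.diagonal ![α, α, α⁻¹ ^ 2] by
          ext i j; fin_cases i <;> fin_cases j <;> simp [X], Matrix.diagonal_pow]
        congr 1
        funext i
        fin_cases i <;> simp
      rw [hpow, show (α⁻¹ ^ 2) ^ r = α ^ r by
        rw [← pow_mul, mul_comm, pow_mul, inv_pow]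
        exact ((eq_inv_of_mul_eq_one_left (by rw [← h1]; ring)).trans (inv_pow _ 2).symm).symm]
      ext i j
      fin_cases i <;> fin_cases j <;> simp
    · intro h
      obtain ⟨c, -, hc⟩ := mk_eq_one_iff.mp h
      have e1 : α = c := by simpa [X] using congrFun₂ hc 0 0
      have e2 : α⁻¹ ^ 2 = c := by simpa [X] using congrFun₂ hc 2 2
      apply h3
      rw [← e1] at e2
      calc α ^ 3 = α ^ 2 * α := pow_succ α 2
        _ = α ^ 2 * α⁻¹ ^ 2 := by rw [e2]
        _ = 1 := by rw [← mul_pow, mul_inv_cancel₀ ha, one_pow]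
  refine ⟨QuotientGroup.mk' _ u * QuotientGroup.mk' _ X, ?_⟩
  rw [(hcomm.map (QuotientGroup.mk' _)).orderOf_mul_eq_mul_orderOf_of_coprime]
  · change orderOf (QuotientGroup.mk u : Matrix.ProjectiveSpecialLinearGroup (Fin 3) F) *
      orderOf (QuotientGroup.mk X : Matrix.ProjectiveSpecialLinearGroup (Fin 3) F) = r * p
    rw [hu, hX, mul_comm]
  · change (orderOf (QuotientGroup.mk u : Matrix.ProjectiveSpecialLinearGroup (Fin 3) F)).Coprime
      (orderOf (QuotientGroup.mk X : Matrix.ProjectiveSpecialLinearGroup (Fin 3) F))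
    rw [hu, hX]
    exact (Nat.coprime_primes Fact.out hr).mpr (Ne.symm hrp)

/-- Adjacency of `r` and `p`. -/
theorem adjacency (p : ℕ) [Fact p.Prime] [CharP F p] (hn : 2 ≤ n) (r : ℕ) (hr : r.Prime) (hrp : r ≠ p) :
    (r * p ∉ Set.range (orderOf : Matrix.ProjectiveSpecialLinearGroup (Fin n) F → ℕ)) ↔
      (n - 2 < orderOf ((Fintype.card F : ℕ) : ZMod r) ∨
        (n = 3 ∧ r = 3 ∧ 3 ∣ Fintype.card F - 1 ∧ ¬ 9 ∣ Fintype.card F - 1)) := by
  haveI := Fact.mk hr
  have hq : 1 < Fintype.card F := Fintype.one_lt_card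
  have hrq : ¬ r ∣ Fintype.card F := by
    intro h
    obtain ⟨e, -, he⟩ := FiniteField.card F p
    rw [he] at h
    exact hrp ((Nat.prime_dvd_prime_iff_eq hr Fact.out).mp (hr.dvd_of_dvd_pow h))
  have hk0 : 0 < orderOf ((Fintype.card F : ℕ) : ZMod r) := LargeSylow.order_pos hrq
  have hkd := fun i => LargeSylow.dvd_pow_sub_one_iff (r := r) hq i
  set k := orderOf ((Fintype.card F : ℕ) : ZMod r) with hk
  constructor
  · intro hno
    by_contra hcon
    push Not at hcon
    obtain ⟨hkn, hex⟩ := hcon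
    apply hno
    rcases Nat.lt_or_ge n 4 with h4 | h4
    · obtain rfl : n = 3 := by omega
      have hk1 : k = 1 := by omega
      have hr1 : r ∣ Fintype.card F - 1 := by
        have := (hkd 1).mpr (by rw [hk1])
        rwa [pow_one] at this
      obtain ⟨g, hg⟩ := IsCyclic.exists_ofOrder_eq_natCard (α := Fˣ)
      rw [Nat.card_units, Nat.card_eq_fintype_card] at hg
      by_cases hr3 : r = 3
      · subst hr3
        have h9 : 9 ∣ Fintype.card F - 1 := hex rfl rfl hr1
        set h := g ^ (orderOf g / 9)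
        have ho : orderOf h = 9 := orderOf_pow_orderOf_div (by rw [hg]; omega) (by rw [hg]; exact h9)
        refine exists_three rfl p hr hrp (h : F) ?_ ?_
        · rw [← pow_mul, show (3 * 3 : ℕ) = 9 from rfl, ← Units.val_pow_eq_pow_val, ← ho, pow_orderOf_eq_one, Units.val_one]
        · intro e
          have : h ^ 3 = 1 := Units.ext (by rw [Units.val_pow_eq_pow_val, e, Units.val_one])
          have := Nat.le_of_dvd (by norm_num) (orderOf_dvd_of_pow_eq_one this)
          omega
      · set h := g ^ (orderOf g / r)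
        have ho : orderOf h = r := orderOf_pow_orderOf_div (by rw [hg]; omega) (by rw [hg]; exact hr1)
        refine exists_three rfl p hr hrp (h : F) ?_ ?_
        · rw [← Units.val_pow_eq_pow_val, ← ho, pow_orderOf_eq_one, Units.val_one, one_pow]
        · intro e
          have : h ^ 3 = 1 := Units.ext (by rw [Units.val_pow_eq_pow_val, e, Units.val_one])
          have h2 := orderOf_dvd_of_pow_eq_one this
          rw [ho] at h2
          exact hr3 ((Nat.prime_dvd_prime_iff_eq hr Nat.prime_three).mp h2)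
    · exact exists_big (m := n - 2) (by omega) p hr hrp
        (order_SL_dvd hr hk0 hkn (by omega) ((hkd k).mpr dvd_rfl))
  · intro hcase hmem
    obtain ⟨x, hx⟩ := hmem
    have hpos : (r * p) ≠ 0 := mul_ne_zero hr.ne_zero (Fact.out : p.Prime).ne_zero
    have ha : orderOf (x ^ (orderOf x / p)) = p := orderOf_pow_orderOf_div (hx ▸ hpos) (hx ▸ dvd_mul_left p r)
    have hb : orderOf (x ^ (orderOf x / r)) = r := orderOf_pow_orderOf_div (hx ▸ hpos) (hx ▸ dvd_mul_right r p)
    have hab : Commute (x ^ (orderOf x / p)) (x ^ (orderOf x / r)) := Commute.pow_pow_self x _ _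
    rcases Nat.lt_or_ge n 3 with h3 | h3
    · exact no_commute_two p (by omega) hr hrp ha hb hab
    rcases hcase with hlt | ⟨hn3, hr3, -, h9⟩
    · obtain ⟨i, hi, hi', hdvd⟩ := prime_dvd_of_commute p h3 hr hrp ha hb hab
      have := Nat.le_of_dvd hi ((hkd i).mp hdvd)
      omega
    · subst hr3
      exact no_commute_three p hn3 hrp h9 ha hb hab

end Cfsg.Agent.Lib.GLn.UnipCentralizer
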