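import Cfsg.Agent.Lib.GLn.PSLPrimeAdjacency

/-!
# Adjacency of two odd primes in the prime graph of `PSL_n(q)`
-/

set_option autoImplicit false

namespace Cfsg.Agent.Lib.GLn.PrimePair

open Matrix Polynomial Cfsg.Agent.Lib.GLn

variable {F : Type*} [Field F] [Fintype F] {n : ℕ}

theorem factor_degree (p : ℕ) [Fact p.Prime] [CharP F p] {m r : ℕ} (hm : p.Coprime m) (hrm : r ∣ m)
    {P : F[X]} (hP : Irreducible P) (hdvd : P ∣ cyclotomic m F) :
    orderOf ((Fintype.card F : ℕ) : ZMod r) ∣ P.natDegree := by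
  obtain ⟨f, hf, hK⟩ := FiniteField.card F p
  rw [Polynomial.natDegree_of_dvd_cyclotomic_of_irreducible (f := (f : ℕ)) hK hm hdvd hP]
  rw [orderOf_dvd_iff_pow_eq_one]
  have h := congrArg (Units.val) (pow_orderOf_eq_one (ZMod.unitOfCoprime _ (hm.pow_left (f : ℕ))))
  rw [Units.val_pow_eq_pow_val, ZMod.coe_unitOfCoprime, Units.val_one] at h
  have h2 := congrArg (ZMod.castHom hrm (ZMod r)) h
  rw [map_pow, map_natCast, map_one] at h2
  rw [hK]
  exact h2

theorem common_factor {A B : F[X]} (hA : A ≠ 0) (h : ¬ IsCoprime A B) : ∃ P, Irreducible P ∧ P ∣ A ∧ P ∣ B := by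
  classical
  rw [← EuclideanDomain.gcd_isUnit_iff] at h
  obtain ⟨P, hP, hPd⟩ := WfDvdMonoid.exists_irreducible_factor h
    (fun e => hA (EuclideanDomain.gcd_eq_zero_iff.mp e).1)
  exact ⟨P, hP, hPd.trans (EuclideanDomain.gcd_dvd_left A B), hPd.trans (EuclideanDomain.gcd_dvd_right A B)⟩

/-- `n` is large enough for a matrix of order `r s`. -/
theorem degree_bound (p : ℕ) [Fact p.Prime] [CharP F p] {r s : ℕ} (hr : r.Prime) (hs : s.Prime) (hrp : r ≠ p)
    (hsp : s ≠ p) (hrs : r ≠ s) {X : Matrix (Fin n) (Fin n) F} (hX : X ^ (r * s) = 1) (hXr : X ^ r ≠ 1)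
    (hXs : X ^ s ≠ 1) :
    Nat.lcm (orderOf ((Fintype.card F : ℕ) : ZMod r)) (orderOf ((Fintype.card F : ℕ) : ZMod s)) ≤ n ∨
      orderOf ((Fintype.card F : ℕ) : ZMod r) + orderOf ((Fintype.card F : ℕ) : ZMod s) ≤ n := by
  classical
  have hp : p.Prime := Fact.out
  have hcr : p.Coprime r := (Nat.coprime_primes hp hr).mpr (Ne.symm hrp)
  have hcs : p.Coprime s := (Nat.coprime_primes hp hs).mpr (Ne.symm hsp)
  set μ := minpoly F X with hμ
  have hint : IsIntegral F X := Algebra.IsIntegral.isIntegral X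
  have hμ0 : μ ≠ 0 := minpoly.ne_zero hint
  have hdeg : μ.natDegree ≤ n := by
    have h := natDegree_le_of_dvd (minpoly_dvd_charpoly X) (Matrix.charpoly_monic X).ne_zero
    rw [Matrix.charpoly_natDegree_eq_dim, Fintype.card_fin] at h
    exact h
  have hdvd : μ ∣ (Polynomial.X : F[X]) ^ (r * s) - 1 := minpoly.dvd F X (by simp [hX])
  have hdiv : (r * s).divisors = {1, r, s, r * s} := by
    rw [Nat.divisors_mul, hr.divisors, hs.divisors]
    ext x
    simp only [Finset.mem_mul, Finset.mem_insert, Finset.mem_singleton]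
    constructor
    · rintro ⟨a, rfl | rfl, b, rfl | rfl, rfl⟩ <;> simp
    · rintro (rfl | rfl | rfl | rfl)
      · exact ⟨1, by simp, 1, by simp, by simp⟩
      · exact ⟨x, by simp, 1, by simp, by simp⟩
      · exact ⟨1, by simp, x, by simp, by simp⟩
      · exact ⟨r, by simp, s, by simp, rfl⟩
  have hprod : (Polynomial.X : F[X]) ^ (r * s) - 1 =
      cyclotomic 1 F * cyclotomic r F * (cyclotomic s F * cyclotomic (r * s) F) := by
    rw [← prod_cyclotomic_eq_X_pow_sub_one (Nat.mul_pos hr.pos hs.pos), hdiv]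
    rw [Finset.prod_insert, Finset.prod_insert, Finset.prod_pair]
    · ring
    · exact fun e => hr.one_lt.ne' ((Nat.mul_eq_right hs.ne_zero).mp e.symm)
    · simp only [Finset.mem_insert, Finset.mem_singleton, not_or]
      exact ⟨hrs, fun e => hs.one_lt.ne' ((Nat.mul_eq_left hr.ne_zero).mp e.symm)⟩
    · simp only [Finset.mem_insert, Finset.mem_singleton, not_or]
      refine ⟨hr.one_lt.ne, hs.one_lt.ne, fun e => ?_⟩
      exact hr.one_lt.ne' (Nat.eq_one_of_mul_eq_one_right e.symm)
  by_cases hrs' : IsCoprime μ (cyclotomic (r * s) F)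
  · right
    -- factors for `r` and `s`
    have key : ∀ {u v : ℕ}, u.Prime → v.Prime → (Polynomial.X : F[X]) ^ v - 1 = cyclotomic 1 F * cyclotomic v F →
        μ ∣ cyclotomic u F * (cyclotomic 1 F * cyclotomic v F) → X ^ v ≠ 1 → ¬ IsCoprime μ (cyclotomic u F) := by
      intro u v _ _ hv hd hne hco
      refine hne ?_
      have h1 : μ ∣ (Polynomial.X : F[X]) ^ v - 1 := hv ▸ hco.dvd_of_dvd_mul_left hd
      have h2 := aeval_eq_zero_of_dvd_aeval_eq_zero h1 (minpoly.aeval F X)
      simpa [sub_eq_zero] using h2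
    have hfac : ∀ {u : ℕ}, u.Prime → (Polynomial.X : F[X]) ^ u - 1 = cyclotomic 1 F * cyclotomic u F := by
      intro u hu
      rw [← prod_cyclotomic_eq_X_pow_sub_one hu.pos, hu.divisors, Finset.prod_pair hu.one_lt.ne]
    rw [hprod] at hdvd
    have hd3 : μ ∣ cyclotomic 1 F * cyclotomic r F * cyclotomic s F := by
      rw [← mul_assoc] at hdvd
      exact hrs'.dvd_of_dvd_mul_right hdvd
    obtain ⟨P, hP, hPμ, hPr⟩ := common_factor hμ0 (key hr hs (hfac hs)
      (by convert hd3 using 1; ring) hXs)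
    obtain ⟨Q, hQ, hQμ, hQs⟩ := common_factor hμ0 (key hs hr (hfac hr)
      (by convert hd3 using 1; ring) hXr)
    have hdP := factor_degree p hcr dvd_rfl hP hPr
    have hdQ := factor_degree p hcs dvd_rfl hQ hQs
    have hsep : ((Polynomial.X : F[X]) ^ (r * s) - 1).Separable := by
      rw [X_pow_sub_one_separable_iff, Ne, CharP.cast_eq_zero_iff F p]
      intro h
      rcases hp.dvd_mul.mp h with h | h
      · exact hrp ((Nat.prime_dvd_prime_iff_eq hp hr).mp h).symm
      · exact hsp ((Nat.prime_dvd_prime_iff_eq hp hs).mp h).symm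
    have hPQ : IsCoprime P Q := by
      rw [hprod] at hsep
      have h1 : IsCoprime (cyclotomic 1 F * cyclotomic r F) (cyclotomic s F * cyclotomic (r * s) F) := hsep.isCoprime
      exact (h1.of_isCoprime_of_dvd_left (hPr.trans (dvd_mul_left _ _))).of_isCoprime_of_dvd_right
        (hQs.trans (dvd_mul_right _ _))
    have hle := natDegree_le_of_dvd (hPQ.mul_dvd hPμ hQμ) hμ0
    rw [natDegree_mul hP.ne_zero hQ.ne_zero] at hle
    have := Nat.le_of_dvd hP.natDegree_pos hdP
    have := Nat.le_of_dvd hQ.natDegree_pos hdQ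
    omega
  · left
    obtain ⟨P, hP, hPμ, hPc⟩ := common_factor hμ0 hrs'
    refine le_trans ?_ ((natDegree_le_of_dvd hPμ hμ0).trans hdeg)
    exact Nat.le_of_dvd hP.natDegree_pos (Nat.lcm_dvd
      (factor_degree p (Nat.Coprime.mul_right hcr hcs) (dvd_mul_right r s) hP hPc)
      (factor_degree p (Nat.Coprime.mul_right hcr hcs) (dvd_mul_left s r) hP hPc))

theorem order_mk {X : Matrix.SpecialLinearGroup (Fin n) F} (hn : 0 < n)
    (h : (orderOf X).Coprime (Fintype.card F - 1)) :
    orderOf (QuotientGroup.mk X : Matrix.ProjectiveSpecialLinearGroup (Fin n) F) = orderOf X := by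
  refine Nat.dvd_antisymm (orderOf_map_dvd (QuotientGroup.mk' _) X) ?_
  set m := orderOf (QuotientGroup.mk X : Matrix.ProjectiveSpecialLinearGroup (Fin n) F) with hm
  have hXm : (QuotientGroup.mk (X ^ m) : Matrix.ProjectiveSpecialLinearGroup (Fin n) F) = 1 := by
    rw [QuotientGroup.mk_pow, hm, pow_orderOf_eq_one]
  obtain ⟨c, hcn, hc⟩ := UnipCentralizer.mk_eq_one_iff.mp hXm
  have hc0 : c ≠ 0 := by
    rintro rfl
    rw [zero_pow hn.ne'] at hcn
    exact zero_ne_one hcn
  have h2 : X ^ (m * (Fintype.card F - 1)) = 1 := by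
    apply Subtype.ext
    rw [pow_mul, Matrix.SpecialLinearGroup.coe_pow, hc, _root_.smul_pow, one_pow, FiniteField.pow_card_sub_one_eq_one c hc0,
      one_smul, Matrix.SpecialLinearGroup.coe_one]
  exact h.dvd_of_dvd_mul_right (orderOf_dvd_of_pow_eq_one h2)

theorem pair_adjacency (p : ℕ) [Fact p.Prime] [CharP F p] (r s : ℕ) (hr : r.Prime) (hs : s.Prime) (hrp : r ≠ p)
    (hsp : s ≠ p) (hrs : r ≠ s) (hn : 2 ≤ n)
    (hsG : s ∣ Nat.card (Matrix.ProjectiveSpecialLinearGroup (Fin n) F))
    (k l : ℕ) (hk : k = orderOf ((Fintype.card F : ℕ) : ZMod r)) (hl : l = orderOf ((Fintype.card F : ℕ) : ZMod s))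
    (h2k : 2 ≤ k) (hkl : k ≤ l) :
    (r * s ∉ Set.range (orderOf : Matrix.ProjectiveSpecialLinearGroup (Fin n) F → ℕ)) ↔ (n < k + l ∧ ¬ k ∣ l) := by
  classical
  haveI := Fact.mk hr
  haveI := Fact.mk hs
  have hq : 1 < Fintype.card F := Fintype.one_lt_card
  have hkd := fun i => LargeSylow.dvd_pow_sub_one_iff (r := r) hq i
  have hld := fun i => LargeSylow.dvd_pow_sub_one_iff (r := s) hq i
  rw [← hk] at hkd
  rw [← hl] at hld
  have hr1 : ¬ r ∣ Fintype.card F - 1 := fun h => by
    have := Nat.le_of_dvd one_pos ((hkd 1).mp (by rwa [pow_one]))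
    omega
  have hs1 : ¬ s ∣ Fintype.card F - 1 := fun h => by
    have := Nat.le_of_dvd one_pos ((hld 1).mp (by rwa [pow_one]))
    omega
  have hco : (r * s).Coprime (Fintype.card F - 1) :=
    Nat.Coprime.mul_left (hr.coprime_iff_not_dvd.mpr hr1) (hs.coprime_iff_not_dvd.mpr hs1)
  constructor
  · intro hno
    by_contra hcon
    apply hno
    suffices ∃ X : Matrix.SpecialLinearGroup (Fin n) F, orderOf X = r * s by
      obtain ⟨X, hX⟩ := this
      exact ⟨QuotientGroup.mk X, by rw [order_mk (by omega) (hX ▸ hco), hX]⟩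
    by_cases hdiv : k ∣ l
    · -- torus of `F_{q^l}`
      have hln : l ≤ n := by
        have h1 : s ∣ Nat.card (GL (Fin n) F) := by
          refine hsG.trans ((Subgroup.card_quotient_dvd_card _).trans ?_)
          exact Subgroup.card_dvd_of_injective _ Matrix.SpecialLinearGroup.toGL_injective
        rw [card_GL_field, hs.prime.dvd_finsetProd_iff] at h1
        obtain ⟨i, -, hi⟩ := h1
        rw [show Fintype.card F ^ n = Fintype.card F ^ (i : ℕ) * Fintype.card F ^ (n - i) by
          rw [← pow_add]; congr 1; omega, ← Nat.mul_sub_one] at hi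
        rcases hs.dvd_mul.mp hi with h | h
        · obtain ⟨f, -, hK⟩ := FiniteField.card F p
          rw [hK] at h
          exact absurd ((Nat.prime_dvd_prime_iff_eq hs Fact.out).mp (hs.dvd_of_dvd_pow (hs.dvd_of_dvd_pow h))) hsp
        · have := Nat.le_of_dvd (by omega) ((hld _).mp h)
          omega
      haveI : NeZero l := ⟨by omega⟩
      obtain ⟨φ, hφ, hdet⟩ := Cfsg.Agent.Lib.GLTorus.exists_hom (F := F) p n l hln
      obtain ⟨u, hu⟩ := IsCyclic.exists_ofOrder_eq_natCard (α := (FiniteField.Extension F p l)ˣ)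
      rw [Nat.card_units, FiniteField.natCard_extension, Nat.card_eq_fintype_card] at hu
      have hd : r * s ∣ orderOf u := by
        rw [hu]
        exact (((Nat.coprime_primes hr hs).mpr hrs)).mul_dvd_of_dvd_of_dvd ((hkd l).mpr hdiv) ((hld l).mpr dvd_rfl)
      set v := u ^ (orderOf u / (r * s)) with hv
      have hov : orderOf v = r * s := orderOf_pow_orderOf_div (orderOf_pos u).ne' hd
      set g := Units.map φ v with hg
      have hog : orderOf g = r * s := by
        rw [hg, orderOf_injective (Units.map φ) (fun a b h => Units.ext (hφ (congrArg Units.val h))), hov]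
      have hdet1 : Matrix.GeneralLinearGroup.det g = 1 := by
        rw [← orderOf_eq_one_iff]
        refine Nat.eq_one_of_dvd_coprimes hco ?_ ?_
        · exact hog ▸ orderOf_map_dvd _ g
        · have := orderOf_dvd_natCard (Matrix.GeneralLinearGroup.det g)
          rwa [Nat.card_units, Nat.card_eq_fintype_card] at this
      let X : Matrix.SpecialLinearGroup (Fin n) F :=
        ⟨(g : Matrix (Fin n) (Fin n) F), by simpa using congrArg Units.val hdet1⟩
      refine ⟨X, ?_⟩
      rw [← hog, ← orderOf_injective Matrix.SpecialLinearGroup.toGL Matrix.SpecialLinearGroup.toGL_injective X]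
      congr 1
      exact Units.ext rfl
    · -- two blocks
      have hle : k + l ≤ n := by
        by_contra h
        exact hcon ⟨by omega, hdiv⟩
      obtain ⟨rest, rfl⟩ : ∃ rest, n = k + (l + rest) := ⟨n - k - l, by omega⟩
      obtain ⟨A, hA⟩ := exists_prime_orderOf_dvd_card' r
        (UnipCentralizer.order_SL_dvd (F := F) (m := k) hr (i := k) (by omega) le_rfl h2k ((hkd k).mpr dvd_rfl))
      obtain ⟨B, hB⟩ := exists_prime_orderOf_dvd_card' s
        (UnipCentralizer.order_SL_dvd (F := F) (m := l + rest) hs (i := l) (by omega) (by omega) (by omega) ((hld l).mpr dvd_rfl))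
      let e : Fin k ⊕ Fin (l + rest) ≃ Fin (k + (l + rest)) := finSumFinEquiv
      let M : Matrix.SpecialLinearGroup (Fin k) F × Matrix.SpecialLinearGroup (Fin (l + rest)) F →*
          Matrix (Fin (k + (l + rest))) (Fin (k + (l + rest))) F :=
        { toFun := fun x => Matrix.reindex e e
            (fromBlocks (x.1 : Matrix (Fin k) (Fin k) F) 0 0 (x.2 : Matrix (Fin (l + rest)) (Fin (l + rest)) F))
          map_one' := by simp [fromBlocks_one]
          map_mul' := fun x y => by simp [fromBlocks_multiply, submatrix_mul_equiv] }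
      let ι : Matrix.SpecialLinearGroup (Fin k) F × Matrix.SpecialLinearGroup (Fin (l + rest)) F →*
          Matrix.SpecialLinearGroup (Fin (k + (l + rest))) F :=
        { toFun := fun x => ⟨M x, by simp [M]⟩
          map_one' := Subtype.ext (map_one M)
          map_mul' := fun x y => Subtype.ext (map_mul M x y) }
      have hι : Function.Injective ι := by
        intro x y h
        have h2 := fromBlocks_inj.mp ((Matrix.reindex e e).injective (congrArg Subtype.val h))
        exact Prod.ext (Subtype.ext h2.1) (Subtype.ext h2.2.2.2)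
      refine ⟨ι (A, B), ?_⟩
      rw [orderOf_injective ι hι, Prod.orderOf_mk, hA, hB, ((Nat.coprime_primes hr hs).mpr hrs).lcm_eq_mul]
  · rintro ⟨hlt, hdiv⟩ ⟨x, hx⟩
    obtain ⟨Y, hY⟩ := QuotientGroup.mk_surjective x
    have hY1 : (QuotientGroup.mk (Y ^ (r * s)) : Matrix.ProjectiveSpecialLinearGroup (Fin n) F) = 1 := by
      rw [QuotientGroup.mk_pow, hY, ← hx, pow_orderOf_eq_one]
    obtain ⟨c, hcn, hc⟩ := UnipCentralizer.mk_eq_one_iff.mp hY1
    have hc0 : c ≠ 0 := by
      rintro rfl
      rw [zero_pow (by omega)] at hcn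
      exact zero_ne_one hcn
    obtain ⟨e, her, hen⟩ := UnipCentralizer.exists_root hr hr1 hcn hc0
    have he0 : e ≠ 0 := by
      rintro rfl
      rw [zero_pow hr.ne_zero] at her
      exact hc0 her.symm
    obtain ⟨d, hds, hdn⟩ := UnipCentralizer.exists_root hs hs1 hen he0
    let D : Matrix.SpecialLinearGroup (Fin n) F := ⟨d⁻¹ • 1, by simp [hdn]⟩
    have hD : (QuotientGroup.mk (D * Y) : Matrix.ProjectiveSpecialLinearGroup (Fin n) F) = x := by
      rw [QuotientGroup.mk_mul, show (QuotientGroup.mk D : Matrix.ProjectiveSpecialLinearGroup (Fin n) F) = 1 from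
        UnipCentralizer.mk_eq_one_iff.mpr ⟨d⁻¹, by simp [hdn], rfl⟩, one_mul, hY]
    have hpow : ((D * Y : Matrix.SpecialLinearGroup (Fin n) F) : Matrix (Fin n) (Fin n) F) ^ (r * s) = 1 := by
      rw [Matrix.SpecialLinearGroup.coe_mul]
      change ((d⁻¹ • 1 : Matrix (Fin n) (Fin n) F) * (Y : Matrix (Fin n) (Fin n) F)) ^ (r * s) = 1
      rw [smul_mul_assoc, one_mul, _root_.smul_pow, ← Matrix.SpecialLinearGroup.coe_pow, hc, smul_smul, inv_pow,
        mul_comm r s, pow_mul, hds, her, inv_mul_cancel₀ hc0, one_smul]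
    have hne : ∀ {u v : ℕ}, r * s = u * v → 1 < v → u ≠ 0 →
        ((D * Y : Matrix.SpecialLinearGroup (Fin n) F) : Matrix (Fin n) (Fin n) F) ^ u ≠ 1 := by
      intro u v he hv hu h
      have h1 : (D * Y) ^ u = 1 := Subtype.ext (by rw [Matrix.SpecialLinearGroup.coe_pow, h, Matrix.SpecialLinearGroup.coe_one])
      have h2 : orderOf x ∣ u := by
        rw [← hD]
        exact (orderOf_map_dvd (QuotientGroup.mk' _) _).trans (orderOf_dvd_of_pow_eq_one h1)
      rw [hx, he] at h2
      have := Nat.le_of_dvd (Nat.pos_of_ne_zero hu) h2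
      have : u * 2 ≤ u * v := Nat.mul_le_mul_left _ hv
      omega
    rcases degree_bound p hr hs hrp hsp hrs hpow (hne rfl hs.one_lt hr.ne_zero)
      (hne (mul_comm r s) hr.one_lt hs.ne_zero) with h | h
    · rw [← hk, ← hl] at h
      obtain ⟨t, ht⟩ := Nat.dvd_lcm_right k l
      have ht2 : 2 ≤ t := by
        rcases t with _ | _ | t
        · exact absurd ht (by rw [mul_zero]; exact Nat.lcm_ne_zero (by omega) (by omega))
        · exfalso
          apply hdiv
          rw [zero_add, mul_one] at ht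
          exact ht ▸ Nat.dvd_lcm_left k l
        · omega
      have : l * 2 ≤ l * t := Nat.mul_le_mul_left _ ht2
      omega
    · rw [← hk, ← hl] at h
      omega

end Cfsg.Agent.Lib.GLn.PrimePair
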