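import Cfsg.Agent.Lib.GLn.ReciprocalTorsion

/-!
# Factors of self-reciprocal polynomials with roots among the `r`-th roots of unity
-/

set_option autoImplicit false

namespace Cfsg.Agent.Lib.GLn.ReciprocalTorsion

open Polynomial UniqueFactorizationMonoid
open scoped Classical

universe u

variable {F : Type u} [Field F]

/-- Monic, self-reciprocal, with all factors dividing `X ^ r - 1`. -/
def Good (r : ℕ) (P : F[X]) : Prop :=
  P.Monic ∧ star P = P ∧ ∀ h : F[X], Irreducible h → h.Monic → h ∣ P → h ∣ X ^ r - 1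

theorem coeff_zero_ne_of_dvd {r : ℕ} (hr : r ≠ 0) {h : F[X]} (hd : h ∣ X ^ r - 1) : h.coeff 0 ≠ 0 := fun h0 => by
  obtain ⟨g, hg⟩ := hd
  have := congrArg (fun P : F[X] => P.coeff 0) hg
  simp [mul_coeff_zero, h0, hr, Ne.symm hr, coeff_one] at this

theorem coeff_zero_ne_of_factors {r : ℕ} (hr : r ≠ 0) {P : F[X]}
    (hf : ∀ h : F[X], Irreducible h → h.Monic → h ∣ P → h ∣ X ^ r - 1) : P.coeff 0 ≠ 0 := fun h0 =>
  coeff_zero_ne_of_dvd hr (hf X irreducible_X monic_X (X_dvd_iff.2 h0)) (by simp)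

theorem reverse_eq_of_star {P : F[X]} (h0 : P.coeff 0 ≠ 0) (hs : star P = P) :
    P.reverse = C (P.coeff 0) * P := by
  calc P.reverse = C (P.coeff 0) * star P := by
        rw [star, ← mul_assoc, ← C_mul, mul_inv_cancel₀ h0, C_1, one_mul]
    _ = _ := by rw [hs]

theorem coeff_zero_of_rec {n : ℕ} {P : F[X]} (hP : P.Monic) (hr : P.reverse = C ((-1 : F) ^ n) * P) :
    P.coeff 0 = (-1) ^ n := by
  have h := congrArg (fun Q : F[X] => Q.coeff 0) hr
  rw [coeff_zero_reverse, hP.leadingCoeff, coeff_C_mul] at h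
  calc P.coeff 0 = ((-1 : F) ^ n * (-1) ^ n) * P.coeff 0 := by rw [← mul_pow]; simp
    _ = (-1 : F) ^ n := by rw [mul_assoc, ← h, mul_one]

theorem good_of_rec {n r : ℕ} {P : F[X]} (hP : IsRecTorsion n r P) : Good r P := by
  refine ⟨hP.1, ?_, hP.2.2.2⟩
  rw [star, hP.2.2.1, coeff_zero_of_rec hP.1 hP.2.2.1, ← mul_assoc, ← C_mul,
    inv_mul_cancel₀ (pow_ne_zero _ (neg_ne_zero.2 one_ne_zero)), C_1, one_mul]

theorem Good.exists_split {r : ℕ} (hr : r ≠ 0) {P : F[X]} (hP : Good r P) :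
    ∃ (a : ℕ) (P' : F[X]), P = (X - 1) ^ a * P' ∧ Good r P' ∧ P'.eval 1 ≠ 0 ∧
      a + P'.natDegree = P.natDegree := by
  obtain ⟨P', hP', hnd⟩ := exists_eq_pow_rootMultiplicity_mul_and_not_dvd P hP.1.ne_zero (1 : F)
  rw [C_1] at hP' hnd
  set a := P.rootMultiplicity 1
  have hX : (X - 1 : F[X]).Monic := by simpa using monic_X_sub_C (1 : F)
  have hm : P'.Monic := (hX.pow a).of_mul_monic_left (hP' ▸ hP.1)
  refine ⟨a, P', hP', ⟨hm, ?_, fun h hh hhm hd => hP.2.2 h hh hhm (hP' ▸ dvd_mul_of_dvd_right hd _)⟩, ?_, ?_⟩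
  · have h := hP.2.1
    rw [hP', star_mul, star_pow, star_X_sub_one] at h
    exact mul_left_cancel₀ (pow_ne_zero _ hX.ne_zero) h
  · intro h
    exact hnd (by simpa using (dvd_iff_isRoot (p := P') (a := (1 : F))).2 h)
  · rw [hP', (hX.pow a).natDegree_mul hm, hX.natDegree_pow,
      show (X - 1 : F[X]).natDegree = 1 by simpa using natDegree_X_sub_C (1 : F), mul_one]

theorem star_dvd_of_dvd_comp {r : ℕ} (hr : r ≠ 0) {h A : F[X]} (hh : Irreducible h) (hhm : h.Monic)
    (hd : h ∣ X ^ r - 1) (hc : h ∣ A.comp (X ^ (r - 1))) : star h ∣ A := by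
  have h0 := coeff_zero_ne_of_dvd hr hd
  haveI : Fact (Irreducible h) := ⟨hh⟩
  set x := AdjoinRoot.root h
  have hxr : x ^ r = 1 := by
    have := AdjoinRoot.mk_eq_zero.2 hd
    rwa [map_sub, map_pow, AdjoinRoot.mk_X, map_one, sub_eq_zero] at this
  have hxy : x * x ^ (r - 1) = 1 := by rw [← pow_succ', Nat.sub_add_cancel (Nat.one_le_iff_ne_zero.2 hr), hxr]
  have h2 := aeval_star hxy (show aeval x h = 0 by rw [AdjoinRoot.aeval_eq, AdjoinRoot.mk_self])
  rw [minpoly.eq_of_irreducible_of_monic (irreducible_star hhm hh h0) h2 (monic_star h0)]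
  refine minpoly.dvd F _ ?_
  have h3 := AdjoinRoot.mk_eq_zero.2 hc
  rw [← AdjoinRoot.aeval_eq, aeval_comp, map_pow, aeval_X] at h3
  exact h3

theorem monic_of_mem_factors {P h : F[X]} (hh : h ∈ normalizedFactors P) : h.Monic := by
  classical
  rw [← normalize_normalized_factor h hh]
  exact monic_normalize (irreducible_of_normalized_factor h hh).ne_zero

theorem factors_prod (P : F[X]) (hP : P.Monic) : (normalizedFactors P).prod = P := by
  rw [prod_normalizedFactors_eq hP.ne_zero, hP.normalize_eq_self]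

theorem mem_of_dvd_prod {s : Multiset F[X]} (hs : ∀ h ∈ s, Irreducible h ∧ h.Monic) {f : F[X]}
    (hf : Irreducible f) (hfm : f.Monic) (hd : f ∣ s.prod) : f ∈ s := by
  obtain ⟨g, hg, hd⟩ := hf.prime.exists_mem_multiset_dvd hd
  rwa [eq_of_monic_of_associated hfm (hs g hg).2 (hf.associated_of_dvd (hs g hg).1 hd)]

variable [Fintype F] {p q : ℕ} [Fact p.Prime] [CharP F p]

/-- The factors different from `X - 1` of `X ^ r - 1`. -/
theorem factor_facts (hF : Fintype.card F = q) (r i : ℕ) (hr : r.Prime) (hr2 : r ≠ 2) (hrp : r ≠ p)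
    (hi : i = orderOf (q : ZMod r)) {h : F[X]} (hh : Irreducible h) (hhm : h.Monic) (hd : h ∣ X ^ r - 1)
    (h1 : h ≠ X - 1) :
    h.natDegree = i ∧ h.eval 1 ≠ 0 ∧ (Odd i → star h ≠ h) ∧ (Even i → star h = h) := by
  classical
  haveI : Fact r.Prime := ⟨hr⟩
  obtain ⟨k, hp, hk⟩ := FiniteField.card F p
  have hcop : p.Coprime r := (Nat.coprime_primes hp hr).2 hrp.symm
  have hq : q = p ^ (k : ℕ) := hF.symm.trans hk
  have hi' : i = orderOf (ZMod.unitOfCoprime _ (hcop.pow_left (k : ℕ))) := by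
    rw [hi, hq, ← orderOf_units, ZMod.coe_unitOfCoprime]
  have hX1 : (X - 1 : F[X]).Monic := by simpa using monic_X_sub_C (1 : F)
  have hiX : Irreducible (X - 1 : F[X]) := by simpa using irreducible_X_sub_C (1 : F)
  have hcyc : h ∣ cyclotomic r F := by
    rw [← cyclotomic_prime_mul_X_sub_one F r] at hd
    rcases hh.prime.dvd_or_dvd hd with h' | h'
    · exact h'
    · exact absurd (eq_of_monic_of_associated hhm hX1 (hh.associated_of_dvd hiX h')) h1
  have hdeg : h.natDegree = i := by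
    obtain ⟨g, hg, hgh⟩ := exists_mem_normalizedFactors_of_dvd (cyclotomic_ne_zero r F) hh hcyc
    rw [hi', natDegree_eq_of_degree_eq (degree_eq_degree_of_associated hgh)]
    exact natDegree_of_mem_normalizedFactors_cyclotomic hk hcop hg
  have he1 : h.eval 1 ≠ 0 := fun he => h1 (eq_of_monic_of_associated hhm hX1
    (hiX.associated_of_dvd hh (by simpa using (dvd_iff_isRoot (p := h) (a := (1 : F))).2 he)).symm)
  have h0 := coeff_zero_ne_of_dvd hr.ne_zero hd
  refine ⟨hdeg, he1, fun hio e => ?_, fun hie => ?_⟩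
  · have hc : h.coeff 0 = 1 := by
      have h2 := congrArg (eval (1 : F)) e
      rw [star, eval_mul, eval_C, show h.reverse.eval 1 = h.eval 1 by
        letI : Invertible (1 : F) := invertibleOne
        have := eval₂_reflect_mul_pow (RingHom.id F) (1 : F) h.natDegree h le_rfl
        simpa [reverse, eval₂_id] using this] at h2
      exact inv_eq_one.1 ((mul_eq_right₀ he1).1 h2)
    have hn := eval_neg_one (hdeg.symm ▸ hio) hc e
    obtain ⟨g, hg⟩ := hd
    have := congrArg (eval (-1 : F)) hg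
    rw [eval_mul, hn, zero_mul, eval_sub, eval_pow, eval_X, eval_one, (hr.odd_of_ne_two hr2).neg_one_pow] at this
    refine he1 ?_
    rw [← hn]
    congr 1
    linear_combination -this
  · obtain ⟨j, hj⟩ := hie
    haveI : Fact (Irreducible h) := ⟨hh⟩
    set x := AdjoinRoot.root h
    have hx0 : aeval x h = 0 := by rw [AdjoinRoot.aeval_eq, AdjoinRoot.mk_self]
    have hxr : x ^ r = 1 := by
      have := AdjoinRoot.mk_eq_zero.2 hd
      rwa [map_sub, map_pow, AdjoinRoot.mk_X, map_one, sub_eq_zero] at this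
    have hqj : ((q : ZMod r)) ^ j = -1 := by
      have h2 : ((q : ZMod r) ^ j) * ((q : ZMod r) ^ j) = 1 := by
        rw [← pow_add, ← hj, hi, pow_orderOf_eq_one]
      refine (mul_self_eq_one_iff.1 h2).resolve_left fun h3 => ?_
      have := orderOf_dvd_of_pow_eq_one h3
      rw [← hi] at this
      have hipos : 0 < i := by rw [hi']; exact orderOf_pos _
      have := Nat.le_of_dvd (by omega) this
      omega
    have hdvd : r ∣ q ^ j + 1 := by
      rw [← ZMod.natCast_eq_zero_iff]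
      push_cast
      rw [hqj, neg_add_cancel]
    have hy : x * x ^ (q ^ j) = 1 := by
      obtain ⟨c, hc⟩ := hdvd
      rw [← pow_succ', hc, pow_mul, hxr, one_pow]
    have h2 := aeval_star hy hx0
    have h3 : ∀ e, aeval (x ^ (q ^ e)) h = 0 := fun e => by
      induction e with
      | zero => rw [pow_zero, pow_one]; exact hx0
      | succ e ih =>
        rw [pow_succ, pow_mul]
        rw [← hF] at ih ⊢
        rw [← expand_aeval, FiniteField.expand_card, map_pow, ih, zero_pow Fintype.card_ne_zero]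
    exact (minpoly.eq_of_irreducible_of_monic (irreducible_star hhm hh h0) h2 (monic_star h0)).trans
      (minpoly.eq_of_irreducible_of_monic hh (h3 j) hhm).symm

/-- The factors of a `Good` polynomial not vanishing at one. -/
theorem Good.factor_ne {P h : F[X]} (h1 : P.eval 1 ≠ 0) (hd : h ∣ P) : h ≠ X - 1 := fun e => h1 <| by
  obtain ⟨g, rfl⟩ := hd
  rw [e]; simp

theorem natDegree_eq_card_mul (hF : Fintype.card F = q) (r i : ℕ) (hr : r.Prime) (hr2 : r ≠ 2) (hrp : r ≠ p)
    (hi : i = orderOf (q : ZMod r)) {P : F[X]} (hP : P.Monic)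
    (hf : ∀ h : F[X], Irreducible h → h.Monic → h ∣ P → h ∣ X ^ r - 1) (h1 : P.eval 1 ≠ 0) :
    i ∣ P.natDegree ∧ P.natDegree = (normalizedFactors P).card * i := by
  classical
  have h : P.natDegree = (normalizedFactors P).card * i := by
    conv_lhs => rw [← factors_prod P hP]
    rw [natDegree_multiset_prod_of_monic _ fun h hh => monic_of_mem_factors hh]
    rw [Multiset.map_congr rfl (g := fun _ => i) fun h hh => ?_, Multiset.map_const', Multiset.sum_replicate,
      smul_eq_mul]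
    have hd := dvd_of_mem_normalizedFactors hh
    exact (factor_facts (p := p) hF r i hr hr2 hrp hi (irreducible_of_normalized_factor h hh)
      (monic_of_mem_factors hh) (hf h (irreducible_of_normalized_factor h hh) (monic_of_mem_factors hh) hd)
      (Good.factor_ne h1 hd)).1
  exact ⟨h ▸ dvd_mul_left _ _, h⟩

/-- For odd `i` the factors come in pairs. -/
theorem Good.exists_half (hF : Fintype.card F = q) (r i : ℕ) (hr : r.Prime) (hr2 : r ≠ 2) (hrp : r ≠ p)
    (hi : i = orderOf (q : ZMod r)) (hio : Odd i) {P : F[X]} (hP : Good r P) (h1 : P.eval 1 ≠ 0) :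
    ∃ A : F[X], P = A * star A ∧ A.Monic ∧ A.coeff 0 ≠ 0 ∧ P.natDegree = 2 * A.natDegree ∧
      (∀ h : F[X], Irreducible h → h.Monic → h ∣ A → h ∣ X ^ r - 1 ∧ ¬ star h ∣ A) ∧
      (∀ h : F[X], Irreducible h → h.Monic → h ∣ star A → h ∣ X ^ r - 1 ∧ ¬ star h ∣ star A) ∧
      i ∣ A.natDegree := by
  classical
  let L : F[X] → F[X] → Prop := WellOrderingRel
  haveI : IsWellOrder F[X] L := WellOrderingRel.isWellOrder
  set s := normalizedFactors P
  have hs : ∀ h ∈ s, Irreducible h ∧ h.Monic := fun h hh =>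
    ⟨irreducible_of_normalized_factor h hh, monic_of_mem_factors hh⟩
  have hfac : ∀ h ∈ s, h ∣ X ^ r - 1 ∧ h.coeff 0 ≠ 0 ∧ star h ≠ h ∧ Irreducible (star h) ∧ (star h).Monic ∧
      star (star h) = h := fun h hh => by
    obtain ⟨hi', hm'⟩ := hs h hh
    have hd := hP.2.2 h hi' hm' (dvd_of_mem_normalizedFactors hh)
    have h0 := coeff_zero_ne_of_dvd hr.ne_zero hd
    exact ⟨hd, h0, (factor_facts (p := p) hF r i hr hr2 hrp hi hi' hm' hd
      (Good.factor_ne h1 (dvd_of_mem_normalizedFactors hh))).2.2.1 hio, irreducible_star hm' hi' h0,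
      monic_star h0, star_star hm' h0⟩
  set sA := s.filter fun h => L h (star h)
  set sB := s.filter fun h => ¬ L h (star h)
  set A := sA.prod
  set B := sB.prod
  have hA : A.Monic := monic_multiset_prod_of_monic sA id (fun h hh => (hs h (Multiset.mem_of_mem_filter hh)).2) |>
    fun h => by simpa using h
  have hB : B.Monic := monic_multiset_prod_of_monic sB id (fun h hh => (hs h (Multiset.mem_of_mem_filter hh)).2) |>
    fun h => by simpa using h
  have hAB : P = A * B := by
    rw [← Multiset.prod_add, Multiset.filter_add_not]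
    exact (factors_prod P hP.1).symm
  have hsA : ∀ h, Irreducible h → h.Monic → h ∣ A → h ∈ s ∧ L h (star h) := fun h hh hhm hd =>
    Multiset.mem_filter.1 (mem_of_dvd_prod (fun g hg => hs g (Multiset.mem_of_mem_filter hg)) hh hhm hd)
  have hsB : ∀ h, Irreducible h → h.Monic → h ∣ B → h ∈ s ∧ ¬ L h (star h) := fun h hh hhm hd =>
    Multiset.mem_filter.1 (mem_of_dvd_prod (fun g hg => hs g (Multiset.mem_of_mem_filter hg)) hh hhm hd)
  have hA' : ∀ h : F[X], Irreducible h → h.Monic → h ∣ A → h ∣ X ^ r - 1 ∧ ¬ star h ∣ A := by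
    intro h hh hhm hd
    obtain ⟨hm, hL⟩ := hsA h hh hhm hd
    obtain ⟨hx, -, -, hsi, hsm, hss⟩ := hfac h hm
    refine ⟨hx, fun hd' => ?_⟩
    have h2 := (hsA _ hsi hsm hd').2
    rw [hss] at h2
    exact asymm hL h2
  have hB' : ∀ h : F[X], Irreducible h → h.Monic → h ∣ B → h ∣ X ^ r - 1 ∧ ¬ star h ∣ B := by
    intro h hh hhm hd
    obtain ⟨hm, hL⟩ := hsB h hh hhm hd
    obtain ⟨hx, -, hne, hsi, hsm, hss⟩ := hfac h hm
    refine ⟨hx, fun hd' => ?_⟩
    have h2 := (hsB _ hsi hsm hd').2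
    rw [hss] at h2
    rcases trichotomous_of L h (star h) with h' | h' | h'
    exacts [hL h', hne h'.symm, h2 h']
  have hA0 : A.coeff 0 ≠ 0 := coeff_zero_ne_of_factors hr.ne_zero fun h a b c => (hA' h a b c).1
  have hB0 : B.coeff 0 ≠ 0 := coeff_zero_ne_of_factors hr.ne_zero fun h a b c => (hB' h a b c).1
  have hcop : ∀ C : F[X], C.Monic → C.coeff 0 ≠ 0 →
      (∀ h : F[X], Irreducible h → h.Monic → h ∣ C → h ∣ X ^ r - 1 ∧ ¬ star h ∣ C) → IsCoprime C (star C) := by
    intro C hC hC0 hC'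
    refine (isRelPrime_iff_isCoprime).1 (WfDvdMonoid.isRelPrime_of_no_irreducible_factors
      (fun h => hC.ne_zero h.1) fun z hz hz1 hz2 => ?_)
    obtain ⟨g, hg, hgz⟩ := exists_mem_normalizedFactors_of_dvd hC.ne_zero hz hz1
    have hgi := irreducible_of_normalized_factor g hg
    have hgm := monic_of_mem_factors hg
    obtain ⟨hgx, hng⟩ := hC' g hgi hgm (dvd_of_mem_normalizedFactors hg)
    obtain ⟨c, hc⟩ := hgz.symm.dvd.trans hz2
    refine hng ⟨star c, ?_⟩
    have := congrArg star hc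
    rwa [star_mul, star_star hC hC0] at this
  have hst : A * B = star A * star B := by rw [← star_mul, ← hAB, hP.2.1]
  have h12 : A ∣ star B := (hcop A hA hA0 hA').dvd_of_dvd_mul_left (hst ▸ dvd_mul_right A B)
  have h21 : B ∣ star A := (hcop B hB hB0 hB').dvd_of_dvd_mul_right (hst ▸ dvd_mul_left B A)
  have hd1 := natDegree_le_of_dvd h12 (monic_star hB0).ne_zero
  rw [natDegree_star hB0] at hd1
  have hBA : B = star A :=
    (eq_of_monic_of_dvd_of_natDegree_le hB (monic_star hA0) h21 (by rw [natDegree_star hA0]; exact hd1)).symm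
  rw [hBA] at hAB hB'
  refine ⟨A, hAB, hA, hA0, by rw [hAB, hA.natDegree_mul (monic_star hA0), natDegree_star hA0, two_mul],
    hA', hB', (natDegree_eq_card_mul (p := p) hF r i hr hr2 hrp hi hA (fun h a b c => (hA' h a b c).1) fun h => h1 ?_).1⟩
  rw [hAB, eval_mul, h, zero_mul]

/-- Those not vanishing at one are the difference of two consecutive counts. -/
theorem card_rec_eval_ne (n r : ℕ) (hr : r ≠ 0) :
    Nat.card {P : F[X] // IsRecTorsion (n + 1) r P ∧ P.eval 1 ≠ 0} + Nat.card {P : F[X] // IsRecTorsion n r P} =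
      Nat.card {P : F[X] // IsRecTorsion (n + 1) r P} := by
  classical
  have hfin : Finite {P : F[X] // IsRecTorsion (n + 1) r P} :=
    Finite.of_injective (fun P => fun j : Fin (n + 2) => P.1.coeff j) fun P Q e => Subtype.ext <| by
      ext j
      by_cases hj : j < n + 2
      · exact congrFun e ⟨j, hj⟩
      · rw [coeff_eq_zero_of_natDegree_lt (by rw [P.2.2.1]; omega),
          coeff_eq_zero_of_natDegree_lt (by rw [Q.2.2.1]; omega)]
  have hXm : (X - 1 : F[X]).Monic := by simpa using monic_X_sub_C (1 : F)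
  have hXd : (X - 1 : F[X]).natDegree = 1 := by simpa using natDegree_X_sub_C (1 : F)
  have hXr : (X - 1 : F[X]).reverse = C (-1) * (X - 1) := by
    rw [reverse_eq_of_star (by simp) star_X_sub_one]; simp
  let e : {P : F[X] // IsRecTorsion n r P} ≃
      {P : {P : F[X] // IsRecTorsion (n + 1) r P} // ¬ P.1.eval 1 ≠ 0} :=
    Equiv.ofBijective (fun P => ⟨⟨(X - 1) * P.1, hXm.mul P.2.1,
        by rw [hXm.natDegree_mul P.2.1, hXd, P.2.2.1, add_comm],
        by rw [reverse_mul_of_domain, hXr, P.2.2.2.1, pow_succ', C_mul]; ring,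
        fun h hh hhm hd => (hh.prime.dvd_or_dvd hd).elim
          (fun h' => h'.trans (sub_one_dvd_pow_sub_one X r)) (P.2.2.2.2 h hh hhm)⟩, by simp⟩)
      ⟨fun P Q e => Subtype.ext (mul_left_cancel₀ hXm.ne_zero
          (congrArg (fun P => P.1.1) e : (X - 1) * P.1 = (X - 1) * Q.1)), fun ⟨⟨P, hP⟩, h1⟩ => ?_⟩
  · have hfin2 : Finite {P : {P : F[X] // IsRecTorsion (n + 1) r P} // P.1.eval 1 ≠ 0} := inferInstance
    rw [Nat.card_congr e, ← Nat.card_congr (Equiv.subtypeSubtypeEquivSubtypeInter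
      (fun P : F[X] => IsRecTorsion (n + 1) r P) fun P => P.eval 1 ≠ 0), ← Nat.card_sum,
      Nat.card_congr (Equiv.sumCompl _)]
  obtain ⟨Q, hQ⟩ : (X - 1 : F[X]) ∣ P := by simpa using (dvd_iff_isRoot (p := P) (a := (1 : F))).2 (not_not.1 h1)
  have hQm : Q.Monic := hXm.of_mul_monic_left (hQ ▸ hP.1)
  have hQd : Q.natDegree = n := by
    have := hP.2.1
    rw [hQ, hXm.natDegree_mul hQm, hXd] at this
    omega
  refine ⟨⟨Q, hQm, hQd, ?_, fun h hh hhm hd => hP.2.2.2 h hh hhm (hQ ▸ dvd_mul_of_dvd_right hd _)⟩,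
    Subtype.ext (Subtype.ext hQ.symm)⟩
  have h := hP.2.2.1
  rw [hQ, reverse_mul_of_domain, hXr, pow_succ', C_mul] at h
  refine mul_left_cancel₀ (mul_ne_zero (C_ne_zero.2 (neg_ne_zero.2 one_ne_zero)) hXm.ne_zero : C (-1 : F) * (X - 1) ≠ 0) ?_
  rw [h]; ring

end Cfsg.Agent.Lib.GLn.ReciprocalTorsion
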