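import Cfsg.Agent.Lib.GLn.TorsionClasses
import Mathlib.RingTheory.Polynomial.Cyclotomic.Factorization
import Mathlib.FieldTheory.Finite.Basic

/-!
# Self-reciprocal polynomials whose roots are `r`-th roots of unity

Over the field with `q` elements, for an odd prime `r` prime to `q`, such polynomials of degree `n`
are counted by the Frobenius orbits up to inversion.
-/

set_option autoImplicit false

namespace Cfsg.Agent.Lib.GLn.ReciprocalTorsion

open Polynomial UniqueFactorizationMonoid

universe u

variable {F : Type u} [Field F]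

/-- The monic reversed polynomial. -/
noncomputable def star (P : F[X]) : F[X] := C (P.coeff 0)⁻¹ * P.reverse

theorem star_mul (P Q : F[X]) : star (P * Q) = star P * star Q := by
  rw [star, star, star, reverse_mul_of_domain, mul_coeff_zero, mul_inv, C_mul]; ring

theorem star_one : star (1 : F[X]) = 1 := by
  rw [star, coeff_one_zero, inv_one, C_1, one_mul, ← C_1, reverse_C]

theorem star_prod {ι : Type*} (s : Finset ι) (g : ι → F[X]) : star (∏ i ∈ s, g i) = ∏ i ∈ s, star (g i) := by
  classical
  induction s using Finset.induction with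
  | empty => simp [star_one]
  | insert a s ha ih => rw [Finset.prod_insert ha, Finset.prod_insert ha, star_mul, ih]

theorem star_pow (P : F[X]) (k : ℕ) : star (P ^ k) = star P ^ k := by
  induction k with
  | zero => simp [star_one]
  | succ k ih => rw [pow_succ, pow_succ, star_mul, ih]

theorem natDegree_star {P : F[X]} (h0 : P.coeff 0 ≠ 0) : (star P).natDegree = P.natDegree := by
  rw [star, natDegree_C_mul (inv_ne_zero h0), reverse_natDegree,
    natTrailingDegree_eq_zero.2 (Or.inr h0), Nat.sub_zero]

theorem coeff_star (P : F[X]) {j : ℕ} (hj : j ≤ P.natDegree) :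
    (star P).coeff j = (P.coeff 0)⁻¹ * P.coeff (P.natDegree - j) := by
  rw [star, coeff_C_mul, coeff_reverse, revAt_le hj]

theorem monic_star {P : F[X]} (h0 : P.coeff 0 ≠ 0) : (star P).Monic := by
  rw [Monic, leadingCoeff, natDegree_star h0, coeff_star P le_rfl, Nat.sub_self, inv_mul_cancel₀ h0]

theorem coeff_zero_star {P : F[X]} (hP : P.Monic) : (star P).coeff 0 = (P.coeff 0)⁻¹ := by
  rw [coeff_star P (Nat.zero_le _), Nat.sub_zero, hP.coeff_natDegree, mul_one]

theorem star_star {P : F[X]} (hP : P.Monic) (h0 : P.coeff 0 ≠ 0) : star (star P) = P := by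
  have hd := natDegree_star h0
  have h0' : (star P).coeff 0 ≠ 0 := by rw [coeff_zero_star hP]; exact inv_ne_zero h0
  ext j
  by_cases hj : j ≤ P.natDegree
  · rw [coeff_star _ (hd.symm ▸ hj), coeff_zero_star hP, coeff_star P (by omega), hd,
      show P.natDegree - (P.natDegree - j) = j by omega, inv_inv, ← mul_assoc, mul_inv_cancel₀ h0, one_mul]
  · rw [coeff_eq_zero_of_natDegree_lt (by rw [natDegree_star h0', hd]; omega),
      coeff_eq_zero_of_natDegree_lt (by omega)]

theorem star_X_sub_one : star (X - 1 : F[X]) = X - 1 := by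
  have hd : (X - 1 : F[X]).natDegree = 1 := by simpa using natDegree_X_sub_C (1 : F)
  have h0 : (X - 1 : F[X]).coeff 0 ≠ 0 := by simp
  ext j
  by_cases hj : j ≤ (X - 1 : F[X]).natDegree
  · rw [coeff_star _ hj, hd]
    rw [hd] at hj
    obtain rfl | rfl : j = 0 ∨ j = 1 := by omega
    · simp [coeff_one]
    · simp [coeff_one]
  · rw [coeff_eq_zero_of_natDegree_lt (by rw [natDegree_star h0]; omega),
      coeff_eq_zero_of_natDegree_lt (by omega)]

theorem irreducible_star {f : F[X]} (hfm : f.Monic) (hf : Irreducible f) (h0 : f.coeff 0 ≠ 0) :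
    Irreducible (star f) := by
  refine (monic_star h0).irreducible_iff_natDegree.2 ⟨fun h => ?_, fun a b ha hb hab => ?_⟩
  · have := hf.natDegree_pos
    rw [← natDegree_star h0, h, natDegree_one] at this
    omega
  · have hne : a.coeff 0 ≠ 0 ∧ b.coeff 0 ≠ 0 := by
      have h1 := congrArg (fun P : F[X] => P.coeff 0) hab
      rw [mul_coeff_zero, coeff_zero_star hfm] at h1
      exact mul_ne_zero_iff.1 (by rw [h1]; exact inv_ne_zero h0)
    have h2 := congrArg star hab
    rw [star_mul, star_star hfm h0] at h2
    rcases (hfm.irreducible_iff_natDegree.1 hf).2 _ _ (monic_star hne.1) (monic_star hne.2) h2 with h | h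
    · exact Or.inl (by rwa [natDegree_star hne.1] at h)
    · exact Or.inr (by rwa [natDegree_star hne.2] at h)

theorem aeval_star {A : Type*} [CommRing A] [Algebra F A] {P : F[X]} {x y : A} (hxy : x * y = 1)
    (h : aeval x P = 0) : aeval y (star P) = 0 := by
  letI : Invertible x := ⟨y, by rw [mul_comm, hxy], hxy⟩
  have h1 := (eval₂_reverse_eq_zero_iff (algebraMap F A) x P).2 h
  rw [star, map_mul, show aeval y P.reverse = eval₂ (algebraMap F A) (⅟x) P.reverse from rfl, h1, mul_zero]

/-- A polynomial of odd degree fixed by `star` with constant term one vanishes at `-1`. -/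
theorem eval_neg_one {P : F[X]} (hodd : Odd P.natDegree) (h0 : P.coeff 0 = 1) (hs : star P = P) :
    P.eval (-1) = 0 := by
  rw [eval_eq_sum_range]
  refine Finset.sum_involution (fun j _ => P.natDegree - j) (fun j hj => ?_) (fun j hj _ => ?_)
    (fun j hj => Finset.mem_range.2 (by omega)) fun j hj => ?_
  · rw [Finset.mem_range] at hj
    have h1 : P.coeff j = P.coeff (P.natDegree - j) := by
      conv_lhs => rw [← hs, coeff_star P (by omega), h0, inv_one, one_mul]
    rw [← h1, ← mul_add]
    rcases Nat.even_or_odd j with he | ho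
    · rw [he.neg_one_pow, (Nat.Odd.sub_even (by omega) hodd he).neg_one_pow, add_neg_cancel, mul_zero]
    · rw [ho.neg_one_pow, (Nat.Odd.sub_odd hodd ho).neg_one_pow, neg_add_cancel, mul_zero]
  · rw [Finset.mem_range] at hj
    obtain ⟨k, hk⟩ := hodd
    omega
  · rw [Finset.mem_range] at hj
    omega

/-- Compositions of a bound. -/
theorem card_sum_le (T : Type*) [Fintype T] (M : ℕ) :
    Nat.card {a : T → ℕ // ∑ x, a x ≤ M} = Nat.choose (M + Fintype.card T) (Fintype.card T) := by
  classical
  let e : {a : T → ℕ // ∑ x, a x ≤ M} ≃ {b : Option T → ℕ // ∑ o, b o = M} :=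
    { toFun := fun a => ⟨fun o => o.elim (M - ∑ x, a.1 x) a.1, by
        rw [Fintype.sum_option]
        change (M - ∑ x, a.1 x) + ∑ x, a.1 x = M
        have := a.2
        omega⟩
      invFun := fun b => ⟨fun x => b.1 (some x), by
        have := b.2
        rw [Fintype.sum_option] at this
        show ∑ x, b.1 (some x) ≤ M
        omega⟩
      left_inv := fun a => rfl
      right_inv := fun b => Subtype.ext (funext fun o => by
        cases o with
        | none =>
          have := b.2
          rw [Fintype.sum_option] at this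
          change M - ∑ x, b.1 (some x) = b.1 none
          omega
        | some x => rfl) }
  rw [Nat.card_congr (e.trans (Sym.equivNatSumOfFintype (Option T) M).symm), Nat.card_eq_fintype_card,
    Sym.card_sym_eq_choose, Fintype.card_option, show Fintype.card T + 1 + M - 1 = M + Fintype.card T by omega,
    Nat.choose_symm_add]

/-- Functions invariant under a fixed-point-free involution, by the weight of the half. -/
theorem card_invariant_le {T : Type*} [Fintype T] (s : T → T) (hs : ∀ x, s (s x) = x) (hne : ∀ x, s x ≠ x)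
    (M : ℕ) : Nat.card {a : T → ℕ // (∀ x, a (s x) = a x) ∧ ∑ x, a x ≤ 2 * M} =
      Nat.choose (M + Fintype.card T / 2) (Fintype.card T / 2) := by
  classical
  let ε := Fintype.equivFin T
  let R := {x : T // ε x < ε (s x)}
  have hnot : ∀ x : T, ¬ ε x < ε (s x) → ε (s x) < ε (s (s x)) := fun x hx => by
    rw [hs]
    exact lt_of_le_of_ne (not_lt.1 hx) fun h => hne x (ε.injective h)
  let e : R ⊕ R ≃ T :=
    { toFun := Sum.elim (fun x => x.1) fun x => s x.1
      invFun := fun x => if h : ε x < ε (s x) then Sum.inl ⟨x, h⟩ else Sum.inr ⟨s x, hnot x h⟩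
      left_inv := by
        rintro (⟨x, hx⟩ | ⟨x, hx⟩)
        · simp [hx]
        · dsimp only [Sum.elim_inr]
          split_ifs with h
          · exact absurd h (by rw [hs]; exact hx.asymm)
          · simp only [Sum.inr.injEq, Subtype.mk.injEq, hs]
      right_inv := fun x => by
        dsimp only
        split_ifs with h
        · rfl
        · exact hs x }
  have hR : Fintype.card T / 2 = Fintype.card R := by
    have := Fintype.card_congr e
    rw [Fintype.card_sum] at this
    omega
  rw [hR, ← card_sum_le R M]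
  have hsum : ∀ a : T → ℕ, (∀ x, a (s x) = a x) → ∑ x, a x = 2 * ∑ x : R, a x.1 := fun a ha => by
    rw [← e.sum_comp, Fintype.sum_sum_type, two_mul]
    congr 1
    exact Finset.sum_congr rfl fun x _ => ha x.1
  refine Nat.card_congr
    { toFun := fun a => ⟨fun x => a.1 x.1, by
        have := a.2.2; rw [hsum a.1 a.2.1] at this; show ∑ x : R, a.1 x.1 ≤ M; omega⟩
      invFun := fun b => ⟨fun x => if h : ε x < ε (s x) then b.1 ⟨x, h⟩ else b.1 ⟨s x, hnot x h⟩, ?_, ?_⟩
      left_inv := fun a => Subtype.ext (funext fun x => by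
        dsimp only
        split_ifs with h
        · rfl
        · exact a.2.1 x)
      right_inv := fun b => Subtype.ext (funext fun x => dif_pos x.2) }
  · intro x
    dsimp only
    by_cases h : ε x < ε (s x)
    · rw [dif_pos h, dif_neg (by rw [hs]; exact h.asymm)]
      exact congrArg b.1 (Subtype.ext (hs x))
    · rw [dif_neg h, dif_pos (hnot x h)]
  · rw [hsum _ (fun x => by
      by_cases h : ε x < ε (s x)
      · rw [dif_pos h, dif_neg (by rw [hs]; exact h.asymm)]
        exact congrArg b.1 (Subtype.ext (hs x))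
      · rw [dif_neg h, dif_pos (hnot x h)])]
    refine Nat.mul_le_mul le_rfl (le_trans (le_of_eq (Finset.sum_congr rfl fun x _ => dif_pos x.2)) b.2)

/-- The defining condition: monic, degree `n`, self-reciprocal up to `(-1)^n`, roots `r`-th roots of unity. -/
def IsRecTorsion (n r : ℕ) (P : F[X]) : Prop :=
  P.Monic ∧ P.natDegree = n ∧ P.reverse = C ((-1 : F) ^ n) * P ∧
    ∀ h : F[X], Irreducible h → h.Monic → h ∣ P → h ∣ X ^ r - 1

variable [Fintype F] {p q : ℕ} [Fact p.Prime] [CharP F p]

/-- The count of the self-reciprocal polynomials with roots among the `r`-th roots of unity. -/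
theorem card_recTorsion (hF : Fintype.card F = q) (n r i t : ℕ) (hr : r.Prime) (hr2 : r ≠ 2) (hrp : r ≠ p)
    (hi : i = orderOf (q : ZMod r)) (ht : t * i = r - 1) :
    Nat.card {P : F[X] // IsRecTorsion n r P} =
      if Odd i then Nat.choose (n / (2 * i) + t / 2) (t / 2) else Nat.choose (n / i + t) t := by
  classical
  haveI : Fact r.Prime := ⟨hr⟩
  obtain ⟨k, hp, hk⟩ := FiniteField.card F p
  have hcop : p.Coprime r := (Nat.coprime_primes hp hr).2 hrp.symm
  have hmp : r.Coprime p := hcop.symm
  have hq : q = p ^ (k : ℕ) := hF.symm.trans hk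
  have hi' : i = orderOf (ZMod.unitOfCoprime _ (hcop.pow_left (k : ℕ))) := by
    rw [hi, hq, ← orderOf_units, ZMod.coe_unitOfCoprime]
  have hipos : 0 < i := by rw [hi']; exact orderOf_pos _
  set T := (normalizedFactors (cyclotomic r F)).toFinset with hTdef
  have hTdeg : ∀ h ∈ T, h.natDegree = i := fun h hh => by
    rw [hi']
    exact natDegree_of_mem_normalizedFactors_cyclotomic hk hcop (Multiset.mem_toFinset.1 hh)
  have hTcard : T.card = t := by
    rw [hTdef, normalizedFactors_cyclotomic_card hk hcop, ← hi', Nat.totient_prime hr, ← ht,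
      Nat.mul_div_cancel _ hipos]
  have hsep : (X ^ r - 1 : F[X]).Separable := by
    have h : (r : F) ≠ 0 := SemisimpleCharpoly.cast_ne_zero_of_coprime p hmp
    simpa using Polynomial.separable_X_pow_sub_C (1 : F) h one_ne_zero
  have hmul : cyclotomic r F * (X - 1) = X ^ r - 1 := cyclotomic_prime_mul_X_sub_one F r
  have hTmon : ∀ h ∈ T, h.Monic := fun h hh => by
    rw [← normalize_normalized_factor h (Multiset.mem_toFinset.1 hh)]
    exact monic_normalize (irreducible_of_normalized_factor h (Multiset.mem_toFinset.1 hh)).ne_zero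
  have hTirr : ∀ h ∈ T, Irreducible h := fun h hh => irreducible_of_normalized_factor _ (Multiset.mem_toFinset.1 hh)
  have hTdvd : ∀ h ∈ T, h ∣ cyclotomic r F := fun h hh => dvd_of_mem_normalizedFactors (Multiset.mem_toFinset.1 hh)
  have hTXr : ∀ h ∈ T, h ∣ X ^ r - 1 := fun h hh => (hTdvd h hh).trans ⟨_, hmul.symm⟩
  have hX1 : (X - 1 : F[X]) ∉ T := fun h => by
    have hd : (X - 1 : F[X]) * (X - 1) ∣ X ^ r - 1 := hmul ▸ mul_dvd_mul_right (hTdvd _ h) _
    exact (not_isUnit_X_sub_C (1 : F)) (by simpa using hsep.squarefree _ hd)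
  -- every irreducible divisor of `X ^ r - 1` is listed
  have hmem : ∀ h : F[X], Irreducible h → h.Monic → h ∣ X ^ r - 1 → h = X - 1 ∨ h ∈ T := by
    intro h hh hhm hd
    rw [← hmul] at hd
    rcases hh.prime.dvd_or_dvd hd with h1 | h1
    · obtain ⟨g, hg, hgh⟩ := exists_mem_normalizedFactors_of_dvd (cyclotomic_ne_zero r F) hh h1
      refine Or.inr ?_
      rw [eq_of_monic_of_associated hhm (hTmon g (Multiset.mem_toFinset.2 hg)) hgh]
      exact Multiset.mem_toFinset.2 hg
    · refine Or.inl (eq_of_monic_of_associated hhm (by simpa using monic_X_sub_C (1 : F)) ?_)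
      exact hh.associated_of_dvd (by simpa using irreducible_X_sub_C (1 : F)) h1
  have hT1 : ∀ h ∈ T, h.eval 1 ≠ 0 := fun h hh he => hX1 (by
    have h1 : (X - 1 : F[X]) ∣ h := by simpa using (dvd_iff_isRoot (p := h) (a := (1 : F))).2 he
    rwa [eq_of_monic_of_associated (by simpa using monic_X_sub_C (1 : F)) (hTmon h hh)
      ((show Irreducible (X - 1 : F[X]) by simpa using irreducible_X_sub_C (1 : F)).associated_of_dvd (hTirr h hh) h1)])
  have hT0 : ∀ h ∈ T, h.coeff 0 ≠ 0 := fun h hh h0 => by
    obtain ⟨g, hg⟩ := hTXr h hh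
    have := congrArg (fun P : F[X] => P.coeff 0) hg
    simp [mul_coeff_zero, h0, hr.ne_zero, Ne.symm hr.ne_zero, coeff_one] at this
  have hstar : ∀ h ∈ T, star h ∈ T := by
    intro h hh
    haveI : Fact (Irreducible (star h)) := ⟨irreducible_star (hTmon h hh) (hTirr h hh) (hT0 h hh)⟩
    haveI : Fact (Irreducible h) := ⟨hTirr h hh⟩
    have hx : AdjoinRoot.root h ^ r = 1 := by
      have := AdjoinRoot.mk_eq_zero.2 (hTXr h hh)
      rwa [map_sub, map_pow, AdjoinRoot.mk_X, map_one, sub_eq_zero] at this
    have hy : AdjoinRoot.root h * AdjoinRoot.root h ^ (r - 1) = 1 := by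
      rw [← pow_succ', Nat.sub_add_cancel hr.one_le, hx]
    have h2 := aeval_star hy (show aeval (AdjoinRoot.root h) h = 0 by rw [AdjoinRoot.aeval_eq, AdjoinRoot.mk_self])
    have hd : star h ∣ X ^ r - 1 := by
      rw [minpoly.eq_of_irreducible_of_monic (irreducible_star (hTmon h hh) (hTirr h hh) (hT0 h hh)) h2
        (monic_star (hT0 h hh))]
      refine minpoly.dvd F _ ?_
      rw [map_sub, map_pow, aeval_X, map_one, ← pow_mul, mul_comm, pow_mul, hx, one_pow, sub_self]
    refine (hmem _ (irreducible_star (hTmon h hh) (hTirr h hh) (hT0 h hh)) (monic_star (hT0 h hh)) hd).resolve_left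
      fun e => hX1 ?_
    have := congrArg star e
    rw [star_star (hTmon h hh) (hT0 h hh), star_X_sub_one] at this
    exact this ▸ hh
  let s : T → T := fun h => ⟨star h.1, hstar h.1 h.2⟩
  have hss : ∀ h, s (s h) = h := fun h => Subtype.ext (star_star (hTmon _ h.2) (hT0 _ h.2))
  have hfix0 : ∀ h : T, s h = h → (h : F[X]).coeff 0 = 1 := by
    intro h e
    have e' : star (h : F[X]) = h := congrArg Subtype.val e
    have h1 := congrArg (eval (1 : F)) e'
    rw [star, eval_mul, eval_C, show (h : F[X]).reverse.eval 1 = (h : F[X]).eval 1 by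
      letI : Invertible (1 : F) := invertibleOne
      have := eval₂_reflect_mul_pow (RingHom.id F) (1 : F) (h : F[X]).natDegree (h : F[X]) le_rfl
      simpa [reverse, eval₂_id] using this] at h1
    exact inv_eq_one.1 (mul_eq_right₀ (hT1 _ h.2) |>.1 h1)
  have hodd : Odd i → ∀ h : T, s h ≠ h := by
    intro hio h e
    have hd : Odd (h : F[X]).natDegree := by rw [hTdeg _ h.2]; exact hio
    have he := eval_neg_one hd (hfix0 h e) (congrArg Subtype.val e)
    obtain ⟨g, hg⟩ := hTXr _ h.2
    have := congrArg (eval (-1 : F)) hg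
    rw [eval_mul, he, zero_mul, eval_sub, eval_pow, eval_X, eval_one, (hr.odd_of_ne_two hr2).neg_one_pow] at this
    exact hT1 _ h.2 (by
      rw [← he]
      congr 1
      linear_combination -this)
  have heven : ¬ Odd i → ∀ h : T, s h = h := by
    intro hie h
    obtain ⟨j, hj⟩ := Nat.not_odd_iff_even.1 hie
    haveI : Fact (Irreducible (h : F[X])) := ⟨hTirr _ h.2⟩
    haveI : FiniteDimensional F (AdjoinRoot (h : F[X])) := (AdjoinRoot.powerBasis (hTirr _ h.2).ne_zero).finite
    set x := AdjoinRoot.root (h : F[X]) with hx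
    have hx0 : aeval x (h : F[X]) = 0 := by rw [AdjoinRoot.aeval_eq, AdjoinRoot.mk_self]
    have hxr : x ^ r = 1 := by
      have := AdjoinRoot.mk_eq_zero.2 (hTXr _ h.2)
      rwa [map_sub, map_pow, AdjoinRoot.mk_X, map_one, sub_eq_zero] at this
    -- `q ^ j` is minus one modulo `r`
    have hqj : ((q : ZMod r)) ^ j = -1 := by
      have h1 : ((q : ZMod r) ^ j) * ((q : ZMod r) ^ j) = 1 := by
        rw [← pow_add, ← hj, hi, pow_orderOf_eq_one]
      refine (mul_self_eq_one_iff.1 h1).resolve_left fun h2 => ?_
      have := orderOf_dvd_of_pow_eq_one h2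
      rw [← hi] at this
      have := Nat.le_of_dvd (by omega) this
      omega
    have hdvd : r ∣ q ^ j + 1 := by
      rw [← ZMod.natCast_eq_zero_iff]
      push_cast
      rw [hqj, neg_add_cancel]
    have hy : x * x ^ (q ^ j) = 1 := by
      obtain ⟨c, hc⟩ := hdvd
      rw [← pow_succ', hc, pow_mul, hxr, one_pow]
    have h2 := aeval_star hy hx0
    have h3 : aeval (x ^ (q ^ j)) (h : F[X]) = 0 := by
      have : ∀ e, aeval (x ^ (q ^ e)) (h : F[X]) = 0 := fun e => by
        induction e with
        | zero => rw [pow_zero, pow_one]; exact hx0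
        | succ e ih =>
          rw [pow_succ, pow_mul]
          rw [← hF] at ih ⊢
          rw [← expand_aeval, FiniteField.expand_card, map_pow, ih,
            zero_pow Fintype.card_ne_zero]
      exact this j
    refine Subtype.ext ?_
    show star (h : F[X]) = h
    have e1 := minpoly.eq_of_irreducible_of_monic (hTirr _ (s h).2) h2 (hTmon _ (s h).2)
    have e2 := minpoly.eq_of_irreducible_of_monic (hTirr _ h.2) h3 (hTmon _ h.2)
    exact e1.trans e2.symm
  -- the parametrisation
  let f : Option T → F[X] := fun o => o.elim (X - 1) Subtype.val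
  have hinj : Function.Injective f := by
    rintro (_ | a) (_ | b) h
    · rfl
    · exact absurd (show (X - 1 : F[X]) = b from h) (fun e => hX1 (e ▸ b.2))
    · exact absurd (show (a : F[X]) = X - 1 from h) (fun e => hX1 (e ▸ a.2))
    · exact congrArg some (Subtype.ext h)
  have hfm : ∀ o, (f o).Monic := by
    rintro (_ | a)
    · simpa [f] using monic_X_sub_C (1 : F)
    · exact hTmon _ a.2
  have hfi : ∀ o, Irreducible (f o) := by
    rintro (_ | a)
    · simpa [f] using irreducible_X_sub_C (1 : F)
    · exact hTirr _ a.2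
  have hd0 : (f none).natDegree = 1 := by simpa [f] using natDegree_X_sub_C (1 : F)
  let P : (Option T → ℕ) → F[X] := fun a => ∏ o, f o ^ a o
  have hPdeg : ∀ a, (P a).natDegree = a none + (∑ x, a (some x)) * i := fun a => by
    rw [natDegree_prod _ _ (fun o _ => pow_ne_zero _ (hfi o).ne_zero), Fintype.sum_option, natDegree_pow, hd0,
      mul_one, Finset.sum_mul]
    exact congrArg _ (Finset.sum_congr rfl fun x _ => by rw [natDegree_pow]; exact congrArg _ (hTdeg _ x.2))
  have hPstar : ∀ a, star (P a) = P (fun o => o.elim (a none) fun x => a (some (s x))) := by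
    intro a
    show star (∏ o, f o ^ a o) = ∏ o, f o ^ (Option.elim o (a none) fun x => a (some (s x)))
    rw [Fintype.prod_option, Fintype.prod_option, star_mul, star_pow, star_prod]
    simp only [star_pow]
    congr 1
    · rw [show star (f none) = f none from star_X_sub_one]; rfl
    · rw [← Equiv.prod_comp (Function.Involutive.toPerm s hss) (fun x => star (f (some x)) ^ a (some x))]
      refine Finset.prod_congr rfl fun x _ => ?_
      show star ((s x : F[X])) ^ a (some (s x)) = (x : F[X]) ^ a (some (s x))
      rw [show star ((s x : F[X])) = x from congrArg Subtype.val (hss x)]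
  have hP0 : ∀ a, (∀ x, a (some (s x)) = a (some x)) → (P a).coeff 0 = (-1) ^ a none := by
    intro a ha
    have hc : (P a).coeff 0 = (∏ o, f o ^ a o).eval 0 := coeff_zero_eq_eval_zero _
    rw [hc, eval_prod, Fintype.prod_option, eval_pow, show (f none).eval 0 = -1 by simp [f],
      show ∏ x : T, (f (some x) ^ a (some x)).eval 0 = 1 from ?_, mul_one]
    refine Finset.prod_involution (fun x _ => s x) (fun x _ => ?_) (fun x _ hne e => hne ?_)
      (fun x _ => Finset.mem_univ _) fun x _ => hss x
    · rw [eval_pow, eval_pow, ha, ← mul_pow, ← coeff_zero_eq_eval_zero, ← coeff_zero_eq_eval_zero,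
        show f (some (s x)) = star (x : F[X]) from rfl, coeff_zero_star (hTmon _ x.2),
        show f (some x) = (x : F[X]) from rfl, mul_inv_cancel₀ (hT0 _ x.2), one_pow]
    · rw [eval_pow, ← coeff_zero_eq_eval_zero, show f (some x) = (x : F[X]) from rfl, hfix0 x e, one_pow]
  -- parity of the total weight
  have hpar : ∀ a : T → ℕ, (∀ x, a (s x) = a x) → Even ((∑ x, a x) * i) := by
    intro a ha
    by_cases hio : Odd i
    · refine Even.mul_right ?_ i
      rw [← ZMod.natCast_eq_zero_iff_even, Nat.cast_sum]
      exact Finset.sum_involution (fun x _ => s x) (fun x _ => by rw [ha, CharTwo.add_self_eq_zero])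
        (fun x _ _ => hodd hio x) (fun x _ => Finset.mem_univ _) fun x _ => hss x
    · exact Even.mul_left (Nat.not_odd_iff_even.1 hio) _
  have hcard : Nat.card {P : F[X] // IsRecTorsion n r P} =
      Nat.card {a : T → ℕ // (∀ x, a (s x) = a x) ∧ (∑ x, a x) * i ≤ n} := by
    symm
    let A : {a : T → ℕ // (∀ x, a (s x) = a x) ∧ (∑ x, a x) * i ≤ n} → Option T → ℕ :=
      fun a o => o.elim (n - (∑ x, a.1 x) * i) a.1
    have hA : ∀ a, IsRecTorsion n r (P (A a)) := by
      intro a
      have hn : (P (A a)).natDegree = n := by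
        rw [hPdeg]; show n - _ + _ = n
        exact Nat.sub_add_cancel a.2.2
      have hinv : (fun o : Option T => o.elim (A a none) fun x => A a (some (s x))) = A a :=
        funext fun o => by cases o with
          | none => rfl
          | some x => exact a.2.1 x
      have h0 := hP0 (A a) a.2.1
      refine ⟨monic_prod_of_monic _ _ fun o _ => (hfm o).pow _, hn, ?_, fun h hh hhm hd => ?_⟩
      · have h1 := hPstar (A a)
        rw [hinv, star, h0] at h1
        have h2 : (-1 : F) ^ n = (-1) ^ A a none := by
          conv_lhs => rw [← Nat.sub_add_cancel a.2.2, pow_add, (hpar a.1 a.2.1).neg_one_pow, mul_one]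
          rfl
        rw [h2]
        conv_rhs => rw [← h1, ← mul_assoc, ← C_mul, mul_inv_cancel₀ (pow_ne_zero _ (neg_ne_zero.2 one_ne_zero)),
          C_1, one_mul]
      · obtain ⟨o, -, ho⟩ := hh.prime.exists_mem_finset_dvd hd
        have := hh.associated_of_dvd (hfi o) (hh.prime.dvd_of_dvd_pow ho)
        rw [eq_of_monic_of_associated hhm (hfm o) this]
        cases o with
        | none => exact ⟨_, by rw [← hmul, mul_comm]; rfl⟩
        | some x => exact hTXr _ x.2
    refine Nat.card_congr (Equiv.ofBijective (fun a => ⟨P (A a), hA a⟩) ⟨fun a b e => ?_, ?_⟩)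
    · have := TorsionClasses.prod_pow_injective f hinj hfm hfi _ _ (congrArg Subtype.val e)
      exact Subtype.ext (funext fun x => congrFun this (some x))
    · rintro ⟨Q, hQm, hQd, hQr, hQf⟩
      obtain ⟨a, rfl⟩ := TorsionClasses.exists_eq_prod f hinj Q hQm fun h hh hhm hd => by
        rcases hmem h hh hhm (hQf h hh hhm hd) with rfl | hT
        · exact ⟨none, rfl⟩
        · exact ⟨some ⟨h, hT⟩, rfl⟩
      have hQ0 : (P a).coeff 0 = (-1) ^ n := by
        have h1 := congrArg (fun R : F[X] => R.coeff 0) hQr
        simp only [coeff_zero_reverse, hQm.leadingCoeff, coeff_C_mul] at h1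
        calc (P a).coeff 0 = (-1) ^ n * ((-1) ^ n * (P a).coeff 0) := by
              rw [← mul_assoc, ← mul_pow]; simp
          _ = (-1) ^ n := by rw [← h1, mul_one]
      have hs : star (P a) = P a := by
        rw [star, hQ0, hQr, ← mul_assoc, ← C_mul, inv_mul_cancel₀ (pow_ne_zero _ (neg_ne_zero.2 one_ne_zero)),
          C_1, one_mul]
      rw [hPstar] at hs
      have ha := TorsionClasses.prod_pow_injective f hinj hfm hfi _ _ hs
      have hn := hPdeg a
      rw [hQd] at hn
      refine ⟨⟨fun x => a (some x), fun x => congrFun ha (some x), by show (∑ x, a (some x)) * i ≤ n; omega⟩, Subtype.ext (congrArg P (funext fun o => ?_))⟩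
      cases o with
      | none => show n - (∑ x, a (some x)) * i = a none; omega
      | some x => rfl
  rw [hcard, ← hTcard, ← Fintype.card_coe T]
  split_ifs with hio
  · rw [← card_invariant_le s hss (hodd hio) (n / (2 * i))]
    refine Nat.card_congr (Equiv.subtypeEquivRight fun a => ⟨fun h => ⟨h.1, ?_⟩, fun h => ⟨h.1, ?_⟩⟩)
    · obtain ⟨c, hc⟩ : Even (∑ x, a x) :=
        (Nat.even_mul.1 (hpar a h.1)).resolve_right (Nat.not_even_iff_odd.2 hio)
      have : c ≤ n / (2 * i) := (Nat.le_div_iff_mul_le (by omega)).2 (by nlinarith [h.2])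
      omega
    · calc (∑ x, a x) * i ≤ 2 * (n / (2 * i)) * i := Nat.mul_le_mul_right i h.2
        _ = n / (2 * i) * (2 * i) := by ring
        _ ≤ n := Nat.div_mul_le_self _ _
  · rw [← card_sum_le T (n / i)]
    exact Nat.card_congr (Equiv.subtypeEquivRight fun a =>
      ⟨fun h => (Nat.le_div_iff_mul_le hipos).2 h.2,
        fun h => ⟨fun x => by rw [heven hio x], (Nat.le_div_iff_mul_le hipos).1 h⟩⟩)

end Cfsg.Agent.Lib.GLn.ReciprocalTorsion
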