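import Cfsg.Agent.Lib.GLn.SemisimpleClasses
import Mathlib.Data.Finsupp.Multiset

/-!
# Classes of semisimple elements killed by a given polynomial
-/

set_option autoImplicit false

namespace Cfsg.Agent.Lib.GLn.TorsionClasses

open Polynomial Matrix UniqueFactorizationMonoid

universe u

variable {F : Type u} [Field F]

/-- A monic polynomial whose irreducible factors lie among the `f i` is a product of their powers. -/
theorem exists_eq_prod {ι : Type*} [Fintype ι] (f : ι → F[X]) (hinj : Function.Injective f) (P : F[X])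
    (hP : P.Monic) (hfac : ∀ h : F[X], Irreducible h → h.Monic → h ∣ P → ∃ i, f i = h) :
    ∃ a : ι → ℕ, P = ∏ i, f i ^ a i := by
  classical
  refine ⟨fun i => (normalizedFactors P).count (f i), ?_⟩
  set M := normalizedFactors P with hM
  have hmon : ∀ h ∈ M, h.Monic := fun h hh => by
    have := normalize_normalized_factor h hh
    rw [← this]
    exact monic_normalize (irreducible_of_normalized_factor h hh).ne_zero
  have hprod : M.prod = P :=
    eq_of_monic_of_associated (by simpa using monic_multiset_prod_of_monic M id hmon) hP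
      (prod_normalizedFactors hP.ne_zero)
  have hsub : M.toFinset ⊆ Finset.univ.image f := fun h hh => by
    rw [Multiset.mem_toFinset] at hh
    obtain ⟨i, hi⟩ := hfac h (irreducible_of_normalized_factor h hh) (hmon h hh) (dvd_of_mem_normalizedFactors hh)
    exact Finset.mem_image.2 ⟨i, Finset.mem_univ _, hi⟩
  rw [← Finset.prod_image (f := fun h => h ^ M.count h) (fun i _ j _ e => hinj e),
    ← Finset.prod_subset hsub (fun h _ hh => by
      rw [Multiset.mem_toFinset] at hh
      rw [Multiset.count_eq_zero_of_notMem hh, pow_zero]),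
    ← Finset.prod_multiset_count, hprod]

/-- The exponents are determined by the product. -/
theorem prod_pow_injective {ι : Type*} [Fintype ι] (f : ι → F[X]) (hinj : Function.Injective f)
    (hm : ∀ i, (f i).Monic) (hirr : ∀ i, Irreducible (f i)) (a b : ι → ℕ)
    (h : ∏ i, f i ^ a i = ∏ i, f i ^ b i) : a = b := by
  classical
  have key : ∀ a b : ι → ℕ, (∏ i, f i ^ a i = ∏ i, f i ^ b i) → ∀ i, a i ≤ b i := by
    intro a b h i
    have hd : f i ^ a i ∣ f i ^ b i * ∏ j ∈ Finset.univ.erase i, f j ^ b j := by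
      rw [Finset.mul_prod_erase _ (fun j => f j ^ b j) (Finset.mem_univ i), ← h]
      exact Finset.dvd_prod_of_mem _ (Finset.mem_univ i)
    have hc : IsCoprime (f i ^ a i) (∏ j ∈ Finset.univ.erase i, f j ^ b j) := by
      refine IsCoprime.prod_right fun j hj => IsCoprime.pow ?_
      refine (hirr i).coprime_iff_not_dvd.2 fun hd => (Finset.mem_erase.1 hj).1 (hinj ?_)
      exact eq_of_monic_of_associated (hm j) (hm i) ((hirr i).associated_of_dvd (hirr j) hd).symm
    have h1 := natDegree_le_of_dvd (hc.dvd_of_dvd_mul_right hd) (pow_ne_zero _ (hirr i).ne_zero)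
    rw [natDegree_pow, natDegree_pow] at h1
    exact Nat.le_of_mul_le_mul_right h1 (hirr i).natDegree_pos
  exact funext fun i => le_antisymm (key a b h i) (key b a h.symm i)

variable [Fintype F] (p : ℕ) [Fact p.Prime] [CharP F p] {n : ℕ}

include p in
/-- A semisimple element with prescribed characteristic polynomial is killed by any polynomial with the same factors. -/
theorem exists_gl (P Q : F[X]) (k : ℕ) (hP : P.Monic) (hd : P.natDegree = n) (h0 : P.coeff 0 ≠ 0) (hPQ : P ∣ Q ^ k) :
    ∃ g : GL (Fin n) F, (orderOf g).Coprime p ∧ (g : Matrix (Fin n) (Fin n) F).charpoly = P ∧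
      aeval (g : Matrix (Fin n) (Fin n) F) Q = 0 := by
  obtain ⟨M, m, hm, hMm, hMc⟩ := SemisimpleClasses.exists_matrix p n P hP hd h0
  have hm0 : m ≠ 0 := fun e => (Fact.out : p.Prime).ne_one (by simpa [e] using hm)
  refine ⟨Units.ofPowEqOne M m hMm hm0,
    Nat.Coprime.of_dvd_left (orderOf_dvd_of_pow_eq_one (Units.pow_ofPowEqOne hMm hm0)) hm, hMc, ?_⟩
  change aeval M Q = 0
  have hss : Module.End.IsSemisimple (Matrix.toLinAlgEquiv' M : Module.End F (Fin n → F)) :=
    SemisimpleCharpoly.isSemisimple_of_pow p _ hm (by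
      show Matrix.toLinAlgEquiv' M ^ m = 1
      rw [← map_pow, hMm, map_one])
  have hsq : Squarefree (minpoly F M) := by
    have := hss.minpoly_squarefree
    rwa [minpoly.algEquiv_eq] at this
  refine aeval_eq_zero_of_dvd_aeval_eq_zero ((hsq.dvd_pow_iff_dvd (Nat.succ_ne_zero k)).1 ?_) (minpoly.aeval F M)
  exact (Matrix.minpoly_dvd_charpoly M).trans ((hMc ▸ hPQ).trans (pow_dvd_pow Q (Nat.le_succ k)))

include p in
/-- Irreducible factors of the characteristic polynomial divide any annihilating polynomial. -/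
theorem irreducible_dvd (g : GL (Fin n) F) (hg : (orderOf g).Coprime p) {Q f : F[X]}
    (hQ : aeval (g : Matrix (Fin n) (Fin n) F) Q = 0) (hfm : f.Monic) (hf : Irreducible f)
    (h : f ∣ (g : Matrix (Fin n) (Fin n) F).charpoly) : f ∣ Q := by
  set T : Module.End F (Fin n → F) := Matrix.toLinAlgEquiv' (g : Matrix (Fin n) (Fin n) F) with hT
  have hss : T.IsSemisimple := SemisimpleCharpoly.isSemisimple_of_pow p _ hg
    (by
      rw [hT]
      show Matrix.toLinAlgEquiv' (g : Matrix (Fin n) (Fin n) F) ^ orderOf g = 1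
      rw [← map_pow, ← Units.val_pow_eq_pow_val, pow_orderOf_eq_one, Units.val_one, map_one])
  have hc : T.charpoly = (g : Matrix (Fin n) (Fin n) F).charpoly := by
    rw [← LinearMap.charpoly_toMatrix _ (Pi.basisFun F (Fin n))]
    exact congrArg Matrix.charpoly (LinearMap.toMatrix'_toLin' _)
  obtain ⟨v, hv0, hv⟩ := SemisimpleCharpoly.exists_vec hfm hf _ T rfl hss (hc.symm ▸ h)
  by_contra hnd
  obtain ⟨a, b, hab⟩ := hf.coprime_iff_not_dvd.2 hnd
  have hTQ : aeval T Q = 0 := by rw [hT, aeval_algEquiv, AlgHom.comp_apply, hQ, map_zero]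
  have := congrArg (fun q => aeval T q v) hab
  simp [map_add, map_mul, Module.End.mul_apply, hv, hTQ] at this
  exact hv0 this.symm

omit [Fintype F] in
theorem pow_eq_one_iff_aeval (g : GL (Fin n) F) (m : ℕ) :
    g ^ m = 1 ↔ aeval (g : Matrix (Fin n) (Fin n) F) ((X : F[X]) ^ m - 1) = 0 := by
  rw [map_sub, map_pow, map_one, aeval_X, sub_eq_zero, ← Units.val_pow_eq_pow_val, Units.val_eq_one]

theorem charpoly_isConj {g h : GL (Fin n) F} (e : IsConj g h) :
    (g : Matrix (Fin n) (Fin n) F).charpoly = (h : Matrix (Fin n) (Fin n) F).charpoly := by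
  obtain ⟨x, hx⟩ := isConj_iff.1 e
  rw [← hx, Units.val_mul, Units.val_mul, Matrix.coe_units_inv]
  exact (Matrix.charpoly_units_conj x (g : Matrix (Fin n) (Fin n) F)).symm

include p in
/-- Classes of `GL` with `g ^ m = 1` correspond to the multiplicities of the factors of `X ^ m - 1`. -/
theorem card_classes {ι : Type*} [Fintype ι] (f : ι → F[X]) (hinj : Function.Injective f)
    (hm : ∀ i, (f i).Monic) (hirr : ∀ i, Irreducible (f i)) (m : ℕ) (hmp : m.Coprime p)
    (hf : ∏ i, f i = X ^ m - 1) :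
    Nat.card {C : ConjClasses (GL (Fin n) F) // ∃ g : GL (Fin n) F, ConjClasses.mk g = C ∧ g ^ m = 1} =
      Nat.card {a : ι → ℕ // ∑ i, a i * (f i).natDegree = n} := by
  classical
  have hm0 : m ≠ 0 := fun e => (Fact.out : p.Prime).ne_one (by simpa [e] using hmp)
  have hf0 : ∀ i, (f i).coeff 0 ≠ 0 := by
    intro i h
    obtain ⟨c, hc⟩ := Finset.dvd_prod_of_mem f (Finset.mem_univ i)
    rw [hf] at hc
    have := congrArg (fun q => Polynomial.coeff q 0) hc
    simp [mul_coeff_zero, h, coeff_one, hm0, Ne.symm hm0] at this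
  have hdeg : ∀ a : ι → ℕ, (∏ i, f i ^ a i).natDegree = ∑ i, a i * (f i).natDegree := fun a => by
    rw [natDegree_prod _ _ (fun i _ => pow_ne_zero _ (hirr i).ne_zero)]
    simp [natDegree_pow]
  have hex : ∀ a : {a : ι → ℕ // ∑ i, a i * (f i).natDegree = n}, ∃ g : GL (Fin n) F, g ^ m = 1 ∧
      (g : Matrix (Fin n) (Fin n) F).charpoly = ∏ i, f i ^ a.1 i := fun a => by
    obtain ⟨g, -, hgc, hgQ⟩ := exists_gl p (∏ i, f i ^ a.1 i) (X ^ m - 1) (∑ i, a.1 i)
      (monic_prod_of_monic _ _ fun i _ => (hm i).pow _) ((hdeg _).trans a.2)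
      (by rw [coeff_zero_prod]; exact Finset.prod_ne_zero_iff.2 fun i _ => by
            rw [coeff_zero_eq_eval_zero, eval_pow, ← coeff_zero_eq_eval_zero]; exact pow_ne_zero _ (hf0 i))
      (by
        rw [← hf, ← Finset.prod_pow]
        exact Finset.prod_dvd_prod_of_dvd _ _ fun i _ =>
          pow_dvd_pow _ (Finset.single_le_sum (fun j _ => Nat.zero_le (a.1 j)) (Finset.mem_univ i)))
    exact ⟨g, (pow_eq_one_iff_aeval g m).2 hgQ, hgc⟩
  choose g hg hgc using hex
  symm
  refine Nat.card_congr (Equiv.ofBijective (fun a => ⟨ConjClasses.mk (g a), g a, rfl, hg a⟩) ⟨fun a b e => ?_, ?_⟩)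
  · have := charpoly_isConj (ConjClasses.mk_eq_mk_iff_isConj.1 (congrArg Subtype.val e))
    rw [hgc, hgc] at this
    exact Subtype.ext (prod_pow_injective f hinj hm hirr _ _ this)
  · rintro ⟨_, h, rfl, hh⟩
    have hcop : ∀ x : GL (Fin n) F, x ^ m = 1 → (orderOf x).Coprime p := fun x hx =>
      Nat.Coprime.of_dvd_left (orderOf_dvd_of_pow_eq_one hx) hmp
    obtain ⟨a, ha⟩ := exists_eq_prod f hinj (h : Matrix (Fin n) (Fin n) F).charpoly (Matrix.charpoly_monic _)
      (fun q hq hqm hqd => by
        have := irreducible_dvd p h (hcop h hh) ((pow_eq_one_iff_aeval h m).1 hh) hqm hq hqd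
        rw [← hf] at this
        obtain ⟨i, -, hi⟩ := hq.prime.exists_mem_finset_dvd this
        exact ⟨i, eq_of_monic_of_associated (hm i) hqm (hq.associated_of_dvd (hirr i) hi).symm⟩)
    have hsum : ∑ i, a i * (f i).natDegree = n := by
      rw [← hdeg, ← ha, Matrix.charpoly_natDegree_eq_dim, Fintype.card_fin]
    refine ⟨⟨a, hsum⟩, Subtype.ext ?_⟩
    exact ConjClasses.mk_eq_mk_iff_isConj.2
      (SemisimpleCharpoly.isConj_gl p _ _ (hcop _ (hg _)) (hcop h hh) (by rw [hgc, ha]))

end Cfsg.Agent.Lib.GLn.TorsionClasses
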