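import Cfsg.Agent.Lib.GLn.LargePrimeSylow

/-!
# Semisimple elements commuting with a nontrivial unipotent element of `SL_n(q)`

If `M ≠ 0`, `M² = 0` commutes with `f`, then `f` acts on `M V`, `ker M / M V` and `V / ker M ≅ M V`.
-/

set_option autoImplicit false

namespace Cfsg.Agent.Lib.GLn.UnipCentralizer

open Matrix Module

variable {F : Type*} [Field F]

section Lin

variable {V : Type*} [AddCommGroup V] [Module F V]

/-- `f^r` scalar and `f - a` nilpotent force `f = a`, `r` non-zero in `F`. -/
theorem eq_scalar {f : Module.End F V} {a : F} (ha : a ≠ 0) {r : ℕ} (hr : (r : F) ≠ 0)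
    (hpow : f ^ r = a ^ r • 1) (hnil : IsNilpotent (f - a • 1)) : f = a • 1 := by
  set X := f - a • 1 with hX
  have hcomm : Commute f (a • 1 : Module.End F V) := (Commute.one_right f).smul_right a
  have hgeo := hcomm.mul_geom_sum₂ r
  have hpow1 : ∀ i : ℕ, (a • 1 : Module.End F V) ^ i = a ^ i • 1 := fun i => by rw [smul_pow, one_pow]
  rw [hpow1, hpow, sub_self] at hgeo
  set S := ∑ i ∈ Finset.range r, f ^ i * (a • 1 : Module.End F V) ^ (r - 1 - i) with hS
  -- `S` is a unit: it is `r a^(r-1)` plus a nilpotent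
  have hXc : Commute X f := by
    rw [hX]
    exact (Commute.refl f).sub_left hcomm.symm
  have hdiff : ∃ Y : Module.End F V, Commute X Y ∧ S = ((r : F) * a ^ (r - 1)) • 1 + X * Y := by
    refine ⟨∑ i ∈ Finset.range r, (∑ j ∈ Finset.range i, f ^ j * (a • 1 : Module.End F V) ^ (i - 1 - j)) *
      (a • 1 : Module.End F V) ^ (r - 1 - i), ?_, ?_⟩
    · refine Commute.sum_right _ _ _ fun i _ => Commute.mul_right (Commute.sum_right _ _ _ fun j _ => ?_) ?_
      · exact (hXc.pow_right j).mul_right (((Commute.one_right X).smul_right a).pow_right _)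
      · exact ((Commute.one_right X).smul_right a).pow_right _
    · rw [hS, Finset.mul_sum]
      have : ((r : F) * a ^ (r - 1)) • (1 : Module.End F V) =
          ∑ i ∈ Finset.range r, (a • 1 : Module.End F V) ^ i * (a • 1 : Module.End F V) ^ (r - 1 - i) := by
        rw [Finset.sum_congr rfl (g := fun _ => a ^ (r - 1) • (1 : Module.End F V)) fun i hi => ?_,
          Finset.sum_const, Finset.card_range, ← Nat.cast_smul_eq_nsmul F, smul_smul]
        rw [← pow_add, hpow1]
        simp at hi
        congr 2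
        omega
      rw [this, ← Finset.sum_add_distrib]
      refine Finset.sum_congr rfl fun i _ => ?_
      rw [← mul_assoc X, hX, hcomm.mul_geom_sum₂ i, ← add_mul, add_sub_cancel]
  obtain ⟨Y, hY, hSY⟩ := hdiff
  have hunit : IsUnit S := by
    rw [hSY]
    refine IsNilpotent.isUnit_add_left_of_commute (hY.isNilpotent_mul_right hnil) ?_ ?_
    · have hc : (r : F) * a ^ (r - 1) ≠ 0 := mul_ne_zero hr (pow_ne_zero _ ha)
      rw [← Algebra.algebraMap_eq_smul_one]
      exact (IsUnit.mk0 _ hc).map (algebraMap F (Module.End F V))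
    · rw [← Algebra.algebraMap_eq_smul_one]
      exact (Algebra.commutes _ _).symm
  exact sub_eq_zero.mp ((hunit.mul_left_eq_zero).mp hgeo)

variable [FiniteDimensional F V] [Fintype F]

/-- No non-trivial element of order `r` on a space of dimension `< k`. -/
theorem eq_one_of_dim {r : ℕ} [Fact r.Prime] {f : Module.End F V} (hf : f ^ r = 1)
    (hk : ∀ i, 0 < i → i ≤ finrank F V → ¬ r ∣ Fintype.card F ^ i - 1) (hrq : ¬ r ∣ Fintype.card F) : f = 1 := by
  classical
  set d := finrank F V
  let e := LinearMap.toMatrixAlgEquiv (Module.finBasis F V)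
  have hu : IsUnit (e f) := by
    refine IsUnit.of_pow_eq_one (n := r) ?_ (Fact.out : r.Prime).ne_zero
    rw [← map_pow, hf, map_one]
  have hnd : ¬ r ∣ Nat.card (GL (Fin d) F) := by
    rw [card_GL_field, (Fact.out : r.Prime).prime.dvd_finsetProd_iff]
    rintro ⟨i, -, hi⟩
    rw [show Fintype.card F ^ d = Fintype.card F ^ (i : ℕ) * Fintype.card F ^ (d - i) by
      rw [← pow_add]; congr 1; omega, ← Nat.mul_sub_one] at hi
    rcases (Fact.out : r.Prime).dvd_mul.mp hi with h | h
    · exact hrq ((Fact.out : r.Prime).dvd_of_dvd_pow h)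
    · exact hk _ (by omega) (by omega) h
  have h1 : hu.unit ^ r = 1 := Units.ext (by rw [Units.val_pow_eq_pow_val, IsUnit.unit_spec, ← map_pow, hf, map_one]; rfl)
  have h2 : hu.unit = 1 := by
    rw [← orderOf_eq_one_iff]
    rcases (Nat.dvd_prime (Fact.out : r.Prime)).mp (orderOf_dvd_of_pow_eq_one h1) with h | h
    · exact h
    · exact absurd (h ▸ orderOf_dvd_natCard hu.unit) hnd
  exact e.injective (by rw [map_one]; exact congrArg Units.val h2)

omit [FiniteDimensional F V] [Fintype F] in
theorem scalar_of_finrank_one {f : Module.End F V} (h : finrank F V = 1) : ∃ a : F, f = a • 1 := by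
  obtain ⟨v, hv, hv'⟩ := finrank_eq_one_iff'.mp h
  obtain ⟨a, ha⟩ := hv' (f v)
  refine ⟨a, LinearMap.ext fun w => ?_⟩
  obtain ⟨c, rfl⟩ := hv' w
  simp [← ha, smul_comm a c]

omit [FiniteDimensional F V] [Fintype F] in
/-- the three pieces -/
theorem cubic {f M : Module.End F V} (hc : Commute f M) {a e : F}
    (ha : ∀ v ∈ LinearMap.range M, f v = a • v)
    (he : ∀ v ∈ LinearMap.ker M, f v - e • v ∈ LinearMap.range M) :
    (f - a • 1) * (f - e • 1) * (f - a • 1) = 0 := by
  refine LinearMap.ext fun v => ?_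
  have h1 : (f - a • 1) v ∈ LinearMap.ker M := by
    rw [LinearMap.mem_ker]
    have := ha (M v) ⟨v, rfl⟩
    have e2 : M (f v) = f (M v) := (LinearMap.congr_fun hc.eq v).symm
    simp [e2, this]
  have h2 := he _ h1
  have h3 := ha _ h2
  simp only [Module.End.mul_apply, LinearMap.zero_apply, LinearMap.sub_apply, LinearMap.smul_apply,
    Module.End.one_apply] at *
  rw [h3, sub_self]

omit [Fintype F] in
theorem finrank_range_le {M : Module.End F V} (hM : M * M = 0) : 2 * finrank F (LinearMap.range M) ≤ finrank F V := by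
  have h1 : LinearMap.range M ≤ LinearMap.ker M := by
    rintro - ⟨v, rfl⟩
    exact LinearMap.congr_fun hM v
  have := Submodule.finrank_mono h1
  have := LinearMap.finrank_range_add_finrank_ker M
  omega

/-- `f` of order dividing `r` commuting with `M ≠ 0`, `M² = 0` is trivial when `r` has no chance on `dim V - 2`. -/
theorem eq_one_of_commute {r : ℕ} [Fact r.Prime] (hr : (r : F) ≠ 0) (hrq : ¬ r ∣ Fintype.card F)
    {f M : Module.End F V} (hf : f ^ r = 1) (hc : Commute f M) (hM : M * M = 0) (hM0 : M ≠ 0)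
    (hd : 3 ≤ finrank F V)
    (hk : ∀ i, 0 < i → i ≤ finrank F V - 2 → ¬ r ∣ Fintype.card F ^ i - 1) : f = 1 := by
  classical
  set T := LinearMap.range M with hT
  set K := LinearMap.ker M with hK
  have hTK : T ≤ K := by
    rintro - ⟨v, rfl⟩
    exact LinearMap.congr_fun hM v
  have ht := finrank_range_le hM
  have hrk := LinearMap.finrank_range_add_finrank_ker M
  have ht1 : 1 ≤ finrank F T := Submodule.one_le_finrank_iff.mpr (by rw [hT, Ne, LinearMap.range_eq_bot]; exact hM0)
  have hTf : ∀ v ∈ T, f v ∈ T := by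
    rintro - ⟨v, rfl⟩
    exact ⟨f v, (LinearMap.congr_fun hc.eq v).symm⟩
  have hKf : ∀ v ∈ K, f v ∈ K := by
    intro v hv
    rw [hK, LinearMap.mem_ker] at hv ⊢
    have := LinearMap.congr_fun hc.eq v
    simp only [Module.End.mul_apply] at this
    rw [← this, hv, map_zero]
  rw [← hT] at ht
  have hfT : LinearMap.restrict f hTf = 1 := by
    refine eq_one_of_dim (r := r) ?_ (fun i hi hi' => hk i hi (by omega)) hrq
    refine LinearMap.ext fun v => Subtype.ext ?_
    rw [Module.End.pow_restrict r hTf, LinearMap.coe_restrict_apply, hf]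
    rfl
  let fK : Module.End F K := LinearMap.restrict f hKf
  let T' : Submodule F K := T.comap K.subtype
  have hT'f : T' ≤ T'.comap fK := fun v hv => hTf _ hv
  let g : Module.End F (K ⧸ T') := T'.mapQ T' fK hT'f
  have hg : g = 1 := by
    refine eq_one_of_dim (r := r) ?_ (fun i hi hi' => hk i hi ?_) hrq
    · refine Submodule.linearMap_qext _ (LinearMap.ext fun v => ?_)
      have e : ∀ (m : ℕ) (w : K), (g ^ m) (Submodule.Quotient.mk w) = Submodule.Quotient.mk ((fK ^ m) w) := by
        intro m
        induction m with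
        | zero => intro w; rfl
        | succ m ih => intro w; rw [pow_succ, pow_succ, Module.End.mul_apply, Module.End.mul_apply]; exact ih (fK w)
      change (g ^ r) (Submodule.Quotient.mk v) = Submodule.Quotient.mk v
      rw [e]
      congr 1
      apply Subtype.ext
      rw [Module.End.pow_restrict r hKf, LinearMap.coe_restrict_apply, hf]
      rfl
    · have h1 := Submodule.finrank_quotient_add_finrank T'
      have h2 : finrank F T' = finrank F T := (Submodule.comapSubtypeEquivOfLe hTK).finrank_eq
      rw [← hT, ← hK] at hrk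
      omega
  have hcub := cubic (a := 1) (e := 1) hc
    (fun v hv => by
      rw [one_smul]
      exact congrArg Subtype.val (LinearMap.congr_fun hfT ⟨v, hv⟩))
    (fun v hv => by
      rw [one_smul]
      have := LinearMap.congr_fun hg (Submodule.Quotient.mk ⟨v, hv⟩)
      exact (Submodule.Quotient.eq T').mp this)
  have h1 := eq_scalar (a := (1 : F)) one_ne_zero hr (by rw [hf, one_pow, one_smul]) ⟨3, by rw [pow_succ, pow_two]; exact hcub⟩
  simpa using h1

omit [Fintype F] in
theorem exists_scalars {f M : Module.End F V} (hc : Commute f M) (hM : M * M = 0) (hM0 : M ≠ 0)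
    (hd : finrank F V ≤ 3) :
    ∃ a e : F, (∀ v ∈ LinearMap.range M, f v = a • v) ∧ (∀ v ∈ LinearMap.ker M, f v - e • v ∈ LinearMap.range M) ∧
      (finrank F V ≤ 2 → e = a) := by
  classical
  set T := LinearMap.range M with hT
  set K := LinearMap.ker M with hK
  have hTK : T ≤ K := by
    rintro - ⟨v, rfl⟩
    exact LinearMap.congr_fun hM v
  have ht := finrank_range_le hM
  have hrk := LinearMap.finrank_range_add_finrank_ker M
  have ht1 : 1 ≤ finrank F T := Submodule.one_le_finrank_iff.mpr (by rw [hT, Ne, LinearMap.range_eq_bot]; exact hM0)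
  have hTf : ∀ v ∈ T, f v ∈ T := by
    rintro - ⟨v, rfl⟩
    exact ⟨f v, (LinearMap.congr_fun hc.eq v).symm⟩
  rw [← hT, ← hK] at hrk
  rw [← hT] at ht
  obtain ⟨a, ha⟩ := scalar_of_finrank_one (f := LinearMap.restrict f hTf) (by omega)
  have ha' : ∀ v ∈ T, f v = a • v := fun v hv => congrArg Subtype.val (LinearMap.congr_fun ha ⟨v, hv⟩)
  by_cases hKT : K ≤ T
  · exact ⟨a, a, ha', fun v hv => by rw [ha' v (hKT hv), sub_self]; exact T.zero_mem, fun _ => rfl⟩
  obtain ⟨w, hwK, hwT⟩ := SetLike.not_le_iff_exists.mp hKT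
  have hlt : T < K := lt_of_le_not_ge hTK hKT
  have h2 : finrank F T < finrank F K := Submodule.finrank_lt_finrank_of_lt hlt
  have hsup : T ⊔ Submodule.span F {w} = K := by
    refine Submodule.eq_of_le_of_finrank_le (sup_le hTK ((Submodule.span_singleton_le_iff_mem _ _).mpr hwK)) ?_
    have h3 : T < T ⊔ Submodule.span F {w} :=
      lt_of_le_of_ne le_sup_left fun e => hwT (e ▸ Submodule.mem_sup_right (Submodule.mem_span_singleton_self w))
    have := Submodule.finrank_lt_finrank_of_lt h3
    omega
  have hfw : f w ∈ K := by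
    rw [hK, LinearMap.mem_ker] at hwK ⊢
    have := LinearMap.congr_fun hc.eq w
    simp only [Module.End.mul_apply] at this
    rw [← this, hwK, map_zero]
  rw [← hsup, Submodule.mem_sup] at hfw
  obtain ⟨x, hx, y, hy, hxy⟩ := hfw
  obtain ⟨e, rfl⟩ := Submodule.mem_span_singleton.mp hy
  refine ⟨a, e, ha', fun v hv => ?_, fun h => by omega⟩
  rw [← hsup, Submodule.mem_sup] at hv
  obtain ⟨x', hx', y', hy', rfl⟩ := hv
  obtain ⟨c, rfl⟩ := Submodule.mem_span_singleton.mp hy'
  have : f (x' + c • w) - e • (x' + c • w) = (a - e) • x' + c • x := by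
    rw [map_add, map_smul, ha' x' hx', ← hxy]
    module
  rw [this]
  exact T.add_mem (T.smul_mem _ hx') (T.smul_mem _ hx)

end Lin

end Cfsg.Agent.Lib.GLn.UnipCentralizer
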