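import Cfsg.Agent.Lib.Classical.Simple

/-! Three conjugate regular unipotents generate `SL_n(q)`, `n ≥ 3`. -/

namespace Cfsg.Agent.Lib.GLn

open Matrix

variable {F : Type*} [Field F] {m : ℕ}

/-- the transvection `1 + a ⊗ φ` (requires `φ ⬝ a = 0`) -/
def tv {n : ℕ} (a φ : Fin n → F) (h : φ ⬝ᵥ a = 0) : Matrix.SpecialLinearGroup (Fin n) F :=
  ⟨1 + vecMulVec a φ, by rw [vecMulVec_eq Unit, det_one_add_replicateCol_mul_replicateRow, h, add_zero]⟩

theorem coe_tv {n : ℕ} (a φ : Fin n → F) (h : φ ⬝ᵥ a = 0) :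
    (tv a φ h : Matrix (Fin n) (Fin n) F) = 1 + vecMulVec a φ := rfl

theorem tv_mul {n : ℕ} (a b φ : Fin n → F) (ha : φ ⬝ᵥ a = 0) (hb : φ ⬝ᵥ b = 0) :
    tv a φ ha * tv b φ hb = tv (a + b) φ (by rw [dotProduct_add, ha, hb, add_zero]) := by
  apply Subtype.ext
  rw [Matrix.SpecialLinearGroup.coe_mul, coe_tv, coe_tv, coe_tv, add_mul, one_mul, mul_add, mul_one,
    vecMulVec_mul_vecMulVec, hb]
  simp [add_vecMulVec]; abel

theorem tv_zero {n : ℕ} (φ : Fin n → F) : tv (0 : Fin n → F) φ (dotProduct_zero φ) = 1 := by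
  apply Subtype.ext
  rw [coe_tv, Matrix.SpecialLinearGroup.coe_one]; simp

theorem tv_neg {n : ℕ} (a φ : Fin n → F) (h : φ ⬝ᵥ a = 0) :
    (tv a φ h)⁻¹ = tv (-a) φ (by rw [dotProduct_neg, h, neg_zero]) := by
  apply inv_eq_of_mul_eq_one_right
  rw [tv_mul]
  simp only [add_neg_cancel]
  exact tv_zero φ

theorem coe_inv_mul_self {n : ℕ} (g : Matrix.SpecialLinearGroup (Fin n) F) :
    ((g⁻¹ : Matrix.SpecialLinearGroup (Fin n) F) : Matrix (Fin n) (Fin n) F) * (g : Matrix (Fin n) (Fin n) F) = 1 := by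
  rw [← Matrix.SpecialLinearGroup.coe_mul, inv_mul_cancel, Matrix.SpecialLinearGroup.coe_one]

theorem conj_dot {n : ℕ} (g : Matrix.SpecialLinearGroup (Fin n) F) (a φ : Fin n → F) :
    (φ ᵥ* ((g⁻¹ : Matrix.SpecialLinearGroup (Fin n) F) : Matrix (Fin n) (Fin n) F)) ⬝ᵥ
      ((g : Matrix (Fin n) (Fin n) F) *ᵥ a) = φ ⬝ᵥ a := by
  rw [← dotProduct_mulVec, mulVec_mulVec, coe_inv_mul_self, one_mulVec]

theorem conj_tv {n : ℕ} (g : Matrix.SpecialLinearGroup (Fin n) F) (a φ : Fin n → F) (h : φ ⬝ᵥ a = 0) :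
    g * tv a φ h * g⁻¹ = tv ((g : Matrix (Fin n) (Fin n) F) *ᵥ a)
      (φ ᵥ* ((g⁻¹ : Matrix.SpecialLinearGroup (Fin n) F) : Matrix (Fin n) (Fin n) F))
      ((conj_dot g a φ).trans h) := by
  apply Subtype.ext
  rw [Matrix.SpecialLinearGroup.coe_mul, Matrix.SpecialLinearGroup.coe_mul, coe_tv, coe_tv, mul_add, add_mul,
    mul_one, mul_vecMulVec, vecMulVec_mul, ← Matrix.SpecialLinearGroup.coe_mul, mul_inv_cancel,
    Matrix.SpecialLinearGroup.coe_one]

theorem commutator_tv {n : ℕ} (a b φ ψ : Fin n → F) (ha : φ ⬝ᵥ a = 0) (hb : ψ ⬝ᵥ b = 0) (hφb : φ ⬝ᵥ b = 0) :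
    tv a φ ha * tv b ψ hb * (tv a φ ha)⁻¹ * (tv b ψ hb)⁻¹ =
      tv (-(ψ ⬝ᵥ a) • b) φ (by rw [dotProduct_smul, hφb, smul_zero]) := by
  apply Subtype.ext
  rw [Matrix.SpecialLinearGroup.coe_mul, Matrix.SpecialLinearGroup.coe_mul, Matrix.SpecialLinearGroup.coe_mul,
    tv_neg, tv_neg, coe_tv, coe_tv, coe_tv, coe_tv, coe_tv]
  simp only [add_mul, mul_add, one_mul, mul_one, vecMulVec_mul_vecMulVec, neg_vecMulVec, smul_vecMulVec,
    vecMulVec_smul, ha, hb, hφb, neg_mul, mul_neg, smul_mul_assoc, mul_smul_comm, dotProduct_neg, neg_zero,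
    zero_smul, smul_zero, neg_smul, zero_dotProduct, vecMulVec_zero, add_zero, zero_add]
  abel

/-- the upper regular unipotent -/
def upperJordan (n : ℕ) (F : Type*) [Field F] : Matrix.SpecialLinearGroup (Fin n) F :=
  ⟨Matrix.of fun i j : Fin n => if i = j ∨ (i : ℕ) + 1 = j then (1 : F) else 0, by
    rw [det_of_upperTriangular]
    · simp
    · intro i j hij
      simp only [id_eq] at hij
      have h1 : ¬ (i = j ∨ (i : ℕ) + 1 = j) := by
        rintro (h | h)
        · subst h; exact lt_irrefl _ hij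
        · have : (j : ℕ) < i := hij; omega
      simp [h1]⟩

theorem upperJordan_mulVec (n : ℕ) (x : Fin n → F) (i : Fin n) :
    ((upperJordan n F : Matrix (Fin n) (Fin n) F) *ᵥ x) i =
      x i + (if h : (i : ℕ) + 1 < n then x ⟨i + 1, h⟩ else 0) := by
  classical
  change ∑ j, (if i = j ∨ (i : ℕ) + 1 = j then (1 : F) else 0) * x j = _
  split_ifs with h
  · rw [Finset.sum_eq_add i ⟨i + 1, h⟩ (by simp [Fin.ext_iff])]
    · simp
    · intro c _ hc
      rw [if_neg, zero_mul]
      rintro (rfl | h')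
      · exact hc.1 rfl
      · exact hc.2 (Fin.ext h'.symm)
    · simp
    · simp
  · rw [Finset.sum_eq_single i, add_zero]
    · simp
    · intro c _ hc
      rw [if_neg, zero_mul]
      rintro (rfl | h')
      · exact hc rfl
      · have := c.2; omega
    · simp

theorem upperJordan_regular (n : ℕ) (hn : 0 < n) :
    IsNilpotent ((upperJordan n F : Matrix (Fin n) (Fin n) F) - 1) ∧
      ((upperJordan n F : Matrix (Fin n) (Fin n) F) - 1) ^ (n - 1) ≠ 0 := by
  set N := (upperJordan n F : Matrix (Fin n) (Fin n) F) - 1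
  have hN : ∀ (x : Fin n → F) (i : Fin n), (N *ᵥ x) i = if h : (i : ℕ) + 1 < n then x ⟨i + 1, h⟩ else 0 := by
    intro x i
    simp only [N, sub_mulVec, one_mulVec, Pi.sub_apply, upperJordan_mulVec, add_sub_cancel_left]
  have hk : ∀ (k : ℕ) (x : Fin n → F) (i : Fin n),
      ((N ^ k) *ᵥ x) i = if h : (i : ℕ) + k < n then x ⟨i + k, h⟩ else 0 := by
    intro k
    induction k with
    | zero => intro x i; simp
    | succ k ih =>
      intro x i
      rw [pow_succ, ← mulVec_mulVec, ih]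
      split_ifs with h1 h2 h2
      · rw [hN]; simp only; rw [dif_pos (by omega)]; congr 1
      · rw [hN]; simp only; rw [dif_neg (by omega)]
      · omega
      · rfl
  constructor
  · refine ⟨n, ?_⟩
    apply Matrix.ext_of_mulVec_single
    intro i; funext j
    rw [hk, dif_neg (by omega)]; simp
  · intro h
    have := congrFun (congrArg (fun M => M *ᵥ Pi.single (⟨n - 1, by omega⟩ : Fin n) 1) h) ⟨0, hn⟩
    simp only [hk, zero_mulVec, Pi.zero_apply] at this
    rw [dif_pos (show 0 + (n - 1) < n by omega)] at this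
    simp at this

/-- the lower regular unipotent conjugate to it, with parameters `c` -/
def lowerMat (n : ℕ) (c : Fin n → F) : Matrix (Fin n) (Fin n) F :=
  Matrix.of fun i j : Fin n => if i = j then 1 else if (j : ℕ) + 1 = i then c j else 0

theorem lowerMat_mulVec (n : ℕ) (c x : Fin n → F) (i : Fin n) :
    (lowerMat n c *ᵥ x) i =
      x i + (if h : 0 < (i : ℕ) then c ⟨i - 1, by omega⟩ * x ⟨i - 1, by omega⟩ else 0) := by
  classical
  change ∑ j, (if i = j then (1 : F) else if (j : ℕ) + 1 = i then c j else 0) * x j = _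
  split_ifs with h
  · rw [Finset.sum_eq_add i ⟨i - 1, by omega⟩ (by simp [Fin.ext_iff]; omega)]
    · simp [show i ≠ ⟨i - 1, by omega⟩ from by simp [Fin.ext_iff]; omega, show (i : ℕ) - 1 + 1 = i by omega]
    · intro k _ hk
      rw [if_neg (Ne.symm hk.1), if_neg, zero_mul]
      intro h'; exact hk.2 (Fin.ext (by simp; omega))
    · simp
    · simp
  · rw [Finset.sum_eq_single i, add_zero]
    · simp
    · intro k _ hk
      rw [if_neg (Ne.symm hk), if_neg (by omega), zero_mul]
    · simp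

theorem exists_lower_conj_jordan (n : ℕ) [NeZero n] :
    ∃ (h : Matrix.SpecialLinearGroup (Fin n) F) (c : Fin n → F), (∀ i, c i ≠ 0) ∧
      ((h * upperJordan n F * h⁻¹ : Matrix.SpecialLinearGroup (Fin n) F) : Matrix (Fin n) (Fin n) F) = lowerMat n c := by
  classical
  set σ : Equiv.Perm (Fin n) := Fin.revPerm
  set s : F := ((Equiv.Perm.sign σ : ℤ) : F) with hs
  have hs2 : s * s = 1 := by
    rcases Int.units_eq_one_or (Equiv.Perm.sign σ) with h | h <;> simp [hs, h]
  set e : Fin n → F := Function.update (1 : Fin n → F) 0 s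
  have he : ∀ i, e i ≠ 0 := by
    intro i
    by_cases h : i = 0
    · subst h; simp [e]; intro h0; rw [h0, zero_mul] at hs2; exact zero_ne_one hs2
    · simp [e, h]
  let M : Matrix (Fin n) (Fin n) F := (Matrix.diagonal e).submatrix σ id
  have hdet : M.det = 1 := by
    simp only [M]
    rw [det_permute, det_diagonal]
    simp [e, Finset.prod_update_of_mem, ← hs, hs2]
  refine ⟨⟨M, hdet⟩, fun j => e (σ j - 1) / e (σ j), fun i => div_ne_zero (he _) (he _), ?_⟩
  obtain ⟨g, hg⟩ : ∃ g : Matrix.SpecialLinearGroup (Fin n) F, (g : Matrix (Fin n) (Fin n) F) = M := ⟨⟨M, hdet⟩, rfl⟩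
  rw [show (⟨M, hdet⟩ : Matrix.SpecialLinearGroup (Fin n) F) = g from Subtype.ext hg.symm]
  have key : (g : Matrix (Fin n) (Fin n) F) * (upperJordan n F : Matrix (Fin n) (Fin n) F) =
      lowerMat n (fun j => e (σ j - 1) / e (σ j)) * (g : Matrix (Fin n) (Fin n) F) := by
    rw [hg]
    ext i j
    have hL : (M * (upperJordan n F : Matrix (Fin n) (Fin n) F)) i j =
        e (σ i) * (upperJordan n F : Matrix (Fin n) (Fin n) F) (σ i) j := by
      simp [M, Matrix.mul_apply, Matrix.diagonal_apply]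
    have hR : ∀ c : Fin n → F, (lowerMat n c * M) i j = lowerMat n c i (σ j) * e j := by
      intro c
      simp [M, Matrix.mul_apply, Matrix.diagonal_apply, σ, Fin.revPerm]
      rw [Finset.sum_eq_single (Fin.rev j)]
      · simp
      · intro b _ hb
        rw [if_neg]
        intro h; exact hb (by rw [← h, Fin.rev_rev])
      · simp
    rw [hL, hR]
    have hσ : ∀ k, σ k = Fin.rev k := fun k => rfl
    change e (σ i) * (if σ i = j ∨ ((σ i : Fin n) : ℕ) + 1 = j then (1 : F) else 0) =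
      (if i = σ j then (1 : F) else if ((σ j : Fin n) : ℕ) + 1 = i then e (σ (σ j) - 1) / e (σ (σ j)) else 0) * e j
    simp only [hσ, Fin.rev_rev]
    by_cases h1 : i = Fin.rev j
    · subst h1; simp
    · rw [if_neg h1]
      have h1' : Fin.rev i ≠ j := fun h => h1 (by rw [← h, Fin.rev_rev])
      by_cases h2 : ((Fin.rev i : Fin n) : ℕ) + 1 = j
      · rw [if_pos (Or.inr h2)]
        have h3 : ((Fin.rev j : Fin n) : ℕ) + 1 = i := by
          simp [Fin.val_rev] at h2 ⊢; omega
        rw [if_pos h3, div_mul_cancel₀ _ (he _), mul_one]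
        congr 1
        apply Fin.ext
        rw [Fin.val_sub_one_of_ne_zero (by intro h0; rw [h0, Fin.val_zero] at h2; omega)]
        omega
      · have h3 : ¬ ((Fin.rev j : Fin n) : ℕ) + 1 = i := by
          simp [Fin.val_rev] at h2 ⊢; omega
        rw [if_neg h3, if_neg (by rintro (h | h); exacts [h1' h, h2 h])]
        simp
  rw [Matrix.SpecialLinearGroup.coe_mul, Matrix.SpecialLinearGroup.coe_mul, key, mul_assoc,
    ← Matrix.SpecialLinearGroup.coe_mul, mul_inv_cancel, Matrix.SpecialLinearGroup.coe_one, mul_one]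

theorem generated_by_three [Fintype F] (n : ℕ) (hn : 3 ≤ n) :
    ∃ u g h : Matrix.SpecialLinearGroup (Fin n) F,
      (IsNilpotent ((u : Matrix (Fin n) (Fin n) F) - 1) ∧ ((u : Matrix (Fin n) (Fin n) F) - 1) ^ (n - 1) ≠ 0) ∧
      Subgroup.closure ({u, g * u * g⁻¹, h * u * h⁻¹} : Set (Matrix.SpecialLinearGroup (Fin n) F)) = ⊤ := by
  classical
  haveI : NeZero n := ⟨by omega⟩
  set u := upperJordan n F
  obtain ⟨h, c, hc, hv⟩ := exists_lower_conj_jordan (F := F) n
  set v := h * u * h⁻¹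
  let ε : Fin n → (Fin n → F) := fun i => Pi.single i 1
  let i0 : Fin n := ⟨0, by omega⟩
  let i1 : Fin n := ⟨1, by omega⟩
  let il : Fin n := ⟨n - 1, by omega⟩
  set φ0 : Fin n → F := ε il
  have huφ : φ0 ᵥ* (u : Matrix (Fin n) (Fin n) F) = φ0 := by
    funext j
    simp only [φ0, ε, single_one_vecMul, Matrix.row_apply]
    change (if il = j ∨ (il : ℕ) + 1 = j then (1 : F) else 0) = (Pi.single il (1 : F) : Fin n → F) j
    have : ¬ (il : ℕ) + 1 = j := by have := j.2; simp [il]; omega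
    simp [this, Pi.single_apply, eq_comm]
  have huinv : φ0 ᵥ* ((u⁻¹ : Matrix.SpecialLinearGroup (Fin n) F) : Matrix (Fin n) (Fin n) F) = φ0 := by
    conv_lhs => rw [← huφ]
    rw [vecMul_vecMul, ← Matrix.SpecialLinearGroup.coe_mul, mul_inv_cancel, Matrix.SpecialLinearGroup.coe_one,
      vecMul_one]
  set vi := ((v⁻¹ : Matrix.SpecialLinearGroup (Fin n) F) : Matrix (Fin n) (Fin n) F)
  set r : Fin n → F := φ0 ᵥ* vi with hr
  -- r i0 ≠ 0
  have hy : ∀ k : ℕ, (hk : k < n) → (vi *ᵥ ε i0) ⟨k, hk⟩ ≠ 0 := by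
    intro k
    induction k with
    | zero =>
      intro hk h0
      have := congrFun (show lowerMat n c *ᵥ (vi *ᵥ ε i0) = ε i0 by
        rw [← hv, mulVec_mulVec, ← Matrix.SpecialLinearGroup.coe_mul, mul_inv_cancel,
          Matrix.SpecialLinearGroup.coe_one, one_mulVec]) ⟨0, hk⟩
      rw [lowerMat_mulVec, h0] at this
      simp [ε, i0] at this
    | succ k ih =>
      intro hk h0
      have := congrFun (show lowerMat n c *ᵥ (vi *ᵥ ε i0) = ε i0 by
        rw [← hv, mulVec_mulVec, ← Matrix.SpecialLinearGroup.coe_mul, mul_inv_cancel,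
          Matrix.SpecialLinearGroup.coe_one, one_mulVec]) ⟨k + 1, hk⟩
      rw [lowerMat_mulVec, h0, dif_pos (by simp)] at this
      simp [ε, i0, hc] at this
      refine ih (by omega) ?_
      simpa [ε, i0] using this
  have hr0 : r i0 ≠ 0 := by
    have := hy (n - 1) (by omega)
    simpa [hr, φ0, ε, il, mulVec_single_one, single_one_vecMul] using this
  set κ := r i0 * c i0
  have hκ : κ ≠ 0 := mul_ne_zero hr0 (hc _)
  obtain ⟨ζ, hζ⟩ := IsCyclic.exists_generator (α := Fˣ)
  set ω : F := (ζ : F) / κ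
  have hi1 : φ0 ⬝ᵥ (ω • ε i1) = 0 := by
    have : il ≠ i1 := by simp [il, i1, Fin.ext_iff]; omega
    simp [φ0, ε, this]
  set g := tv (ω • ε i1) φ0 hi1
  refine ⟨u, g, h, upperJordan_regular n (by omega), ?_⟩
  set G := Subgroup.closure ({u, g * u * g⁻¹, h * u * h⁻¹} : Set (Matrix.SpecialLinearGroup (Fin n) F))
  have hu : u ∈ G := Subgroup.subset_closure (by simp)
  have hg : g * u * g⁻¹ ∈ G := Subgroup.subset_closure (by simp)
  have hvG : v ∈ G := Subgroup.subset_closure (by simp [v])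
  let H : (Fin n → F) → AddSubgroup (Fin n → F) := fun φ =>
    { carrier := {a | ∃ h : φ ⬝ᵥ a = 0, tv a φ h ∈ G}
      zero_mem' := ⟨dotProduct_zero φ, by rw [tv_zero]; exact one_mem _⟩
      add_mem' := fun {a b} ⟨ha, ha'⟩ ⟨hb, hb'⟩ => ⟨_, tv_mul a b φ ha hb ▸ mul_mem ha' hb'⟩
      neg_mem' := fun {a} ⟨ha, ha'⟩ => ⟨_, tv_neg a φ ha ▸ inv_mem ha'⟩ }
  have hconj : ∀ (x : Matrix.SpecialLinearGroup (Fin n) F) (φ a : Fin n → F), x ∈ G → a ∈ H φ →
      (x : Matrix (Fin n) (Fin n) F) *ᵥ a ∈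
        H (φ ᵥ* ((x⁻¹ : Matrix.SpecialLinearGroup (Fin n) F) : Matrix (Fin n) (Fin n) F)) := by
    rintro x φ a hx ⟨ha, ha'⟩
    exact ⟨_, conj_tv x a φ ha ▸ mul_mem (mul_mem hx ha') (inv_mem hx)⟩
  have hcomm : ∀ (φ ψ a b : Fin n → F), a ∈ H φ → b ∈ H ψ → φ ⬝ᵥ b = 0 → (ψ ⬝ᵥ a) • b ∈ H φ := by
    rintro φ ψ a b ⟨ha, ha'⟩ ⟨hb, hb'⟩ hφb
    have := mul_mem (mul_mem (mul_mem ha' hb') (inv_mem ha')) (inv_mem hb')
    rw [commutator_tv a b φ ψ ha hb hφb] at this
    have h' : (-(ψ ⬝ᵥ a)) • b ∈ H φ := ⟨_, this⟩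
    simpa using (H φ).neg_mem h'
  have hsub : ∀ a ∈ H φ0, ((u : Matrix (Fin n) (Fin n) F) *ᵥ a - a) ∈ H φ0 := by
    intro a ha
    have := hconj u φ0 a hu ha
    rw [huinv] at this
    exact sub_mem this ha
  have hshift : ∀ (k : Fin n) (hk : 0 < (k : ℕ)),
      (u : Matrix (Fin n) (Fin n) F) *ᵥ ε k - ε k = ε ⟨k - 1, by omega⟩ := by
    intro k hk
    funext i
    rw [Pi.sub_apply, upperJordan_mulVec, add_sub_cancel_left]
    simp only [ε, Pi.single_apply, Fin.ext_iff]
    have := i.2; have := k.2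
    split_ifs <;> first | rfl | (exfalso; simp_all; try omega)
  have hω : ω • ε i0 ∈ H φ0 := by
    have h1 : u * (g * u * g⁻¹)⁻¹ = u * g * u⁻¹ * g⁻¹ := by group
    have h2 := mul_mem hu (inv_mem hg)
    rw [h1, conj_tv, tv_neg] at h2
    simp only [huinv] at h2
    rw [tv_mul] at h2
    have : (u : Matrix (Fin n) (Fin n) F) *ᵥ (ω • ε i1) + -(ω • ε i1) ∈ H φ0 := ⟨_, h2⟩
    rwa [← sub_eq_add_neg, mulVec_smul, ← smul_sub, hshift i1 (by simp [i1])] at this
  have hvε : ∀ (k : Fin n) (hk : (k : ℕ) + 1 < n),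
      (v : Matrix (Fin n) (Fin n) F) *ᵥ ε k = ε k + c k • ε ⟨k + 1, hk⟩ := by
    intro k hk
    funext i
    rw [hv, lowerMat_mulVec]
    simp only [ε, Pi.add_apply, Pi.smul_apply, Pi.single_apply, smul_eq_mul, Fin.ext_iff]
    split_ifs <;> simp_all <;> first | omega | (congr 1; apply Fin.ext; simp; omega) | skip
  have hmove : ∀ (k : Fin n) (hk : (k : ℕ) + 1 < n - 1) (d e : F),
      d • ε k ∈ H φ0 → e • ε i0 ∈ H φ0 → (e * r i0 * d) • (ε k + c k • ε ⟨k + 1, by omega⟩) ∈ H φ0 := by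
    intro k hk d e hd he
    have h1 := hconj v φ0 _ hvG hd
    rw [mulVec_smul, hvε k (by omega)] at h1
    have hk1 : il ≠ k := by simp [il, Fin.ext_iff]; omega
    have hk2 : il ≠ ⟨(k : ℕ) + 1, by omega⟩ := by simp [il, Fin.ext_iff]; omega
    have := hcomm φ0 r _ _ he h1 (by simp [φ0, ε, hk1, hk2])
    rw [dotProduct_smul, smul_eq_mul, smul_smul, show r ⬝ᵥ ε i0 = r i0 by simp [ε]] at this
    exact this
  have hz : ∀ a : F, a • ε i0 ∈ H φ0 := by
    have hpow : ∀ j : ℕ, (((ζ ^ (j + 1) : Fˣ) : F) / κ) • ε i0 ∈ H φ0 := by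
      intro j
      induction j with
      | zero => simpa [ω] using hω
      | succ j ih =>
        have := hsub _ (hmove i0 (by simp [i0]; omega) _ _ ih hω)
        rw [mulVec_smul, ← smul_sub, mulVec_add, mulVec_smul, add_sub_add_comm,
          show (u : Matrix (Fin n) (Fin n) F) *ᵥ ε i0 - ε i0 = 0 from ?_, zero_add, ← smul_sub,
          hshift ⟨i0 + 1, by simp [i0]; omega⟩ (by simp), smul_smul] at this
        · convert this using 2
          · simp only [ω, κ, Units.val_pow_eq_pow_val]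
            field_simp
            ring
          · rfl
        · funext i
          rw [Pi.sub_apply, upperJordan_mulVec, add_sub_cancel_left]
          split_ifs with h'
          · simp only [ε]
            rw [Pi.single_eq_of_ne (by intro h0; have := congrArg Fin.val h0; simp [i0] at this), Pi.zero_apply]
          · rfl
    intro a
    by_cases ha : a = 0
    · simp [ha, (H φ0).zero_mem]
    · obtain ⟨j, hj⟩ := (Submonoid.mem_powers_iff _ _).1
        (mem_powers_iff_mem_zpowers.2 (hζ (Units.mk0 (a * κ) (mul_ne_zero ha hκ))))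
      have hord : 0 < orderOf ζ := orderOf_pos ζ
      have := hpow (j + orderOf ζ - 1)
      rw [show j + orderOf ζ - 1 + 1 = j + orderOf ζ by omega, pow_add, pow_orderOf_eq_one, mul_one, hj] at this
      simpa [hκ] using this
  have hall : ∀ (k : ℕ) (hk : k < n - 1) (a : F), a • ε ⟨k, by omega⟩ ∈ H φ0 := by
    intro k
    induction k with
    | zero => intro _ a; exact hz a
    | succ k ih =>
      intro hk a
      set k' : Fin n := ⟨k, by omega⟩
      have := sub_mem (hmove k' hk (a / (r i0 * c k')) 1 (ih (by omega) _) (hz 1))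
        (ih (by omega) (1 * r i0 * (a / (r i0 * c k'))))
      rw [← smul_sub, add_sub_cancel_left, smul_smul] at this
      convert this using 2
      field_simp [hc k', hr0]
  have hfull : ∀ a, φ0 ⬝ᵥ a = 0 → a ∈ H φ0 := by
    intro a ha
    rw [pi_eq_sum_univ' a]
    refine sum_mem fun i _ => ?_
    by_cases hi : (i : ℕ) < n - 1
    · exact hall i hi _
    · have : i = il := Fin.ext (by have := i.2; simp [il]; omega)
      subst this
      simp [φ0, ε] at ha
      simp [ha, (H φ0).zero_mem]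
  let Full : (Fin n → F) → Prop := fun φ => ∀ a, φ ⬝ᵥ a = 0 → a ∈ H φ
  have hFconj : ∀ x ∈ G, ∀ φ, Full φ →
      Full (φ ᵥ* ((x⁻¹ : Matrix.SpecialLinearGroup (Fin n) F) : Matrix (Fin n) (Fin n) F)) := by
    intro x hx φ hφ a ha
    have := hconj x φ _ hx (hφ (((x⁻¹ : Matrix.SpecialLinearGroup (Fin n) F) : Matrix (Fin n) (Fin n) F) *ᵥ a)
      (by rw [dotProduct_mulVec]; exact ha))
    rwa [mulVec_mulVec, ← Matrix.SpecialLinearGroup.coe_mul, mul_inv_cancel, Matrix.SpecialLinearGroup.coe_one,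
      one_mulVec] at this
  have hFr : ∀ k : ℕ, Full (r ᵥ* (u : Matrix (Fin n) (Fin n) F) ^ k) := by
    intro k
    induction k with
    | zero => rw [pow_zero, vecMul_one]; exact hFconj v hvG φ0 hfull
    | succ k ih =>
      have := hFconj _ (inv_mem hu) _ ih
      simpa [pow_succ, vecMul_vecMul] using this
  set S := Submodule.span F (Set.range fun k : ℕ => r ᵥ* (u : Matrix (Fin n) (Fin n) F) ^ k)
  have hSN : ∀ x ∈ S, x ᵥ* ((u : Matrix (Fin n) (Fin n) F) - 1) ∈ S := by
    intro x hx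
    rw [vecMul_sub, vecMul_one]
    refine sub_mem ?_ hx
    induction hx using Submodule.span_induction with
    | mem y hy =>
      obtain ⟨k, rfl⟩ := hy
      exact Submodule.subset_span ⟨k + 1, by simp [pow_succ, vecMul_vecMul]⟩
    | zero => simp
    | add a b _ _ ha hb => rw [add_vecMul]; exact add_mem ha hb
    | smul t a _ ha => rw [smul_vecMul]; exact S.smul_mem _ ha
  have hN : ∀ (x : Fin n → F) (j : Fin n), (x ᵥ* ((u : Matrix (Fin n) (Fin n) F) - 1)) j =
      if h : 0 < (j : ℕ) then x ⟨j - 1, by omega⟩ else 0 := by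
    intro x j
    rw [← mul_one ((x ᵥ* ((u : Matrix (Fin n) (Fin n) F) - 1)) j), ← dotProduct_single,
      ← dotProduct_mulVec, sub_mulVec, one_mulVec]
    split_ifs with h
    · rw [hshift j h]; simp [ε]
    · have : (u : Matrix (Fin n) (Fin n) F) *ᵥ Pi.single j (1 : F) - Pi.single j 1 = 0 := by
        funext i
        rw [Pi.sub_apply, upperJordan_mulVec, add_sub_cancel_left]
        split_ifs with h'
        · rw [Pi.single_eq_of_ne (by simp [Fin.ext_iff]; omega), Pi.zero_apply]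
        · rfl
      rw [this, dotProduct_zero]
  have hrS : ∀ j : ℕ, r ᵥ* ((u : Matrix (Fin n) (Fin n) F) - 1) ^ j ∈ S := by
    intro j
    induction j with
    | zero => exact Submodule.subset_span ⟨0, by simp⟩
    | succ j ih => rw [pow_succ, ← vecMul_vecMul]; exact hSN _ ih
  have hrN : ∀ (j : ℕ) (i : Fin n), (r ᵥ* ((u : Matrix (Fin n) (Fin n) F) - 1) ^ j) i =
      if h : j ≤ (i : ℕ) then r ⟨i - j, by omega⟩ else 0 := by
    intro j
    induction j with
    | zero => intro i; simp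
    | succ j ih =>
      intro i
      rw [pow_succ, ← vecMul_vecMul, hN]
      split_ifs with h1 h2 h2
      · rw [ih, dif_pos (by simp; omega)]; congr 1; apply Fin.ext; simp; omega
      · rw [ih, dif_neg (by simp; omega)]
      · omega
      · rfl
  have hS : S = ⊤ := by
    let Q : Matrix (Fin n) (Fin n) F := Matrix.of fun j i : Fin n =>
      (r ᵥ* ((u : Matrix (Fin n) (Fin n) F) - 1) ^ (j : ℕ)) i
    have hQ : Q.det ≠ 0 := by
      rw [det_of_upperTriangular]
      · refine Finset.prod_ne_zero_iff.2 fun i _ => ?_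
        simp [Q, hrN]
        exact hr0
      · intro i j hij
        simp only [id_eq] at hij
        simp [Q, hrN]
        intro h; have : (j : ℕ) < i := hij; omega
    rw [eq_top_iff]
    intro x _
    have hx : x = (x ᵥ* Q⁻¹) ᵥ* Q := by
      rw [vecMul_vecMul, Matrix.nonsing_inv_mul _ (isUnit_iff_ne_zero.2 hQ), vecMul_one]
    rw [hx, Matrix.vecMul_eq_sum]
    exact sum_mem fun i _ => S.smul_mem _ (hrS i)
  obtain ⟨s, hs, hspan, hli⟩ := exists_linearIndependent F (Set.range fun k : ℕ => r ᵥ* (u : Matrix (Fin n) (Fin n) F) ^ k)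
  change _ = S at hspan
  rw [hS] at hspan
  let b0 : Module.Basis s F (Fin n → F) := Module.Basis.mk hli (by rw [Subtype.range_coe]; exact hspan.ge)
  haveI : Finite s := hli.finite
  haveI : Fintype s := Fintype.ofFinite s
  let eqv : s ≃ Fin n := Fintype.equivFinOfCardEq
    ((Module.finrank_eq_card_basis b0).symm.trans (Module.finrank_fin_fun F))
  let P : Matrix (Fin n) (Fin n) F := Matrix.of fun i => ((eqv.symm i : s) : Fin n → F)
  have hP : IsUnit P.det := by
    rw [← Matrix.isUnit_iff_isUnit_det, ← Matrix.linearIndependent_rows_iff_isUnit]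
    exact hli.comp _ eqv.symm.injective
  have hrow : ∀ i, Full (P i) := by
    intro i
    obtain ⟨k, hk⟩ := hs (eqv.symm i).2
    have := hFr k
    change r ᵥ* _ = _ at hk
    rw [hk] at this
    exact this
  rw [eq_top_iff]
  intro x _
  let X : Matrix.SpecialLinearGroup (Fin n) F :=
    ⟨P * (x : Matrix (Fin n) (Fin n) F) * P⁻¹, by
      rw [det_mul, det_mul, x.2, mul_one, ← det_mul, Matrix.mul_nonsing_inv _ hP, det_one]⟩
  have key : ∀ X : Matrix.SpecialLinearGroup (Fin n) F, ∃ Y ∈ G,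
      (Y : Matrix (Fin n) (Fin n) F) = P⁻¹ * (X : Matrix (Fin n) (Fin n) F) * P := by
    intro X
    induction X using Cfsg.Agent.Lib.Classical.SL_transvection_induction with
    | h1 => exact ⟨1, one_mem _, by rw [Matrix.SpecialLinearGroup.coe_one, mul_one, Matrix.nonsing_inv_mul _ hP]⟩
    | htransvec i j hij t =>
      have hzero : P j ⬝ᵥ (P⁻¹ *ᵥ (t • Pi.single i 1)) = 0 := by
        change (P *ᵥ (P⁻¹ *ᵥ (t • Pi.single i 1))) j = 0
        rw [mulVec_mulVec, Matrix.mul_nonsing_inv _ hP, one_mulVec]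
        simp [Ne.symm hij]
      obtain ⟨h', hmem⟩ := hrow j _ hzero
      refine ⟨_, hmem, ?_⟩
      rw [coe_tv]
      change _ = P⁻¹ * Matrix.transvection i j t * P
      rw [Matrix.transvection, mul_add, add_mul, mul_one, Matrix.nonsing_inv_mul _ hP]
      congr 1
      rw [show Matrix.single i j t = vecMulVec (t • Pi.single i 1) (Pi.single j 1) by
        ext a b
        rw [vecMulVec_apply, Pi.smul_apply, smul_eq_mul]
        by_cases h1 : a = i
        · by_cases h2 : b = j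
          · rw [h1, h2, Matrix.single_apply_same, Pi.single_eq_same, Pi.single_eq_same, mul_one, mul_one]
          · rw [Matrix.single_apply_of_ne _ _ _ _ _ (by rintro ⟨-, h⟩; exact h2 h.symm), Pi.single_eq_of_ne h2, mul_zero]
        · rw [Matrix.single_apply_of_ne _ _ _ _ _ (by rintro ⟨h, -⟩; exact h1 h.symm), Pi.single_eq_of_ne h1, mul_zero, zero_mul],
        mul_vecMulVec, vecMulVec_mul, single_one_vecMul]
      rfl
    | hmul A B hA hB =>
      obtain ⟨Y, hY, hY'⟩ := hA
      obtain ⟨Z, hZ, hZ'⟩ := hB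
      refine ⟨Y * Z, mul_mem hY hZ, ?_⟩
      rw [Matrix.SpecialLinearGroup.coe_mul, hY', hZ', Matrix.SpecialLinearGroup.coe_mul]
      simp [Matrix.mul_assoc, Matrix.mul_nonsing_inv_cancel_left _ _ hP]
  obtain ⟨Y, hY, hY'⟩ := key X
  have : Y = x := by
    apply Subtype.ext
    rw [hY']
    change P⁻¹ * (P * (x : Matrix (Fin n) (Fin n) F) * P⁻¹) * P = _
    simp [Matrix.mul_assoc, Matrix.nonsing_inv_mul _ hP, Matrix.nonsing_inv_mul_cancel_left _ _ hP]
  exact this ▸ hY

end Cfsg.Agent.Lib.GLn
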